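import Mathlib
import Cfsg.Prelude.Def_Solvable
import Cfsg.Prelude.Def_CaseTheorems

/-!
# Core API for `Cfsg.pCore`, `Cfsg.pPrimeCore`, `Cfsg.oddCore` (helper97, core-lib coordinator)

Normal / characteristic instances, iso-invariance, largest-normal-subgroup characterisations,
behaviour in quotients and in normal subgroups.
-/

set_option autoImplicit false

namespace Cfsg.Agent.Lib.Helper97

open Cfsg

variable {G : Type*} [Group G]

/-- `sSup` of a family of subgroups that is stable under all automorphisms is characteristic. -/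
theorem characteristic_sSup_of_forall_map {S : Set (Subgroup G)}
    (h : ∀ (ϕ : G ≃* G) (N : Subgroup G), N ∈ S → N.map ϕ.toMonoidHom ∈ S) :
    (sSup S).Characteristic := by
  rw [Subgroup.characteristic_iff_map_le]
  intro ϕ
  rw [(Subgroup.gc_map_comap ϕ.toMonoidHom).l_sSup]
  exact iSup₂_le fun N hN => le_sSup (h ϕ N hN)

theorem normal_map_equiv {H : Type*} [Group H] (e : G ≃* H) {N : Subgroup G} (hN : N.Normal) :
    (N.map e.toMonoidHom).Normal :=
  hN.map e.toMonoidHom e.surjective

theorem isPGroup_map_equiv {H : Type*} [Group H] (e : G ≃* H) {p : ℕ} {N : Subgroup G}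
    (hN : IsPGroup p N) : IsPGroup p (N.map e.toMonoidHom) :=
  hN.map e.toMonoidHom

theorem card_map_equiv {H : Type*} [Group H] (e : G ≃* H) (N : Subgroup G) :
    Nat.card (N.map e.toMonoidHom) = Nat.card N :=
  Nat.card_congr (N.equivMapOfInjective e.toMonoidHom e.injective).toEquiv.symm

/-! ### `pCore` -/

theorem pCore_map_le {H : Type*} [Group H] (e : G ≃* H) (p : ℕ) :
    (pCore p G).map e.toMonoidHom ≤ pCore p H := by
  unfold pCore
  rw [(Subgroup.gc_map_comap e.toMonoidHom).l_sSup]
  exact iSup₂_le fun N hN => le_sSup ⟨normal_map_equiv e hN.1, isPGroup_map_equiv e hN.2⟩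

theorem map_map_symm_equiv {H : Type*} [Group H] (e : G ≃* H) (K : Subgroup H) :
    (K.map e.symm.toMonoidHom).map e.toMonoidHom = K := by
  rw [Subgroup.map_map]
  have : e.toMonoidHom.comp e.symm.toMonoidHom = MonoidHom.id H := by
    ext x; simp
  rw [this, Subgroup.map_id]

theorem pCore_map_equiv {H : Type*} [Group H] (e : G ≃* H) (p : ℕ) :
    (pCore p G).map e.toMonoidHom = pCore p H := by
  apply le_antisymm (pCore_map_le e p)
  have h := Subgroup.map_mono (f := e.toMonoidHom) (pCore_map_le e.symm p)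
  rwa [map_map_symm_equiv] at h

instance pCore_characteristic (p : ℕ) : (pCore p G).Characteristic := by
  rw [Subgroup.characteristic_iff_map_le]
  intro ϕ
  exact pCore_map_le ϕ p

instance pCore_normal (p : ℕ) : (pCore p G).Normal := inferInstance

theorem isPGroup_pCore (p : ℕ) (G : Type*) [Group G] : IsPGroup p (pCore p G) :=
  Sylow.sSup_of_normal _ (fun _ h => h.2) (fun _ h => h.1)

theorem le_pCore_of_normal {p : ℕ} {N : Subgroup G} (hN : N.Normal) (hp : IsPGroup p N) :
    N ≤ pCore p G :=
  le_sSup ⟨hN, hp⟩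

theorem pCore_le_sylow' {p : ℕ} (P : Sylow p G) : pCore p G ≤ (P : Subgroup G) :=
  (isPGroup_pCore p G).le_sylow_of_normal P

theorem pCore_eq_bot_iff {p : ℕ} :
    pCore p G = ⊥ ↔ ∀ N : Subgroup G, N.Normal → IsPGroup p N → N = ⊥ := by
  constructor
  · intro h N hN hp
    exact le_bot_iff.mp (h ▸ le_pCore_of_normal hN hp)
  · intro h
    exact h _ (pCore_normal p) (isPGroup_pCore p G)

/-- `O_p(G)` is the intersection of the Sylow `p`-subgroups (finite `G`). -/
theorem pCore_eq_iInf_sylow [Finite G] (p : ℕ) [Fact p.Prime] :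
    pCore p G = ⨅ P : Sylow p G, (P : Subgroup G) := by
  apply le_antisymm
  · exact le_iInf fun P => pCore_le_sylow' P
  · have hnormal : (⨅ P : Sylow p G, (P : Subgroup G)).Normal := by
      refine ⟨fun n hn g => ?_⟩
      rw [Subgroup.mem_iInf] at hn ⊢
      intro P
      have h1 : n ∈ ((g⁻¹ • P : Sylow p G) : Subgroup G) := hn (g⁻¹ • P)
      rw [Sylow.coe_subgroup_smul, Subgroup.mem_pointwise_smul_iff_inv_smul_mem] at h1
      simpa [MulAut.smul_def] using h1
    obtain ⟨P⟩ : Nonempty (Sylow p G) := inferInstance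
    have hp : IsPGroup p (⨅ P : Sylow p G, (P : Subgroup G) : Subgroup G) :=
      P.2.to_le (iInf_le _ P)
    exact le_pCore_of_normal hnormal hp

/-- The `p`-core of `G ⧸ O_p(G)` is trivial. -/
theorem pCore_quotient_pCore (p : ℕ) [Fact p.Prime] :
    pCore p (G ⧸ pCore p G) = ⊥ := by
  rw [pCore_eq_bot_iff]
  intro N hN hp
  -- the preimage of `N` is a normal `p`-subgroup
  have hcomap_normal : (N.comap (QuotientGroup.mk' (pCore p G))).Normal := hN.comap _
  have hcomap_p : IsPGroup p (N.comap (QuotientGroup.mk' (pCore p G))) := by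
    have hker : IsPGroup p (QuotientGroup.mk' (pCore p G)).ker := by
      rw [QuotientGroup.ker_mk']
      exact isPGroup_pCore p G
    exact hp.comap_of_ker_isPGroup _ hker
  have hle := le_pCore_of_normal hcomap_normal hcomap_p
  rw [eq_bot_iff]
  intro x hx
  obtain ⟨g, rfl⟩ := QuotientGroup.mk'_surjective (pCore p G) x
  have hg : g ∈ pCore p G := hle hx
  rw [Subgroup.mem_bot]
  exact (QuotientGroup.eq_one_iff g).mpr hg

/-- `O_p(N) ≤ O_p(G)` for `N` normal in `G` (as subgroups of `G`). -/
theorem map_pCore_le_of_normal (p : ℕ) (N : Subgroup G) [N.Normal] :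
    (pCore p N).map N.subtype ≤ pCore p G := by
  apply le_pCore_of_normal
  · -- characteristic in normal is normal
    refine ⟨fun x hx g => ?_⟩
    obtain ⟨y, hy, rfl⟩ := hx
    have hgy : g * (y : G) * g⁻¹ ∈ N := ‹N.Normal›.conj_mem _ y.2 g
    refine ⟨⟨g * y * g⁻¹, hgy⟩, ?_, rfl⟩
    -- conjugation by `g` is an automorphism of `N`
    have hchar : (pCore p N).Characteristic := pCore_characteristic p
    have := (Subgroup.characteristic_iff_map_le.mp hchar) (MulAut.conjNormal g : N ≃* N)
    apply this
    refine ⟨y, hy, ?_⟩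
    apply Subtype.ext
    simp [MulAut.conjNormal_apply]
  · exact (isPGroup_pCore p N).map N.subtype

/-! ### `pPrimeCore` and `oddCore` -/

theorem pPrimeCore_map_le {H : Type*} [Group H] (e : G ≃* H) (p : ℕ) :
    (pPrimeCore p G).map e.toMonoidHom ≤ pPrimeCore p H := by
  unfold pPrimeCore
  rw [(Subgroup.gc_map_comap e.toMonoidHom).l_sSup]
  refine iSup₂_le fun N hN => le_sSup ⟨normal_map_equiv e hN.1, ?_⟩
  rw [card_map_equiv]
  exact hN.2

theorem pPrimeCore_map_equiv {H : Type*} [Group H] (e : G ≃* H) (p : ℕ) :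
    (pPrimeCore p G).map e.toMonoidHom = pPrimeCore p H := by
  apply le_antisymm (pPrimeCore_map_le e p)
  have h := Subgroup.map_mono (f := e.toMonoidHom) (pPrimeCore_map_le e.symm p)
  rwa [map_map_symm_equiv] at h

instance pPrimeCore_characteristic (p : ℕ) : (pPrimeCore p G).Characteristic := by
  rw [Subgroup.characteristic_iff_map_le]
  intro ϕ
  exact pPrimeCore_map_le ϕ p

instance pPrimeCore_normal (p : ℕ) : (pPrimeCore p G).Normal := inferInstance

theorem le_pPrimeCore_of_normal {p : ℕ} {N : Subgroup G} (hN : N.Normal)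
    (hp : (Nat.card N).Coprime p) : N ≤ pPrimeCore p G :=
  le_sSup ⟨hN, hp⟩

/-- For normal subgroups of a finite group, `|A ⊔ B|` divides `|A| * |B|`. -/
theorem card_sup_dvd_card_mul_card [Finite G] (A B : Subgroup G) [B.Normal] :
    Nat.card (A ⊔ B : Subgroup G) ∣ Nat.card A * Nat.card B := by
  have h1 : Nat.card B * B.relIndex (A ⊔ B) = Nat.card (A ⊔ B : Subgroup G) := by
    rw [Subgroup.relIndex, ← Subgroup.card_mul_index (B.subgroupOf (A ⊔ B))]
    congr 1
    exact (Nat.card_congr (Subgroup.subgroupOfEquivOfLe le_sup_right).toEquiv).symm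
  have h2 : B.relIndex (A ⊔ B) = B.relIndex A := Subgroup.relIndex_sup_right A B
  have h3 : B.relIndex A ∣ Nat.card A := Subgroup.relIndex_dvd_card B A
  rw [← h1, h2, mul_comm]
  exact Nat.mul_dvd_mul h3 dvd_rfl

theorem card_pPrimeCore_coprime [Finite G] (p : ℕ) : (Nat.card (pPrimeCore p G)).Coprime p := by
  classical
  -- finite join of normal subgroups of order coprime to p
  have key : ∀ s : Finset (Subgroup G), (∀ N ∈ s, N.Normal ∧ (Nat.card N).Coprime p) →
      ((s.sup id : Subgroup G).Normal ∧ (Nat.card (s.sup id : Subgroup G)).Coprime p) := by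
    intro s
    induction s using Finset.induction_on with
    | empty =>
      intro _
      simp only [Finset.sup_empty]
      exact ⟨inferInstance, by simp⟩
    | insert N s hNs ih =>
      intro h
      have hN := h N (Finset.mem_insert_self N s)
      obtain ⟨hn, hc⟩ := ih (fun M hM => h M (Finset.mem_insert_of_mem hM))
      rw [Finset.sup_insert, id]
      have := hn
      have := hN.1
      refine ⟨inferInstance, ?_⟩
      exact Nat.Coprime.coprime_dvd_left (card_sup_dvd_card_mul_card N (s.sup id))
        (Nat.Coprime.mul_left hN.2 hc)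
  have hfin : {N : Subgroup G | N.Normal ∧ (Nat.card N).Coprime p}.Finite := Set.toFinite _
  have : pPrimeCore p G = (hfin.toFinset.sup id : Subgroup G) := by
    unfold pPrimeCore
    rw [Finset.sup_id_eq_sSup]
    simp
  rw [this]
  exact (key _ (fun N hN => by simpa using hN)).2

theorem pPrimeCore_eq_bot_iff [Finite G] {p : ℕ} :
    pPrimeCore p G = ⊥ ↔ ∀ N : Subgroup G, N.Normal → (Nat.card N).Coprime p → N = ⊥ := by
  constructor
  · intro h N hN hp
    exact le_bot_iff.mp (h ▸ le_pPrimeCore_of_normal hN hp)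
  · intro h
    exact h _ (pPrimeCore_normal p) (card_pPrimeCore_coprime p)

theorem odd_card_oddCore [Finite G] : Odd (Nat.card (oddCore G)) := by
  have := card_pPrimeCore_coprime (G := G) 2
  exact Nat.Coprime.odd_of_right this

theorem le_oddCore_of_normal_of_odd {N : Subgroup G} (hN : N.Normal) (h : Odd (Nat.card N)) :
    N ≤ oddCore G :=
  le_pPrimeCore_of_normal hN h.coprime_two_right

end Cfsg.Agent.Lib.Helper97
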