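import Mathlib
import Cfsg.Prelude.Def_Transfer
import Cfsg.Prelude.Def_PLocal

set_option autoImplicit false

namespace Cfsg.Agent.Lib.Helper97

open Cfsg

universe u

variable {G : Type u} [Group G]

theorem isElementaryAbelian_bot (p : ℕ) : IsElementaryAbelian p (⊥ : Subgroup G) := by
  refine ⟨⟨⟨?_⟩⟩, ?_⟩
  · rintro ⟨a, ha⟩ ⟨b, hb⟩
    rw [Subgroup.mem_bot] at ha hb
    subst ha hb
    rfl
  · intro a ha
    rw [Subgroup.mem_bot] at ha
    subst ha
    simp

theorem isElementaryAbelian_map {H : Type u} [Group H] (f : G →* H) {p : ℕ} {A : Subgroup G}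
    (hA : IsElementaryAbelian p A) : IsElementaryAbelian p (A.map f) := by
  obtain ⟨hc, hp⟩ := hA
  refine ⟨Subgroup.map_isMulCommutative A f, ?_⟩
  rintro _ ⟨a, ha, rfl⟩
  rw [← map_pow, hp a ha, map_one]

theorem isElementaryAbelian_mono {p : ℕ} {A B : Subgroup G} (h : A ≤ B)
    (hB : IsElementaryAbelian p B) : IsElementaryAbelian p A := by
  obtain ⟨hc, hp⟩ := hB
  refine ⟨⟨⟨?_⟩⟩, fun a ha => hp a (h ha)⟩
  rintro ⟨a, ha⟩ ⟨b, hb⟩
  have := hc.is_comm.comm ⟨a, h ha⟩ ⟨b, h hb⟩
  have h2 : a * b = b * a := congrArg Subtype.val this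
  exact Subtype.ext h2

/-- commutativity of elements in an elementary abelian subgroup -/
theorem IsElementaryAbelian_comm {p : ℕ} {A : Subgroup G} (hA : IsElementaryAbelian p A)
    {a b : G} (ha : a ∈ A) (hb : b ∈ A) : a * b = b * a := by
  have := hA.1.is_comm.comm ⟨a, ha⟩ ⟨b, hb⟩
  exact congrArg Subtype.val this

theorem card_map_of_injective' {H : Type u} [Group H] (f : G →* H) (hf : Function.Injective f)
    (A : Subgroup G) : Nat.card (A.map f) = Nat.card A :=
  Nat.card_congr (A.equivMapOfInjective f hf).toEquiv.symm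

theorem exists_max_elementaryAbelian [Finite G] (p : ℕ) {B : Subgroup G}
    (hB : IsElementaryAbelian p B) :
    ∃ A ∈ maxElementaryAbelianSubgroups p G, Nat.card B ≤ Nat.card A := by
  classical
  have hfin : (Set.univ : Set (Subgroup G)).Finite := Set.finite_univ
  let S : Set (Subgroup G) := {A | IsElementaryAbelian p A}
  have hS : S.Finite := Set.toFinite S
  have hne : S.Nonempty := ⟨B, hB⟩
  obtain ⟨A, hA, hmax⟩ := Set.exists_max_image S (fun A => Nat.card A) hS hne
  exact ⟨A, ⟨hA, fun C hC => hmax C hC⟩, hmax B hB⟩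

theorem maxElementaryAbelian_nonempty [Finite G] (p : ℕ) :
    (maxElementaryAbelianSubgroups p G).Nonempty := by
  obtain ⟨A, hA, _⟩ := exists_max_elementaryAbelian (G := G) p (isElementaryAbelian_bot p)
  exact ⟨A, hA⟩

theorem le_thompsonSubgroup {p : ℕ} {A : Subgroup G} (hA : A ∈ maxElementaryAbelianSubgroups p G) :
    A ≤ thompsonSubgroup p G :=
  le_sSup hA

/-- An isomorphism transports maximal elementary abelian subgroups. -/
theorem map_mem_maxElementaryAbelian {H : Type u} [Group H] (e : G ≃* H) {p : ℕ} {A : Subgroup G}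
    (hA : A ∈ maxElementaryAbelianSubgroups p G) :
    A.map e.toMonoidHom ∈ maxElementaryAbelianSubgroups p H := by
  obtain ⟨hA1, hA2⟩ := hA
  refine ⟨isElementaryAbelian_map _ hA1, fun B hB => ?_⟩
  have h1 : Nat.card (B.map e.symm.toMonoidHom) = Nat.card B :=
    card_map_of_injective' _ e.symm.injective B
  have h2 : Nat.card (A.map e.toMonoidHom) = Nat.card A :=
    card_map_of_injective' _ e.injective A
  rw [h2, ← h1]
  exact hA2 _ (isElementaryAbelian_map _ hB)

theorem thompsonSubgroup_map_equiv {H : Type u} [Group H] (e : G ≃* H) (p : ℕ) :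
    (thompsonSubgroup p G).map e.toMonoidHom = thompsonSubgroup p H := by
  apply le_antisymm
  · unfold thompsonSubgroup
    rw [(Subgroup.gc_map_comap e.toMonoidHom).l_sSup]
    refine iSup₂_le fun A hA => ?_
    exact le_sSup (map_mem_maxElementaryAbelian e hA)
  · unfold thompsonSubgroup
    refine sSup_le fun B hB => ?_
    have hB' := map_mem_maxElementaryAbelian e.symm hB
    have : B = (B.map e.symm.toMonoidHom).map e.toMonoidHom := by
      rw [Subgroup.map_map]
      have : e.toMonoidHom.comp e.symm.toMonoidHom = MonoidHom.id H := by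
        ext x; simp
      rw [this, Subgroup.map_id]
    rw [this]
    exact Subgroup.map_mono (le_sSup hB')

theorem thompsonSubgroup_characteristic (p : ℕ) : (thompsonSubgroup p G).Characteristic := by
  rw [Subgroup.characteristic_iff_map_le]
  intro ϕ
  rw [thompsonSubgroup_map_equiv ϕ p]

theorem isElementaryAbelian_zpowers_of_orderOf_eq {p : ℕ} {x : G} (hx : x ^ p = 1) :
    IsElementaryAbelian p (Subgroup.zpowers x) := by
  refine ⟨inferInstance, ?_⟩
  intro a ha
  obtain ⟨k, rfl⟩ := Subgroup.mem_zpowers_iff.mp ha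
  rw [← zpow_natCast, ← zpow_mul, mul_comm, zpow_mul, zpow_natCast, hx, one_zpow]

theorem thompsonSubgroup_ne_bot [Finite G] {p : ℕ} [Fact p.Prime] (hp : p ∣ Nat.card G) :
    thompsonSubgroup p G ≠ ⊥ := by
  classical
  have : Fintype G := Fintype.ofFinite G
  rw [Nat.card_eq_fintype_card] at hp
  obtain ⟨x, hx⟩ := exists_prime_orderOf_dvd_card p hp
  have hxp : x ^ p = 1 := by rw [← hx]; exact pow_orderOf_eq_one x
  obtain ⟨A, hA, hcard⟩ := exists_max_elementaryAbelian p (isElementaryAbelian_zpowers_of_orderOf_eq hxp)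
  intro hbot
  have hAle : A ≤ ⊥ := hbot ▸ le_thompsonSubgroup hA
  have hAbot : A = ⊥ := le_bot_iff.mp hAle
  rw [Nat.card_zpowers, hx, hAbot] at hcard
  simp at hcard
  exact (Fact.out : p.Prime).one_lt.not_ge hcard

end Cfsg.Agent.Lib.Helper97
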