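import Mathlib
import Cfsg.Prelude.Def_Transfer
import Cfsg.Prelude.Def_PLocal
import Cfsg.Agent.Lib.Helper97.Thompson

set_option autoImplicit false

namespace Cfsg.Agent.Lib.Helper97

open Cfsg

universe u

variable {G : Type u} [Group G]

theorem card_mul_relIndex_of_le {H L : Subgroup G} (h : H ≤ L) :
    Nat.card H * H.relIndex L = Nat.card L := by
  rw [Subgroup.relIndex, ← Subgroup.card_mul_index (H.subgroupOf L)]
  congr 1
  exact (Nat.card_congr (Subgroup.subgroupOfEquivOfLe h).toEquiv).symm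

theorem card_mul_card_le_sup_mul_inf [Finite G] (H K : Subgroup G) :
    Nat.card H * Nat.card K ≤ Nat.card (H ⊔ K : Subgroup G) * Nat.card (H ⊓ K : Subgroup G) := by
  have h1 : Nat.card (H ⊓ K : Subgroup G) * (H ⊓ K).relIndex K = Nat.card K :=
    card_mul_relIndex_of_le inf_le_right
  have h2 : Nat.card H * H.relIndex (H ⊔ K) = Nat.card (H ⊔ K : Subgroup G) :=
    card_mul_relIndex_of_le le_sup_left
  have h3 : (H ⊓ K).relIndex K = H.relIndex K := Subgroup.inf_relIndex_right H K
  have h4 : H.relIndex K ≤ H.relIndex (H ⊔ K) :=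
    Subgroup.relIndex_le_of_le_right le_sup_right (by
      have : (H.subgroupOf (H ⊔ K)).FiniteIndex := inferInstance
      exact this.index_ne_zero)
  rw [← h1, ← h2, h3]
  calc Nat.card H * (Nat.card (H ⊓ K : Subgroup G) * H.relIndex K)
      ≤ Nat.card H * (Nat.card (H ⊓ K : Subgroup G) * H.relIndex (H ⊔ K)) := by gcongr
    _ = _ := by ring

theorem isElementaryAbelian_closure {p : ℕ} {S : Set G}
    (hcomm : ∀ a ∈ S, ∀ b ∈ S, a * b = b * a)
    (hp : ∀ a ∈ S, a ^ p = 1) : IsElementaryAbelian p (Subgroup.closure S) := by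
  have hc : IsMulCommutative (Subgroup.closure S) := Subgroup.isMulCommutative_closure hcomm
  refine ⟨hc, ?_⟩
  intro a ha
  induction ha using Subgroup.closure_induction with
  | mem x hx => exact hp x hx
  | one => simp
  | mul x y hx hy ihx ihy =>
    have hxy : Commute x y := by
      have := hc.is_comm.comm ⟨x, hx⟩ ⟨y, hy⟩
      exact congrArg Subtype.val this
    rw [hxy.mul_pow, ihx, ihy, one_mul]
  | inv x hx ih => rw [inv_pow, ih, inv_one]

theorem isElementaryAbelian_sup {p : ℕ} {A B : Subgroup G} (hA : IsElementaryAbelian p A)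
    (hB : IsElementaryAbelian p B) (hAB : ∀ a ∈ A, ∀ b ∈ B, a * b = b * a) :
    IsElementaryAbelian p (A ⊔ B) := by
  have : A ⊔ B = Subgroup.closure ((A : Set G) ∪ B) := by
    rw [Subgroup.closure_union, Subgroup.closure_eq, Subgroup.closure_eq]
  rw [this]
  apply isElementaryAbelian_closure
  · rintro a (ha | ha) b (hb | hb)
    · exact IsElementaryAbelian_comm hA ha hb
    · exact hAB a ha b hb
    · exact (hAB b hb a ha).symm
    · exact IsElementaryAbelian_comm hB ha hb
  · rintro a (ha | ha)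
    · exact hA.2 a ha
    · exact hB.2 a ha

theorem isElementaryAbelian_comap_of_injective {H : Type u} [Group H] (f : H →* G)
    (hf : Function.Injective f) {p : ℕ} {A : Subgroup G} (hA : IsElementaryAbelian p A) :
    IsElementaryAbelian p (A.comap f) := by
  refine ⟨⟨⟨?_⟩⟩, ?_⟩
  · rintro ⟨x, hx⟩ ⟨y, hy⟩
    apply Subtype.ext
    apply hf
    show f (x * y) = f (y * x)
    rw [map_mul, map_mul]
    exact IsElementaryAbelian_comm hA hx hy
  · intro x hx
    apply hf
    rw [map_pow, map_one]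
    exact hA.2 _ hx

theorem isElementaryAbelian_subgroupOf {p : ℕ} {A : Subgroup G} (U : Subgroup G)
    (hA : IsElementaryAbelian p A) : IsElementaryAbelian p (A.subgroupOf U) :=
  isElementaryAbelian_comap_of_injective U.subtype U.subtype_injective hA

theorem isElementaryAbelian_of_map_subtype {p : ℕ} (U : Subgroup G) {B : Subgroup U}
    (hB : IsElementaryAbelian p (B.map U.subtype)) : IsElementaryAbelian p B := by
  have := isElementaryAbelian_comap_of_injective U.subtype U.subtype_injective hB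
  rwa [Subgroup.comap_map_eq_self_of_injective U.subtype_injective] at this

theorem card_subgroupOf_of_le {A U : Subgroup G} (h : A ≤ U) :
    Nat.card (A.subgroupOf U) = Nat.card A :=
  Nat.card_congr (Subgroup.subgroupOfEquivOfLe h).toEquiv

theorem mem_max_subgroup_iff [Finite G] {p : ℕ} (U : Subgroup G) {A₀ : Subgroup G}
    (hA₀ : A₀ ∈ maxElementaryAbelianSubgroups p G) (hA₀U : A₀ ≤ U) (B : Subgroup U) :
    B ∈ maxElementaryAbelianSubgroups p U ↔
      B.map U.subtype ∈ maxElementaryAbelianSubgroups p G := by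
  have hcardB : Nat.card (B.map U.subtype) = Nat.card B :=
    card_map_of_injective' _ U.subtype_injective B
  constructor
  · rintro ⟨hB1, hB2⟩
    refine ⟨isElementaryAbelian_map _ hB1, fun C hC => ?_⟩
    have h1 := hB2 _ (isElementaryAbelian_subgroupOf U hA₀.1)
    rw [card_subgroupOf_of_le hA₀U] at h1
    rw [hcardB]
    exact (hA₀.2 C hC).trans h1
  · rintro ⟨hB1, hB2⟩
    refine ⟨isElementaryAbelian_of_map_subtype U hB1, fun C hC => ?_⟩
    have h1 := hB2 _ (isElementaryAbelian_map U.subtype hC)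
    rw [hcardB, card_map_of_injective' _ U.subtype_injective C] at h1
    exact h1

theorem thompsonSubgroupOf_eq_sSup [Finite G] {p : ℕ} (U : Subgroup G) {A₀ : Subgroup G}
    (hA₀ : A₀ ∈ maxElementaryAbelianSubgroups p G) (hA₀U : A₀ ≤ U) :
    thompsonSubgroupOf p U = sSup {A | A ∈ maxElementaryAbelianSubgroups p G ∧ A ≤ U} := by
  unfold thompsonSubgroupOf thompsonSubgroup
  rw [(Subgroup.gc_map_comap U.subtype).l_sSup]
  apply le_antisymm
  · refine iSup₂_le fun B hB => ?_
    refine le_sSup ⟨(mem_max_subgroup_iff U hA₀ hA₀U B).mp hB, ?_⟩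
    exact Subgroup.map_subtype_le B
  · refine sSup_le fun A hA => ?_
    obtain ⟨hA1, hA2⟩ := hA
    have hAeq : (A.subgroupOf U).map U.subtype = A := by
      rw [Subgroup.subgroupOf_map_subtype]
      exact inf_of_le_left hA2
    have hmem : A.subgroupOf U ∈ maxElementaryAbelianSubgroups p U := by
      rw [mem_max_subgroup_iff U hA₀ hA₀U, hAeq]
      exact hA1
    calc A = (A.subgroupOf U).map U.subtype := hAeq.symm
      _ ≤ _ := le_iSup₂ (f := fun B (_ : B ∈ maxElementaryAbelianSubgroups p U) => B.map U.subtype) _ hmem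

theorem thompsonSubgroupOf_eq_of_le [Finite G] {p : ℕ} (U : Subgroup G)
    (hU : thompsonSubgroup p G ≤ U) : thompsonSubgroupOf p U = thompsonSubgroup p G := by
  obtain ⟨A₀, hA₀⟩ := maxElementaryAbelian_nonempty (G := G) p
  rw [thompsonSubgroupOf_eq_sSup U hA₀ ((le_thompsonSubgroup hA₀).trans hU)]
  unfold thompsonSubgroup
  congr 1
  ext A
  simp only [Set.mem_ofPred_eq, and_iff_left_iff_imp]
  intro hA
  exact (le_thompsonSubgroup hA).trans hU

theorem isPGroup_of_isElementaryAbelian {p : ℕ} {A : Subgroup G} (hA : IsElementaryAbelian p A) :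
    IsPGroup p A := by
  intro a
  refine ⟨1, ?_⟩
  apply Subtype.ext
  simp only [pow_one, Subgroup.coe_pow, Subgroup.coe_one]
  exact hA.2 _ a.2

theorem exists_max_le_sylow [Finite G] {p : ℕ} [Fact p.Prime] (S : Sylow p G) :
    ∃ A ∈ maxElementaryAbelianSubgroups p G, A ≤ (S : Subgroup G) := by
  obtain ⟨A₀, hA₀⟩ := maxElementaryAbelian_nonempty (G := G) p
  obtain ⟨Q, hQ⟩ := (isPGroup_of_isElementaryAbelian hA₀.1).exists_le_sylow
  obtain ⟨g, rfl⟩ := MulAction.exists_smul_eq G Q S
  refine ⟨A₀.map (MulAut.conj g).toMonoidHom, map_mem_maxElementaryAbelian (MulAut.conj g) hA₀, ?_⟩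
  rw [Sylow.coe_subgroup_smul, Subgroup.pointwise_smul_def]
  exact Subgroup.map_mono hQ

theorem thompsonSubgroup_eq_iSup_sylow [Finite G] {p : ℕ} [Fact p.Prime] :
    thompsonSubgroup p G = ⨆ S : Sylow p G, thompsonSubgroupOf p (S : Subgroup G) := by
  apply le_antisymm
  · refine sSup_le fun A hA => ?_
    obtain ⟨Q, hQ⟩ := (isPGroup_of_isElementaryAbelian hA.1).exists_le_sylow
    refine le_trans ?_ (le_iSup _ Q)
    rw [thompsonSubgroupOf_eq_sSup (Q : Subgroup G) hA hQ]
    exact le_sSup ⟨hA, hQ⟩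
  · refine iSup_le fun S => ?_
    obtain ⟨A₀, hA₀, hA₀S⟩ := exists_max_le_sylow S
    rw [thompsonSubgroupOf_eq_sSup (S : Subgroup G) hA₀ hA₀S]
    exact sSup_le_sSup fun A hA => hA.1

end Cfsg.Agent.Lib.Helper97
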