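import Mathlib
import Cfsg.Prelude.Def_Transfer
import Cfsg.Prelude.Def_PLocal
import Cfsg.Agent.Lib.Helper97.Thompson2

set_option autoImplicit false

namespace Cfsg.Agent.Lib.Helper97

open Cfsg

universe u

variable {G : Type u} [Group G]

/-- A maximal elementary abelian subgroup absorbs every elementary abelian subgroup centralizing it. -/
theorem le_of_max_of_commute [Finite G] {p : ℕ} {A B : Subgroup G}
    (hA : A ∈ maxElementaryAbelianSubgroups p G) (hB : IsElementaryAbelian p B)
    (hAB : ∀ a ∈ A, ∀ b ∈ B, a * b = b * a) : B ≤ A := by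
  have hsup : IsElementaryAbelian p (A ⊔ B) := isElementaryAbelian_sup hA.1 hB hAB
  have hcard := hA.2 _ hsup
  have : A = A ⊔ B := Subgroup.eq_of_le_of_card_ge le_sup_left hcard
  rw [this]
  exact le_sup_right

theorem mem_thompsonSubgroup_of_centralizing [Finite G] {p : ℕ} (x : G)
    (hx : x ∈ Subgroup.centralizer (thompsonSubgroup p G : Set G)) (hxp : x ^ p = 1) :
    x ∈ thompsonSubgroup p G := by
  obtain ⟨A₀, hA₀⟩ := maxElementaryAbelian_nonempty (G := G) p
  have hle : Subgroup.zpowers x ≤ A₀ := by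
    apply le_of_max_of_commute hA₀ (isElementaryAbelian_zpowers_of_orderOf_eq hxp)
    intro a ha b hb
    obtain ⟨k, rfl⟩ := Subgroup.mem_zpowers_iff.mp hb
    have h1 : a * x = x * a :=
      Subgroup.mem_centralizer_iff.mp hx a (le_thompsonSubgroup hA₀ ha)
    exact ((Commute.zpow_right h1 k : Commute a (x ^ k))).eq
  exact le_thompsonSubgroup hA₀ (hle (Subgroup.mem_zpowers x))

/-- The centralizer in `V` of `B` commutes elementwise with `B`. -/
theorem commute_of_mem_inf_centralizer {V B : Subgroup G} {b v : G} (hb : b ∈ B)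
    (hv : v ∈ V ⊓ Subgroup.centralizer (B : Set G)) : b * v = v * b :=
  Subgroup.mem_centralizer_iff.mp hv.2 b hb

theorem max_isBestOffenderOn [Finite G] {p : ℕ} (V : Subgroup G)
    (hV : IsElementaryAbelian p V) (A : Subgroup G)
    (hA : A ∈ maxElementaryAbelianSubgroups p G) : IsBestOffenderOn p V A := by
  refine ⟨fun B hBA => ?_, ?_, ?_⟩
  · -- B ⊔ C_V(B) is elementary abelian
    set C := V ⊓ Subgroup.centralizer (B : Set G) with hC
    have hBel : IsElementaryAbelian p B := isElementaryAbelian_mono hBA hA.1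
    have hCel : IsElementaryAbelian p C := isElementaryAbelian_mono inf_le_left hV
    have hsup : IsElementaryAbelian p (B ⊔ C) :=
      isElementaryAbelian_sup hBel hCel (fun b hb c hc => commute_of_mem_inf_centralizer hb hc)
    have h1 : Nat.card (B ⊔ C : Subgroup G) ≤ Nat.card A := hA.2 _ hsup
    have h2 := card_mul_card_le_sup_mul_inf B C
    -- B ⊓ C ≤ V ⊓ C(A)
    have h3 : B ⊓ C ≤ V ⊓ Subgroup.centralizer (A : Set G) := by
      intro x hx
      refine ⟨hx.2.1, ?_⟩
      show x ∈ Subgroup.centralizer (A : Set G)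
      rw [Subgroup.mem_centralizer_iff]
      intro a ha
      exact IsElementaryAbelian_comm hA.1 ha (hBA hx.1)
    have h4 : Nat.card (B ⊓ C : Subgroup G) ≤ Nat.card (V ⊓ Subgroup.centralizer (A : Set G) : Subgroup G) :=
      Nat.card_mono (Set.toFinite _) h3
    calc Nat.card B * Nat.card C ≤ Nat.card (B ⊔ C : Subgroup G) * Nat.card (B ⊓ C : Subgroup G) := h2
      _ ≤ Nat.card A * Nat.card (V ⊓ Subgroup.centralizer (A : Set G) : Subgroup G) :=
        Nat.mul_le_mul h1 h4
  · have : ⁅A, A⁆ = ⊥ := by
      rw [Subgroup.commutator_eq_bot_iff_le_centralizer]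
      intro a ha
      rw [Subgroup.mem_centralizer_iff]
      intro b hb
      exact IsElementaryAbelian_comm hA.1 hb ha
    rw [this]
    exact bot_le
  · intro a ha
    rw [hA.1.2 a ha]
    exact Subgroup.one_mem _

end Cfsg.Agent.Lib.Helper97
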