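import Mathlib
import Cfsg.Prelude.Def_PLocal
import Cfsg.Agent.Lib.Helper97.Thompson

/-!
# Transport of `J(P)` and `Ω₁(Z(P))` along homomorphisms injective on `P` (helper97)

* `thompsonSubgroupOf_map_of_injOn`: `J(f(P)) = f(J(P))` if `f` is injective on `P`;
* `omegaOne_center_map_of_injOn`: `Ω₁(Z(f(P))) = f(Ω₁(Z(P)))` if `f` is injective on `P`;
* `omegaOne_le`, `thompsonSubgroupOf_le`.
-/

set_option autoImplicit false

namespace Cfsg.Agent.Lib.Helper97

open Cfsg

universe u

/-- The isomorphism `P ≃* f(P)` for a homomorphism `f` injective on `P`. -/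
noncomputable def equivMapOfInjOn {G G' : Type*} [Group G] [Group G'] (f : G →* G')
    (P : Subgroup G) (hf : ∀ x ∈ P, f x = 1 → x = 1) : P ≃* P.map f :=
  MulEquiv.ofBijective (f.subgroupMap P)
    ⟨by
      rw [injective_iff_map_eq_one]
      intro x hx
      have h1 : f (x : G) = 1 := by
        have := congrArg Subtype.val hx
        simpa using this
      exact Subtype.ext (hf x x.2 h1), f.subgroupMap_surjective P⟩

theorem equivMapOfInjOn_apply {G G' : Type*} [Group G] [Group G'] (f : G →* G')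
    (P : Subgroup G) (hf : ∀ x ∈ P, f x = 1 → x = 1) (x : P) :
    ((equivMapOfInjOn f P hf x : P.map f) : G') = f x := rfl

theorem thompsonSubgroupOf_le {G : Type u} [Group G] (p : ℕ) (P : Subgroup G) :
    thompsonSubgroupOf p P ≤ P :=
  Subgroup.map_subtype_le _

theorem omegaOne_le {G : Type*} [Group G] (p : ℕ) (H : Subgroup G) : omegaOne p H ≤ H := by
  unfold omegaOne
  rw [Subgroup.closure_le]
  intro x hx
  exact hx.1

theorem thompsonSubgroupOf_map_of_injOn {G G' : Type u} [Group G] [Group G'] (p : ℕ)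
    (f : G →* G') (P : Subgroup G) (hf : ∀ x ∈ P, f x = 1 → x = 1) :
    thompsonSubgroupOf p (P.map f) = (thompsonSubgroupOf p P).map f := by
  have h1 := thompsonSubgroup_map_equiv (equivMapOfInjOn f P hf) p
  unfold thompsonSubgroupOf
  rw [← h1, Subgroup.map_map, Subgroup.map_map]
  congr 1

theorem omegaOne_center_map_of_injOn {G G' : Type*} [Group G] [Group G'] (p : ℕ)
    (f : G →* G') (P : Subgroup G) (hf : ∀ x ∈ P, f x = 1 → x = 1) :
    omegaOne p (P.map f ⊓ Subgroup.centralizer ((P.map f : Subgroup G') : Set G')) =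
      (omegaOne p (P ⊓ Subgroup.centralizer (P : Set G))).map f := by
  unfold omegaOne
  rw [MonoidHom.map_closure]
  congr 1
  ext y
  constructor
  · rintro ⟨⟨⟨x, hx, rfl⟩, hyc⟩, hyp⟩
    refine ⟨x, ⟨⟨hx, ?_⟩, ?_⟩, rfl⟩
    · change x ∈ Subgroup.centralizer (P : Set G)
      replace hyc : f x ∈ Subgroup.centralizer ((P.map f : Subgroup G') : Set G') := hyc
      rw [Subgroup.mem_centralizer_iff]
      intro s hs
      have h1 := (Subgroup.mem_centralizer_iff.mp hyc) (f s) (Subgroup.mem_map_of_mem f hs)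
      have h2 : f ((s * x) * (x * s)⁻¹) = 1 := by
        rw [map_mul, map_inv, map_mul, map_mul, h1, mul_inv_cancel]
      have h3 := hf _ (mul_mem (mul_mem hs hx) (inv_mem (mul_mem hx hs))) h2
      exact mul_inv_eq_one.mp h3
    · exact hf (x ^ p) (pow_mem hx p) (by rw [map_pow]; exact hyp)
  · rintro ⟨x, ⟨⟨hx, hxc⟩, hxp⟩, rfl⟩
    refine ⟨⟨Subgroup.mem_map_of_mem f hx, ?_⟩, ?_⟩
    · change f x ∈ Subgroup.centralizer ((P.map f : Subgroup G') : Set G')
      replace hxc : x ∈ Subgroup.centralizer (P : Set G) := hxc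
      rw [Subgroup.mem_centralizer_iff]
      rintro _ ⟨s, hs, rfl⟩
      rw [← map_mul, ← map_mul, (Subgroup.mem_centralizer_iff.mp hxc) s hs]
    · rw [← map_pow, hxp, map_one]

end Cfsg.Agent.Lib.Helper97
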