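import Mathlib
import Cfsg.Prelude.Def_PLocal
import Cfsg.Agent.Lib.Helper97.Thompson3
import Cfsg.Agent.Lib.Helper97.ThompsonMap

/-!
# `Cfsg.omegaOne`, `Cfsg.omegaCenterThompson` API (helper97)

* `omegaOne_mono`, `omegaOne_map_of_injective`, `omegaOne_map_equiv`, `omegaOne_normal`,
  `omegaOne_ne_bot` (nontrivial `p`-subgroup), `mem_omegaOne`;
* `center_map_equiv`, `omegaOne_center_map_equiv`;
* `omegaCenterThompson_map_equiv`, `omegaCenterThompson_map_of_injective`,
  `omegaOne_center_le_omegaCenterThompson`.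
-/

set_option autoImplicit false

namespace Cfsg.Agent.Lib.Helper97

open Cfsg

universe u

theorem mem_omegaOne {G : Type*} [Group G] {p : ℕ} {H : Subgroup G} {x : G} (hx : x ∈ H)
    (hxp : x ^ p = 1) : x ∈ omegaOne p H :=
  Subgroup.subset_closure ⟨hx, hxp⟩

theorem omegaOne_mono {G : Type*} [Group G] (p : ℕ) {H K : Subgroup G} (h : H ≤ K) :
    omegaOne p H ≤ omegaOne p K :=
  Subgroup.closure_mono fun _ hx => ⟨h hx.1, hx.2⟩

theorem omegaOne_map_of_injective {G G' : Type*} [Group G] [Group G'] (p : ℕ) (f : G →* G')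
    (hf : Function.Injective f) (H : Subgroup G) :
    (omegaOne p H).map f = omegaOne p (H.map f) := by
  unfold omegaOne
  rw [MonoidHom.map_closure]
  congr 1
  ext y
  constructor
  · rintro ⟨x, ⟨hx, hxp⟩, rfl⟩
    exact ⟨Subgroup.mem_map_of_mem f hx, by rw [← map_pow, hxp, map_one]⟩
  · rintro ⟨⟨x, hx, rfl⟩, hyp⟩
    refine ⟨x, ⟨hx, ?_⟩, rfl⟩
    apply hf
    rw [map_pow, map_one]
    exact hyp

theorem omegaOne_map_equiv {G G' : Type*} [Group G] [Group G'] (p : ℕ) (e : G ≃* G')
    (H : Subgroup G) : (omegaOne p H).map e.toMonoidHom = omegaOne p (H.map e.toMonoidHom) :=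
  omegaOne_map_of_injective p e.toMonoidHom e.injective H

/-- `Ω₁` of a normal subgroup is normal. -/
theorem omegaOne_normal {G : Type*} [Group G] (p : ℕ) (H : Subgroup G) [hH : H.Normal] :
    (omegaOne p H).Normal := by
  constructor
  intro n hn g
  have h1 : (MulAut.conj g).toMonoidHom n ∈ (omegaOne p H).map (MulAut.conj g).toMonoidHom :=
    Subgroup.mem_map_of_mem _ hn
  have h2 : (omegaOne p H).map (MulAut.conj g).toMonoidHom ≤ omegaOne p H := by
    unfold omegaOne
    rw [MonoidHom.map_closure]
    apply Subgroup.closure_mono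
    rintro _ ⟨x, ⟨hx, hxp⟩, rfl⟩
    refine ⟨hH.conj_mem x hx g, ?_⟩
    change (MulAut.conj g x) ^ p = 1
    rw [← map_pow, hxp, map_one]
  exact h2 h1

theorem center_map_equiv {G G' : Type*} [Group G] [Group G'] (e : G ≃* G') :
    (Subgroup.center G).map e.toMonoidHom = Subgroup.center G' := by
  ext y
  constructor
  · rintro ⟨x, hx, rfl⟩
    rw [Subgroup.mem_center_iff]
    intro z
    obtain ⟨w, rfl⟩ := e.surjective z
    change e w * e x = e x * e w
    rw [← map_mul, ← map_mul, Subgroup.mem_center_iff.mp hx w]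
  · intro hy
    refine ⟨e.symm y, ?_, by simp⟩
    change e.symm y ∈ Subgroup.center G
    rw [Subgroup.mem_center_iff]
    intro z
    apply e.injective
    rw [map_mul, map_mul, e.apply_symm_apply]
    exact Subgroup.mem_center_iff.mp hy (e z)

theorem omegaOne_center_map_equiv {G G' : Type*} [Group G] [Group G'] (p : ℕ) (e : G ≃* G') :
    (omegaOne p (Subgroup.center G)).map e.toMonoidHom = omegaOne p (Subgroup.center G') := by
  rw [omegaOne_map_equiv, center_map_equiv]

/-- `Ω₁` of a nontrivial finite `p`-subgroup is nontrivial. -/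
theorem omegaOne_ne_bot {G : Type*} [Group G] [Finite G] {p : ℕ} [Fact p.Prime] {H : Subgroup G}
    (hH : IsPGroup p H) (hne : H ≠ ⊥) : omegaOne p H ≠ ⊥ := by
  have hnt : Nontrivial H := (Subgroup.nontrivial_iff_ne_bot H).mpr hne
  obtain ⟨k, hk⟩ := IsPGroup.iff_card.mp hH
  have hk0 : k ≠ 0 := by
    rintro rfl
    rw [pow_zero] at hk
    have : Subsingleton H := (Nat.card_eq_one_iff_unique.mp hk).1
    exact not_subsingleton H this
  have hdvd : p ∣ Nat.card H := by
    rw [hk]
    exact dvd_pow_self p hk0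
  obtain ⟨x, hx⟩ := exists_prime_orderOf_dvd_card' p hdvd
  have hx1 : (x : G) ^ p = 1 := by
    have : x ^ p = 1 := by rw [← hx]; exact pow_orderOf_eq_one x
    have := congrArg Subtype.val this
    simpa using this
  have hxne : (x : G) ≠ 1 := by
    intro h
    have : x = 1 := Subtype.ext h
    rw [this, orderOf_one] at hx
    exact (Fact.out : p.Prime).one_lt.ne' hx.symm
  intro hbot
  have : (x : G) ∈ omegaOne p H := mem_omegaOne x.2 hx1
  rw [hbot, Subgroup.mem_bot] at this
  exact hxne this

theorem omegaCenterThompson_map_of_injective {S H : Type u} [Group S] [Group H] (p : ℕ)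
    (τ : S →* H) (hτ : Function.Injective τ) :
    (omegaCenterThompson p S).map τ =
      omegaOne p ((thompsonSubgroup p S).map τ ⊓
        Subgroup.centralizer (((thompsonSubgroup p S).map τ : Subgroup H) : Set H)) := by
  unfold omegaCenterThompson
  rw [omegaOne_center_map_of_injOn p τ (thompsonSubgroup p S)
    (fun x _ hx => hτ (by rw [hx, map_one]))]

theorem omegaCenterThompson_map_equiv {S S' : Type u} [Group S] [Group S'] (p : ℕ)
    (e : S ≃* S') : (omegaCenterThompson p S).map e.toMonoidHom = omegaCenterThompson p S' := by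
  rw [omegaCenterThompson_map_of_injective p e.toMonoidHom e.injective,
    thompsonSubgroup_map_equiv e p]
  rfl

/-- The image of `Ω₁(Z(J(S)))` under an injective homomorphism is normal as soon as the image of
`J(S)` is. -/
theorem omegaCenterThompson_map_normal {S H : Type u} [Group S] [Group H] (p : ℕ)
    (τ : S →* H) (hτ : Function.Injective τ) (hJ : ((thompsonSubgroup p S).map τ).Normal) :
    ((omegaCenterThompson p S).map τ).Normal := by
  rw [omegaCenterThompson_map_of_injective p τ hτ]
  have := hJ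
  have : (Subgroup.centralizer (((thompsonSubgroup p S).map τ : Subgroup H) : Set H)).Normal :=
    Subgroup.normal_centralizer
  have : ((thompsonSubgroup p S).map τ ⊓
      Subgroup.centralizer (((thompsonSubgroup p S).map τ : Subgroup H) : Set H)).Normal :=
    Subgroup.normal_inf_normal _ _
  exact omegaOne_normal p _

/-- `Ω₁(Z(S)) ≤ Ω₁(Z(J(S)))`. -/
theorem omegaOne_center_le_omegaCenterThompson {S : Type u} [Group S] [Finite S] (p : ℕ) :
    omegaOne p (Subgroup.center S) ≤ omegaCenterThompson p S := by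
  unfold omegaCenterThompson omegaOne
  apply Subgroup.closure_mono
  rintro x ⟨hx, hxp⟩
  have hc : x ∈ Subgroup.centralizer (thompsonSubgroup p S : Set S) := by
    rw [Subgroup.mem_centralizer_iff]
    intro y _
    exact Subgroup.mem_center_iff.mp hx y
  exact ⟨⟨mem_thompsonSubgroup_of_centralizing x hc hxp, hc⟩, hxp⟩

end Cfsg.Agent.Lib.Helper97
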