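import Mathlib
import Cfsg.Prelude.Def_Solvable
import Cfsg.Prelude.Def_Transfer
import Cfsg.Agent.Lib.Helper97.Cores

/-!
# `O_p(G / C)` for a normal subgroup `C` (helper97)
-/

set_option autoImplicit false

namespace Cfsg.Agent.Lib.Helper97

open Cfsg

variable {G : Type*} [Group G]

/-- If `N` is a normal `p`-subgroup of `G ⧸ C` and `S` a Sylow `p`-subgroup of the finite group `G`, every
element of `N` is represented by an element of `S`. -/
theorem exists_mem_sylow_mk_eq [Finite G] {p : ℕ} [Fact p.Prime] (C : Subgroup G) [C.Normal]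
    (N : Subgroup (G ⧸ C)) [N.Normal] (hN : IsPGroup p N) (S : Sylow p G) {g : G}
    (hg : (QuotientGroup.mk g : G ⧸ C) ∈ N) : ∃ s ∈ (S : Subgroup G), ∃ c ∈ C, g = s * c := by
  have hsurj : Function.Surjective (QuotientGroup.mk' C) := QuotientGroup.mk'_surjective C
  have hle : N ≤ (S.mapSurjective hsurj : Subgroup (G ⧸ C)) := hN.le_sylow_of_normal _
  have hmem := hle hg
  rw [Sylow.coe_mapSurjective] at hmem
  obtain ⟨s, hs, hsg⟩ := hmem
  refine ⟨s, hs, s⁻¹ * g, ?_, by group⟩
  have : (QuotientGroup.mk (s⁻¹ * g) : G ⧸ C) = 1 := by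
    rw [QuotientGroup.mk_mul, QuotientGroup.mk_inv]
    have : (QuotientGroup.mk s : G ⧸ C) = QuotientGroup.mk g := hsg
    rw [this, inv_mul_cancel]
  exact (QuotientGroup.eq_one_iff _).mp this

/-- Criterion for `O_p(G ⧸ C) = 1` in terms of subgroups of `G`. -/
theorem pCore_quotient_eq_bot_of_forall {p : ℕ} (C : Subgroup G) [C.Normal]
    (h : ∀ g : G, (∃ N : Subgroup (G ⧸ C), N.Normal ∧ IsPGroup p N ∧ (QuotientGroup.mk g : G ⧸ C) ∈ N) →
      g ∈ C) : pCore p (G ⧸ C) = ⊥ := by
  rw [pCore_eq_bot_iff]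
  intro N hN hp
  rw [eq_bot_iff]
  intro x hx
  obtain ⟨g, rfl⟩ := QuotientGroup.mk'_surjective C x
  rw [Subgroup.mem_bot]
  exact (QuotientGroup.eq_one_iff g).mpr (h g ⟨N, hN, hp, hx⟩)

/-- If `O_p(G ⧸ C) = 1`, `D` is normal in `G` with `C ≤ D` and `|D : C|` a power of `p`, then `D = C`. -/
theorem eq_of_pCore_quotient_eq_bot [Finite G] {p : ℕ} [Fact p.Prime] (C : Subgroup G) [C.Normal]
    (h : pCore p (G ⧸ C) = ⊥) (D : Subgroup G) (hD : D.Normal) (hCD : C ≤ D)
    (hk : ∃ k : ℕ, C.relIndex D = p ^ k) : D = C := by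
  apply le_antisymm _ hCD
  -- image of D in G/C is a normal p-subgroup
  have hnorm : (D.map (QuotientGroup.mk' C)).Normal :=
    hD.map _ (QuotientGroup.mk'_surjective C)
  have hcard : Nat.card (D.map (QuotientGroup.mk' C)) = C.relIndex D := by
    have := Subgroup.relIndex_ker (K := D) (QuotientGroup.mk' C)
    rw [QuotientGroup.ker_mk'] at this
    exact this.symm
  have hp : IsPGroup p (D.map (QuotientGroup.mk' C)) := by
    obtain ⟨k, hk⟩ := hk
    exact IsPGroup.of_card (n := k) (hcard.trans hk)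
  have hbot := (pCore_eq_bot_iff.mp h) _ hnorm hp
  intro d hd
  have : (QuotientGroup.mk' C d) ∈ D.map (QuotientGroup.mk' C) := Subgroup.mem_map_of_mem _ hd
  rw [hbot, Subgroup.mem_bot] at this
  exact (QuotientGroup.eq_one_iff d).mp this

/-- **S0600**: a normal elementary abelian `p`-subgroup generated by the fixed points of the Sylow
`p`-subgroups has `O_p(G / C_G(V)) = 1`. -/
theorem pCore_quotient_centralizer_eq_bot [Finite G] {p : ℕ} [Fact p.Prime] (V : Subgroup G) [V.Normal]
    (hgen : V = ⨆ S : Sylow p G, V ⊓ Subgroup.centralizer ((S : Subgroup G) : Set G)) :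
    pCore p (G ⧸ Subgroup.centralizer (V : Set G)) = ⊥ := by
  apply pCore_quotient_eq_bot_of_forall
  rintro g ⟨N, hN, hp, hg⟩
  -- g centralizes each V ⊓ C(S)
  have key : ∀ S : Sylow p G, V ⊓ Subgroup.centralizer ((S : Subgroup G) : Set G) ≤
      Subgroup.centralizer {g} := by
    intro S v hv
    obtain ⟨s, hs, c, hc, rfl⟩ := exists_mem_sylow_mk_eq _ N hp S hg
    rw [Subgroup.mem_centralizer_singleton_iff]
    have h1 : s * v = v * s := Subgroup.mem_centralizer_iff.mp hv.2 s hs
    have h2 : v * c = c * v := Subgroup.mem_centralizer_iff.mp hc v hv.1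
    calc v * (s * c) = (v * s) * c := by group
      _ = (s * v) * c := by rw [h1]
      _ = s * (v * c) := by group
      _ = s * (c * v) := by rw [h2]
      _ = s * c * v := by group
  have hV : V ≤ Subgroup.centralizer {g} := by
    rw [hgen]
    exact iSup_le key
  rw [Subgroup.mem_centralizer_iff]
  intro v hv
  have := hV hv
  rw [Subgroup.mem_centralizer_singleton_iff] at this
  exact this

end Cfsg.Agent.Lib.Helper97
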