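import Mathlib
import Cfsg.Agent.Lib.Helper97.PCoreQuot

/-!
# Nilpotent action (helper97)

If `A` normalises the `p`-subgroup `V` of a finite group and induces a `p`-group of automorphisms on it, then
`W ≤ ⁅W, A⁆` forces `W = 1` for `W ≤ V`.
-/

set_option autoImplicit false

namespace Cfsg.Agent.Lib.Helper97

open scoped commutatorElement

variable {G : Type*} [Group G]

/-- `C_A(V)` is normal in `A` when `A` normalises `V`. -/
theorem centralizer_subgroupOf_normal {V A : Subgroup G}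
    (hAV : A ≤ Subgroup.normalizer (V : Set G)) :
    ((Subgroup.centralizer (V : Set G)).subgroupOf A).Normal := by
  refine ⟨fun c hc a => ?_⟩
  rw [Subgroup.mem_subgroupOf] at hc ⊢
  rw [Subgroup.mem_centralizer_iff] at hc ⊢
  intro v hv
  have hv' : (a : G)⁻¹ * v * (a : G) ∈ V := by
    have := (Subgroup.mem_normalizer_iff.mp (hAV (A.inv_mem a.2)) v).mp hv
    simpa using this
  have h1 := hc _ hv'
  simp only [Subgroup.coe_mul, Subgroup.coe_inv]
  calc v * ((a : G) * (c : G) * (a : G)⁻¹)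
      = (a : G) * (((a : G)⁻¹ * v * (a : G)) * (c : G)) * (a : G)⁻¹ := by group
    _ = (a : G) * ((c : G) * ((a : G)⁻¹ * v * (a : G))) * (a : G)⁻¹ := by rw [h1]
    _ = (a : G) * (c : G) * (a : G)⁻¹ * v := by group

/-- If `A / C_A(V)` is a `p`-group, then `A = P C_A(V)` for every Sylow `p`-subgroup `P` of `A`. -/
theorem exists_sylow_mul_centralizer [Finite G] {p : ℕ} [Fact p.Prime] {V A : Subgroup G}
    (hAV : A ≤ Subgroup.normalizer (V : Set G))
    (hAp : ∀ a ∈ A, ∃ k : ℕ, a ^ (p ^ k) ∈ Subgroup.centralizer (V : Set G))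
    (P : Sylow p A) {a : G} (ha : a ∈ A) :
    ∃ s ∈ (P : Subgroup A).map A.subtype, ∃ c ∈ A ⊓ Subgroup.centralizer (V : Set G), a = s * c := by
  have hn : ((Subgroup.centralizer (V : Set G)).subgroupOf A).Normal :=
    centralizer_subgroupOf_normal hAV
  set C := (Subgroup.centralizer (V : Set G)).subgroupOf A with hC
  have hquot : IsPGroup p (A ⧸ C) := by
    intro x
    obtain ⟨b, rfl⟩ := QuotientGroup.mk_surjective x
    obtain ⟨k, hk⟩ := hAp b b.2
    refine ⟨k, ?_⟩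
    rw [← QuotientGroup.mk_pow, QuotientGroup.eq_one_iff, hC, Subgroup.mem_subgroupOf]
    simpa using hk
  have htop : IsPGroup p (⊤ : Subgroup (A ⧸ C)) := hquot.to_subgroup _
  obtain ⟨s, hs, c, hc, hsc⟩ := exists_mem_sylow_mk_eq C ⊤ htop P (g := ⟨a, ha⟩) (Subgroup.mem_top _)
  refine ⟨s, ⟨s, hs, rfl⟩, c, ⟨c.2, ?_⟩, ?_⟩
  · rw [hC, Subgroup.mem_subgroupOf] at hc
    exact hc
  · have := congrArg Subtype.val hsc
    simpa using this

/-- **Nilpotent action.** -/
theorem eq_bot_of_le_commutator_of_pGroup_action [Finite G] {p : ℕ} [Fact p.Prime] {V A W : Subgroup G}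
    (hV : IsPGroup p V) (hAV : A ≤ Subgroup.normalizer (V : Set G))
    (hAp : ∀ a ∈ A, ∃ k : ℕ, a ^ (p ^ k) ∈ Subgroup.centralizer (V : Set G))
    (hWV : W ≤ V) (hW : W ≤ ⁅W, A⁆) : W = ⊥ := by
  obtain ⟨P⟩ : Nonempty (Sylow p A) := inferInstance
  set P' : Subgroup G := (P : Subgroup A).map A.subtype with hP'
  have hP'A : P' ≤ A := by
    rintro _ ⟨x, _, rfl⟩
    exact x.2
  have hP'p : IsPGroup p P' := P.2.map A.subtype
  have hQp : IsPGroup p (P' ⊔ V : Subgroup G) :=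
    hP'p.to_sup_of_normal_right' hV (hP'A.trans hAV)
  set Q : Subgroup G := P' ⊔ V with hQ
  have hQnil : Group.IsNilpotent Q := hQp.isNilpotent
  -- ⁅W, A⁆ ≤ ⁅W, P'⁆
  have hcomm : ⁅W, A⁆ ≤ ⁅W, P'⁆ := by
    rw [Subgroup.commutator_le]
    intro w hw a ha
    obtain ⟨s, hs, c, hc, rfl⟩ := exists_sylow_mul_centralizer hAV hAp P ha
    have hwc : w⁻¹ * c = c * w⁻¹ :=
      Subgroup.mem_centralizer_iff.mp hc.2 _ (V.inv_mem (hWV hw))
    have : ⁅w, s * c⁆ = ⁅w, s⁆ := by
      rw [commutatorElement_def, commutatorElement_def]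
      calc w * (s * c) * w⁻¹ * (s * c)⁻¹ = w * s * (c * w⁻¹) * c⁻¹ * s⁻¹ := by group
        _ = w * s * (w⁻¹ * c) * c⁻¹ * s⁻¹ := by rw [hwc]
        _ = w * s * w⁻¹ * s⁻¹ := by group
    rw [this]
    exact Subgroup.commutator_mem_commutator hw hs
  have key : ∀ n : ℕ, W ≤ Q.lowerCentralSeries n := by
    intro n
    induction n with
    | zero =>
      rw [Subgroup.lowerCentralSeries_zero]
      exact hWV.trans le_sup_right
    | succ n ih =>
      rw [Subgroup.lowerCentralSeries_succ]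
      calc W ≤ ⁅W, A⁆ := hW
        _ ≤ ⁅W, P'⁆ := hcomm
        _ ≤ ⁅Q.lowerCentralSeries n, Q⁆ := Subgroup.commutator_mono ih le_sup_left
  obtain ⟨n, hn⟩ := (Subgroup.isNilpotent_iff_lowerCentralSeries Q).mp hQnil
  have := key n
  rw [hn] at this
  exact le_bot_iff.mp this

end Cfsg.Agent.Lib.Helper97
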