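import Mathlib

/-!
# Quadratic elements and abelian `p'`-groups of units in a ring of odd characteristic (helper97)

`quad_unit_commute`: let `E` be a ring in which the odd prime `p` is zero, `a` a unit with
`(a - 1)² = 0`, and `R` a finite abelian group of units of order prime to `p` normalized by `a`.
Then `a` centralizes `R`.

This is the ring-theoretic heart of "`p`-stability" for groups whose `p'`-part is abelian
(no `SL₂(p)` can be involved).
-/

set_option autoImplicit false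

namespace Cfsg.Agent.Lib.Helper97

open scoped BigOperators

variable {E : Type*} [Ring E]

theorem quad_unit_commute (p : ℕ) [Fact p.Prime] (hp2 : p ≠ 2) (hpE : (p : E) = 0)
    (a : Eˣ) (ha : ((a : E) - 1) ^ 2 = 0) (R : Subgroup Eˣ) [Finite R]
    (hRc : ∀ r ∈ R, ∀ s ∈ R, r * s = s * r) (hRp : (Nat.card R).Coprime p)
    (hRa : ∀ r ∈ R, a * r * a⁻¹ ∈ R) : ∀ r ∈ R, a * r = r * a := by
  classical
  let _ : Fintype R := Fintype.ofFinite R
  have hp : p.Prime := Fact.out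
  -- `n = a - 1`, `a⁻¹ = 1 - n`
  set n : E := (a : E) - 1 with hn
  have hn2 : n * n = 0 := by rw [← sq]; exact ha
  have ha_eq : (a : E) = 1 + n := by rw [hn]; abel
  have hainv : ((a⁻¹ : Eˣ) : E) = 1 - n := by
    have h1 : (a : E) * (1 - n) = 1 := by
      rw [ha_eq]
      have : (1 + n) * (1 - n) = 1 - n * n := by noncomm_ring
      rw [this, hn2, sub_zero]
    calc ((a⁻¹ : Eˣ) : E) = ((a⁻¹ : Eˣ) : E) * ((a : E) * (1 - n)) := by rw [h1, mul_one]
      _ = (((a⁻¹ : Eˣ) : E) * (a : E)) * (1 - n) := by rw [mul_assoc]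
      _ = 1 - n := by rw [Units.inv_mul, one_mul]
  have hsum2 : (a : E) + ((a⁻¹ : Eˣ) : E) = 2 := by
    rw [ha_eq, hainv]
    have : (1 : E) + n + (1 - n) = 1 + 1 := by abel
    rw [this, one_add_one_eq_two]
  -- the commutator map `κ r = r⁻¹ a r a⁻¹`
  let κ : R → Eˣ := fun r => (r : Eˣ)⁻¹ * (a * r * a⁻¹)
  have hκR : ∀ r : R, κ r ∈ R := fun r => mul_mem (inv_mem r.2) (hRa r r.2)
  have hκmul : ∀ r s : R, κ (r * s) = κ r * κ s := by
    intro r s
    have h1 : a * ((r : Eˣ) * s) * a⁻¹ = (a * r * a⁻¹) * (a * s * a⁻¹) := by group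
    have hc : (s : Eˣ)⁻¹ * (a * r * a⁻¹) = (a * r * a⁻¹) * (s : Eˣ)⁻¹ :=
      hRc _ (inv_mem s.2) _ (hRa r r.2)
    change ((r : Eˣ) * s)⁻¹ * (a * ((r : Eˣ) * s) * a⁻¹) = _
    rw [h1, mul_inv_rev]
    calc (s : Eˣ)⁻¹ * (r : Eˣ)⁻¹ * (a * r * a⁻¹ * (a * s * a⁻¹))
        = ((s : Eˣ)⁻¹ * (r : Eˣ)⁻¹) * (a * r * a⁻¹) * (a * s * a⁻¹) := by group
      _ = ((r : Eˣ)⁻¹ * (s : Eˣ)⁻¹) * (a * r * a⁻¹) * (a * s * a⁻¹) := by
          rw [hRc _ (inv_mem s.2) _ (inv_mem r.2)]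
      _ = (r : Eˣ)⁻¹ * ((s : Eˣ)⁻¹ * (a * r * a⁻¹)) * (a * s * a⁻¹) := by group
      _ = (r : Eˣ)⁻¹ * ((a * r * a⁻¹) * (s : Eˣ)⁻¹) * (a * s * a⁻¹) := by rw [hc]
      _ = ((r : Eˣ)⁻¹ * (a * r * a⁻¹)) * ((s : Eˣ)⁻¹ * (a * s * a⁻¹)) := by group
  have hκone : κ 1 = 1 := by
    change ((1 : R) : Eˣ)⁻¹ * (a * ((1 : R) : Eˣ) * a⁻¹) = 1
    simp
  have hκinv : ∀ r : R, κ r⁻¹ = (κ r)⁻¹ := by
    intro r
    have h1 : κ (r⁻¹ * r) = κ r⁻¹ * κ r := hκmul _ _
    rw [inv_mul_cancel, hκone] at h1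
    exact eq_inv_of_mul_eq_one_left h1.symm
  -- the sum `S = Σ κ r`
  set S : E := ∑ r : R, ((κ r : Eˣ) : E) with hS
  -- (3) Σ r⁻¹ a r = S a
  have h3 : ∑ r : R, (((r : Eˣ)⁻¹ * a * r : Eˣ) : E) = S * (a : E) := by
    rw [hS, Finset.sum_mul]
    refine Finset.sum_congr rfl fun r _ => ?_
    rw [← Units.val_mul]
    congr 1
    change _ = (r : Eˣ)⁻¹ * (a * r * a⁻¹) * a
    group
  -- (4) Σ r⁻¹ a⁻¹ r = a⁻¹ S
  have h4 : ∑ r : R, (((r : Eˣ)⁻¹ * a⁻¹ * r : Eˣ) : E) = ((a⁻¹ : Eˣ) : E) * S := by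
    have h41 : ∑ r : R, (((r : Eˣ)⁻¹ * a⁻¹ * r : Eˣ) : E) =
        ∑ r : R, ((a⁻¹ : Eˣ) : E) * ((κ r⁻¹ : Eˣ) : E) := by
      refine Finset.sum_congr rfl fun r _ => ?_
      rw [← Units.val_mul, hκinv]
      congr 1
      change _ = a⁻¹ * ((r : Eˣ)⁻¹ * (a * r * a⁻¹))⁻¹
      group
    rw [h41, ← Finset.mul_sum, hS]
    congr 1
    exact Equiv.sum_comp (Equiv.inv R) (fun r => ((κ r : Eˣ) : E))
  -- (5) the sum of both is 2 |R|
  have h5 : S * (a : E) + ((a⁻¹ : Eˣ) : E) * S = 2 * (Nat.card R : E) := by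
    rw [← h3, ← h4, ← Finset.sum_add_distrib]
    have : ∀ r : R, (((r : Eˣ)⁻¹ * a * r : Eˣ) : E) + (((r : Eˣ)⁻¹ * a⁻¹ * r : Eˣ) : E) = 2 := by
      intro r
      simp only [Units.val_mul]
      have : (((r : Eˣ)⁻¹ : Eˣ) : E) * (a : E) * ((r : Eˣ) : E) +
          (((r : Eˣ)⁻¹ : Eˣ) : E) * ((a⁻¹ : Eˣ) : E) * ((r : Eˣ) : E) =
          (((r : Eˣ)⁻¹ : Eˣ) : E) * ((a : E) + ((a⁻¹ : Eˣ) : E)) * ((r : Eˣ) : E) := by
        noncomm_ring
      rw [this, hsum2]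
      have h2c : (((r : Eˣ)⁻¹ : Eˣ) : E) * 2 = 2 * (((r : Eˣ)⁻¹ : Eˣ) : E) := by
        rw [mul_two, two_mul]
      rw [h2c, mul_assoc, Units.inv_mul, mul_one]
    rw [Finset.sum_congr rfl (fun r _ => this r), Finset.sum_const, Finset.card_univ,
      Nat.card_eq_fintype_card, nsmul_eq_mul]
    exact Nat.cast_comm _ _
  -- (6) `a` commutes with `S`
  have h6 : (a : E) * S = S * (a : E) := by
    -- conjugation by `a` permutes `R`
    let c : R ≃ R :=
      { toFun := fun r => ⟨a * r * a⁻¹, hRa r r.2⟩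
        invFun := fun r => ⟨a⁻¹ * r * a, by
          -- finite group: conjugation by `a` is a bijection of `R`
          have hinj : Function.Injective (fun r : R => (⟨a * r * a⁻¹, hRa r r.2⟩ : R)) := by
            intro x y hxy
            have := congrArg Subtype.val hxy
            simp only at this
            apply Subtype.ext
            have h' : a⁻¹ * (a * (x : Eˣ) * a⁻¹) * a = a⁻¹ * (a * (y : Eˣ) * a⁻¹) * a := by
              rw [this]
            simpa [mul_assoc] using h'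
          obtain ⟨x, hx⟩ := (Finite.injective_iff_surjective.mp hinj) r
          have := congrArg Subtype.val hx
          simp only at this
          rw [← this]
          have : a⁻¹ * (a * (x : Eˣ) * a⁻¹) * a = x := by group
          rw [this]
          exact x.2⟩
        left_inv := fun r => by
          apply Subtype.ext
          simp [mul_assoc]
        right_inv := fun r => by
          apply Subtype.ext
          simp [mul_assoc] }
    have hκc : ∀ r : R, ((κ (c r) : Eˣ) : E) = (a : E) * ((κ r : Eˣ) : E) * ((a⁻¹ : Eˣ) : E) := by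
      intro r
      rw [← Units.val_mul, ← Units.val_mul]
      congr 1
      change (a * (r : Eˣ) * a⁻¹)⁻¹ * (a * (a * (r : Eˣ) * a⁻¹) * a⁻¹) =
        a * ((r : Eˣ)⁻¹ * (a * r * a⁻¹)) * a⁻¹
      group
    have h61 : S = (a : E) * S * ((a⁻¹ : Eˣ) : E) := by
      calc S = ∑ r : R, ((κ (c r) : Eˣ) : E) :=
            (Equiv.sum_comp c (fun r => ((κ r : Eˣ) : E))).symm
        _ = ∑ r : R, (a : E) * ((κ r : Eˣ) : E) * ((a⁻¹ : Eˣ) : E) :=
            Finset.sum_congr rfl fun r _ => hκc r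
        _ = (a : E) * S * ((a⁻¹ : Eˣ) : E) := by
            rw [hS, Finset.mul_sum, Finset.sum_mul]
    calc (a : E) * S = (a : E) * S * (((a⁻¹ : Eˣ) : E) * (a : E)) := by
          rw [Units.inv_mul, mul_one]
      _ = ((a : E) * S * ((a⁻¹ : Eˣ) : E)) * (a : E) := by noncomm_ring
      _ = S * (a : E) := by rw [← h61]
  have h6' : ((a⁻¹ : Eˣ) : E) * S = S * ((a⁻¹ : Eˣ) : E) := by
    calc ((a⁻¹ : Eˣ) : E) * S = ((a⁻¹ : Eˣ) : E) * (S * (a : E)) * ((a⁻¹ : Eˣ) : E) := by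
          rw [mul_assoc, mul_assoc, Units.mul_inv, mul_one]
      _ = ((a⁻¹ : Eˣ) : E) * ((a : E) * S) * ((a⁻¹ : Eˣ) : E) := by rw [h6]
      _ = (((a⁻¹ : Eˣ) : E) * (a : E)) * S * ((a⁻¹ : Eˣ) : E) := by noncomm_ring
      _ = S * ((a⁻¹ : Eˣ) : E) := by rw [Units.inv_mul, one_mul]
  -- hence `2 S = 2 |R|`
  have h7 : 2 * S = 2 * (Nat.card R : E) := by
    rw [← h5, h6', ← mul_add, hsum2, mul_two, two_mul]
  -- `2` is invertible
  have h2inv : ∃ t : E, t * 2 = 1 := by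
    obtain ⟨k, hk⟩ := hp.odd_of_ne_two hp2
    refine ⟨-(k : E), ?_⟩
    have : ((p : ℕ) : E) = 2 * (k : E) + 1 := by rw [hk]; push_cast; rfl
    rw [hpE] at this
    have h' : (k : E) * 2 = -1 := by
      have : 2 * (k : E) = -1 := by
        have h0 : 2 * (k : E) + 1 = 0 := this.symm
        exact eq_neg_of_add_eq_zero_left h0
      rw [← this, mul_two, two_mul]
    rw [neg_mul, h', neg_neg]
  obtain ⟨t, ht⟩ := h2inv
  have h8 : S = (Nat.card R : E) := by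
    have := congrArg (fun x => t * x) h7
    simp only [← mul_assoc, ht, one_mul] at this
    exact this
  -- `|R|` is invertible
  obtain ⟨u, hu⟩ : ∃ u : E, u * (Nat.card R : E) = 1 := by
    have hcop : IsCoprime ((Nat.card R : ℕ) : ℤ) ((p : ℕ) : ℤ) := Nat.isCoprime_iff_coprime.mpr hRp
    obtain ⟨x, y, hxy⟩ := hcop
    refine ⟨(x : E), ?_⟩
    have := congrArg (Int.cast : ℤ → E) hxy
    push_cast at this
    rw [hpE, mul_zero, add_zero] at this
    exact this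
  -- (7) `S κ(r₀) = S`
  intro r₀ hr₀
  have h9 : S * ((κ ⟨r₀, hr₀⟩ : Eˣ) : E) = S := by
    rw [hS, Finset.sum_mul]
    have : ∀ r : R, ((κ r : Eˣ) : E) * ((κ ⟨r₀, hr₀⟩ : Eˣ) : E) =
        ((κ (r * ⟨r₀, hr₀⟩) : Eˣ) : E) := by
      intro r
      rw [hκmul r ⟨r₀, hr₀⟩]
      exact (Units.val_mul _ _).symm
    rw [Finset.sum_congr rfl (fun r _ => this r)]
    exact Equiv.sum_comp (Equiv.mulRight (⟨r₀, hr₀⟩ : R)) (fun r => ((κ r : Eˣ) : E))
  rw [h8] at h9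
  have h10 : ((κ ⟨r₀, hr₀⟩ : Eˣ) : E) = 1 := by
    have := congrArg (fun x => u * x) h9
    simp only [← mul_assoc, hu, one_mul] at this
    exact this
  have h11 : κ ⟨r₀, hr₀⟩ = 1 := Units.ext h10
  -- unfold `κ`
  have h12 : r₀⁻¹ * (a * r₀ * a⁻¹) = 1 := h11
  have h13 : a * r₀ * a⁻¹ = r₀ := by
    have := congrArg (fun x => r₀ * x) h12
    simpa [← mul_assoc] using this
  calc a * r₀ = (a * r₀ * a⁻¹) * a := by group
    _ = r₀ * a := by rw [h13]

end Cfsg.Agent.Lib.Helper97
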