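import Mathlib
import Cfsg.Agent.Lib.Helper97.QuadRing

/-!
# Quadratic automorphisms of an elementary abelian `p`-group, `p` odd (helper97)

`quad_mulAut_commute`: let `V` be a commutative group of odd prime exponent `p`, `α` an automorphism
of `V` with `(α - 1)² = 0` (written multiplicatively `α (α v) * v = α v * α v`), and `R` a finite
abelian group of automorphisms of `V` of order prime to `p` normalized by `α`. Then `α`
centralizes `R`.
-/

set_option autoImplicit false

namespace Cfsg.Agent.Lib.Helper97

variable {V : Type*} [CommGroup V]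

/-- automorphisms of `V` as units of the endomorphism ring of `Additive V`. -/
def autToEnd (V : Type*) [CommGroup V] : MulAut V →* AddMonoid.End (Additive V) where
  toFun φ := MonoidHom.toAdditive φ.toMonoidHom
  map_one' := rfl
  map_mul' _ _ := rfl

theorem autToEnd_apply (φ : MulAut V) (x : Additive V) :
    autToEnd V φ x = Additive.ofMul (φ x.toMul) := rfl

theorem autToEnd_injective : Function.Injective (autToEnd V) := by
  intro φ ψ h
  ext v
  have := DFunLike.congr_fun h (Additive.ofMul v)
  exact this

/-- automorphisms of `V` as units of the endomorphism ring. -/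
noncomputable def autToUnits (V : Type*) [CommGroup V] : MulAut V →* (AddMonoid.End (Additive V))ˣ :=
  (Units.map (autToEnd V)).comp toUnits.toMonoidHom

theorem autToUnits_val (φ : MulAut V) : ((autToUnits V φ : (AddMonoid.End (Additive V))ˣ) :
    AddMonoid.End (Additive V)) = autToEnd V φ := rfl

theorem autToUnits_injective : Function.Injective (autToUnits V) := by
  intro φ ψ h
  apply autToEnd_injective
  have := congrArg Units.val h
  exact this

theorem quad_mulAut_commute (p : ℕ) [Fact p.Prime] (hp2 : p ≠ 2)
    (hV : ∀ v : V, v ^ p = 1) (α : MulAut V) (hα : ∀ v : V, α (α v) * v = α v * α v)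
    (R : Subgroup (MulAut V)) [Finite R] (hRc : ∀ r ∈ R, ∀ s ∈ R, r * s = s * r)
    (hRp : (Nat.card R).Coprime p) (hRα : ∀ r ∈ R, α * r * α⁻¹ ∈ R) :
    ∀ r ∈ R, α * r = r * α := by
  have hpE : ((p : ℕ) : AddMonoid.End (Additive V)) = 0 := by
    ext x
    rw [AddMonoid.End.natCast_apply]
    change Additive.ofMul (x.toMul ^ p) = 0
    rw [hV]
    rfl
  have hquad : (((autToUnits V α : (AddMonoid.End (Additive V))ˣ) :
      AddMonoid.End (Additive V)) - 1) ^ 2 = 0 := by
    ext x
    rw [sq, autToUnits_val]
    change autToEnd V α (autToEnd V α x - x) - (autToEnd V α x - x) = 0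
    rw [map_sub]
    have h1 := hα x.toMul
    have h2 : autToEnd V α (autToEnd V α x) + x = autToEnd V α x + autToEnd V α x := by
      exact congrArg Additive.ofMul h1
    have : autToEnd V α (autToEnd V α x) = autToEnd V α x + autToEnd V α x - x :=
      eq_sub_of_add_eq h2
    rw [this]
    abel
  have hfin : Finite (R.map (autToUnits V)) :=
    Finite.of_equiv R (R.equivMapOfInjective _ autToUnits_injective).toEquiv
  have hcard : Nat.card (R.map (autToUnits V)) = Nat.card R :=
    Nat.card_congr (R.equivMapOfInjective _ autToUnits_injective).toEquiv.symm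
  have key := quad_unit_commute p hp2 hpE (autToUnits V α) hquad (R.map (autToUnits V))
    (by
      rintro _ ⟨r, hr, rfl⟩ _ ⟨s, hs, rfl⟩
      rw [← map_mul, ← map_mul, hRc r hr s hs])
    (by rw [hcard]; exact hRp)
    (by
      rintro _ ⟨r, hr, rfl⟩
      refine ⟨α * r * α⁻¹, hRα r hr, ?_⟩
      rw [map_mul, map_mul, map_inv])
  intro r hr
  apply autToUnits_injective
  rw [map_mul, map_mul]
  exact key _ ⟨r, hr, rfl⟩

end Cfsg.Agent.Lib.Helper97
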