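import Mathlib
import Cfsg.Prelude.Def_PLocal
import Cfsg.Agent.Lib.Helper97.Cores

/-!
# Quadratic action `[V, a, a] = 1`: elementwise form, invariance (helper97)

* `quad_iff`: `⁅⁅V, zpowers a⁆, zpowers a⁆ = ⊥ ↔ ∀ v ∈ V, ∀ y z ∈ zpowers a, ⁅⁅v, y⁆, z⁆ = 1`;
* `quad_of_subgroup_le`: quadratic on `V` implies quadratic on `U ≤ V`;
* `quad_conj`: conjugates of quadratic elements are quadratic (on a normal subgroup);
* `quad_of_mk_eq`: quadraticity on a normal subgroup `V` depends only on the coset modulo `C_G(V)`;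
* `quad_map_iff`: transport along an injective homomorphism;
* `exists_mem_sylow_mul_centralizer_of_isPStableOn`: a quadratic element of a group acting
  `p`-stably on `V` is a product `t * c` with `t` in a given Sylow `p`-subgroup, `c ∈ C_G(V)`.
-/

set_option autoImplicit false

namespace Cfsg.Agent.Lib.Helper97

open Cfsg
open scoped commutatorElement

variable {G : Type*} [Group G]

theorem quad_iff (V : Subgroup G) (a : G) :
    ⁅⁅V, Subgroup.zpowers a⁆, Subgroup.zpowers a⁆ = ⊥ ↔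
      ∀ v ∈ V, ∀ y ∈ Subgroup.zpowers a, ∀ z ∈ Subgroup.zpowers a, ⁅⁅v, y⁆, z⁆ = 1 := by
  rw [Subgroup.commutator_eq_bot_iff_le_centralizer, Subgroup.commutator_le]
  constructor
  · intro h v hv y hy z hz
    have h1 := h v hv y hy
    rw [Subgroup.mem_centralizer_iff] at h1
    rw [commutatorElement_eq_one_iff_commute]
    exact (h1 z hz).symm
  · intro h v hv y hy
    rw [Subgroup.mem_centralizer_iff]
    intro z hz
    have h1 := h v hv y hy z hz
    rw [commutatorElement_eq_one_iff_commute] at h1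
    exact h1.eq.symm

theorem quad_of_subgroup_le {U V : Subgroup G} (hUV : U ≤ V) {a : G}
    (h : ⁅⁅V, Subgroup.zpowers a⁆, Subgroup.zpowers a⁆ = ⊥) :
    ⁅⁅U, Subgroup.zpowers a⁆, Subgroup.zpowers a⁆ = ⊥ := by
  rw [eq_bot_iff, ← h]
  exact Subgroup.commutator_mono (Subgroup.commutator_mono hUV le_rfl) le_rfl

/-- Transport of quadraticity along a homomorphism (image side). -/
theorem quad_map {G' : Type*} [Group G'] (f : G →* G') {V : Subgroup G} {a : G}
    (h : ⁅⁅V, Subgroup.zpowers a⁆, Subgroup.zpowers a⁆ = ⊥) :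
    ⁅⁅V.map f, Subgroup.zpowers (f a)⁆, Subgroup.zpowers (f a)⁆ = ⊥ := by
  rw [← MonoidHom.map_zpowers, ← Subgroup.map_commutator, ← Subgroup.map_commutator, h,
    Subgroup.map_bot]

theorem quad_map_iff {G' : Type*} [Group G'] (f : G →* G') (hf : Function.Injective f)
    {V : Subgroup G} {a : G} :
    ⁅⁅V.map f, Subgroup.zpowers (f a)⁆, Subgroup.zpowers (f a)⁆ = ⊥ ↔
      ⁅⁅V, Subgroup.zpowers a⁆, Subgroup.zpowers a⁆ = ⊥ := by
  rw [← MonoidHom.map_zpowers, ← Subgroup.map_commutator, ← Subgroup.map_commutator,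
    Subgroup.map_eq_bot_iff_of_injective _ hf]

/-- Conjugates of quadratic elements are quadratic on a normal subgroup. -/
theorem quad_conj {V : Subgroup G} [hV : V.Normal] {a : G}
    (h : ⁅⁅V, Subgroup.zpowers a⁆, Subgroup.zpowers a⁆ = ⊥) (g : G) :
    ⁅⁅V, Subgroup.zpowers (g * a * g⁻¹)⁆, Subgroup.zpowers (g * a * g⁻¹)⁆ = ⊥ := by
  have h1 := quad_map (MulAut.conj g).toMonoidHom h
  have h2 : V.map (MulAut.conj g).toMonoidHom = V := by
    apply le_antisymm
    · rintro _ ⟨v, hv, rfl⟩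
      exact hV.conj_mem v hv g
    · intro v hv
      refine ⟨g⁻¹ * v * g, ?_, ?_⟩
      · have := hV.conj_mem v hv g⁻¹
        simpa using this
      · simp [MulAut.conj_apply, mul_assoc]
  rw [h2] at h1
  exact h1

/-- Quadraticity on a normal subgroup `V` only depends on the coset modulo `C_G(V)`. -/
theorem quad_of_mk_eq {V : Subgroup G} [hV : V.Normal] {a t : G}
    (hat : a⁻¹ * t ∈ Subgroup.centralizer (V : Set G))
    (h : ⁅⁅V, Subgroup.zpowers a⁆, Subgroup.zpowers a⁆ = ⊥) :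
    ⁅⁅V, Subgroup.zpowers t⁆, Subgroup.zpowers t⁆ = ⊥ := by
  have hCn : (Subgroup.centralizer (V : Set G)).Normal := Subgroup.normal_centralizer
  rw [quad_iff] at h ⊢
  -- powers of `t` are congruent to powers of `a`
  have hpow : ∀ k : ℤ, (a ^ k)⁻¹ * t ^ k ∈ Subgroup.centralizer (V : Set G) := by
    intro k
    rw [← QuotientGroup.eq]
    have h0 : ((a : G) : G ⧸ Subgroup.centralizer (V : Set G)) = (t : G) := QuotientGroup.eq.mpr hat
    rw [QuotientGroup.mk_zpow, QuotientGroup.mk_zpow, h0]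
  -- commutators with `V` agree
  have hcomm : ∀ v ∈ V, ∀ k : ℤ, ⁅v, t ^ k⁆ = ⁅v, a ^ k⁆ := by
    intro v hv k
    have hc := hpow k
    rw [Subgroup.mem_centralizer_iff] at hc
    have h1 := hc v⁻¹ (inv_mem hv)
    -- t^k = a^k * c
    set c := (a ^ k)⁻¹ * t ^ k with hcdef
    have ht : t ^ k = a ^ k * c := by rw [hcdef]; group
    rw [commutatorElement_def, commutatorElement_def, ht]
    have : a ^ k * c * v⁻¹ * (a ^ k * c)⁻¹ = a ^ k * v⁻¹ * (a ^ k)⁻¹ := by
      have : c * v⁻¹ = v⁻¹ * c := h1.symm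
      calc a ^ k * c * v⁻¹ * (a ^ k * c)⁻¹ = a ^ k * (c * v⁻¹) * c⁻¹ * (a ^ k)⁻¹ := by group
        _ = a ^ k * (v⁻¹ * c) * c⁻¹ * (a ^ k)⁻¹ := by rw [this]
        _ = a ^ k * v⁻¹ * (a ^ k)⁻¹ := by group
    calc v * (a ^ k * c) * v⁻¹ * (a ^ k * c)⁻¹ = v * (a ^ k * c * v⁻¹ * (a ^ k * c)⁻¹) := by group
      _ = v * (a ^ k * v⁻¹ * (a ^ k)⁻¹) := by rw [this]
      _ = v * a ^ k * v⁻¹ * (a ^ k)⁻¹ := by group
  intro v hv y hy z hz
  obtain ⟨i, rfl⟩ := Subgroup.mem_zpowers_iff.mp hy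
  obtain ⟨j, rfl⟩ := Subgroup.mem_zpowers_iff.mp hz
  rw [hcomm v hv i]
  have hu : ⁅v, a ^ i⁆ ∈ V := by
    rw [commutatorElement_def]
    have := hV.conj_mem v⁻¹ (inv_mem hv) (a ^ i)
    have h2 := mul_mem hv this
    have e : v * (a ^ i * v⁻¹ * (a ^ i)⁻¹) = v * a ^ i * v⁻¹ * (a ^ i)⁻¹ := by group
    rwa [e] at h2
  rw [hcomm _ hu j]
  exact h v hv _ (Subgroup.zpow_mem_zpowers a i) _ (Subgroup.zpow_mem_zpowers a j)

/-- In a group acting `p`-stably on the normal subgroup `V`, a quadratic element is a product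
`t * c` with `t` in any prescribed Sylow `p`-subgroup and `c` centralizing `V`. -/
theorem exists_mem_sylow_mul_centralizer_of_isPStableOn [Finite G] {p : ℕ} [Fact p.Prime]
    {V : Subgroup G} [hV : V.Normal] (hst : IsPStableOn p V) (P : Sylow p G) {a : G}
    (h : ⁅⁅V, Subgroup.zpowers a⁆, Subgroup.zpowers a⁆ = ⊥) :
    ∃ t ∈ (P : Subgroup G), a⁻¹ * t ∈ Subgroup.centralizer (V : Set G) := by
  have h1 := hst a h
  have hsurj : Function.Surjective (QuotientGroup.mk' (Subgroup.centralizer (V : Set G))) :=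
    QuotientGroup.mk'_surjective _
  have h2 : pCore p (G ⧸ Subgroup.centralizer (V : Set G)) ≤
      ((Sylow.mapSurjective hsurj P : Sylow p (G ⧸ Subgroup.centralizer (V : Set G))) :
        Subgroup (G ⧸ Subgroup.centralizer (V : Set G))) := pCore_le_sylow' _
  have h3 := h2 h1
  rw [Sylow.coe_mapSurjective] at h3
  obtain ⟨t, ht, hte⟩ := h3
  refine ⟨t, ht, ?_⟩
  rw [← QuotientGroup.eq]
  exact hte.symm

end Cfsg.Agent.Lib.Helper97
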