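import Mathlib
import Cfsg.Prelude.Def_PLocal
import Cfsg.Agent.Lib.Helper97.QuadAut
import Cfsg.Agent.Lib.Helper97.Quadratic
import Cfsg.Agent.Lib.Helper97.NilpotentAction
import Cfsg.Agent.Lib.Helper97.Thompson

/-!
# `p`-stability of groups whose `p'`-part is abelian, `p` odd (helper97)

`IsPAbelianP p G`: `G` has normal subgroups `H ≤ L` with `H` a `p`-group, `L/H` an abelian
`p'`-group and `G/L` a `p`-group (all phrased elementwise, so that the class is visibly closed under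
subgroups and quotients).

Main result `exists_normal_of_quadratic`: if `p` is odd, `G` is finite with `IsPAbelianP p G`, `V` is a
normal elementary abelian `p`-subgroup and `a` acts quadratically on `V`, then `a` lies in a normal
subgroup `D` of `G` all of whose elements have a `p`-power power centralizing `V`
(i.e. `a C_G(V) ∈ O_p(G / C_G(V))`).
-/

set_option autoImplicit false

namespace Cfsg.Agent.Lib.Helper97

open Cfsg
open scoped commutatorElement

universe u

/-- `G` has a normal series `1 ≤ H ≤ L ≤ G` with `H` a `p`-group, `L/H` an abelian `p'`-group and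
`G/L` a `p`-group. -/
def IsPAbelianP (p : ℕ) (G : Type*) [Group G] : Prop :=
  ∃ H L : Subgroup G, H.Normal ∧ L.Normal ∧ H ≤ L ∧ IsPGroup p H ∧ ⁅L, L⁆ ≤ H ∧
    (∀ l ∈ L, ∃ m : ℕ, m.Coprime p ∧ l ^ m ∈ H) ∧ (∀ g : G, ∃ k : ℕ, g ^ (p ^ k) ∈ L)

theorem IsPAbelianP.quotient {p : ℕ} {G : Type*} [Group G] (h : IsPAbelianP p G)
    (M : Subgroup G) [M.Normal] : IsPAbelianP p (G ⧸ M) := by
  obtain ⟨H, L, hHn, hLn, hHL, hHp, hab, hp', hq⟩ := h
  have hsurj := QuotientGroup.mk'_surjective M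
  refine ⟨H.map (QuotientGroup.mk' M), L.map (QuotientGroup.mk' M), hHn.map _ hsurj,
    hLn.map _ hsurj, Subgroup.map_mono hHL, hHp.map _, ?_, ?_, ?_⟩
  · rw [← Subgroup.map_commutator]
    exact Subgroup.map_mono hab
  · rintro _ ⟨l, hl, rfl⟩
    obtain ⟨m, hm, hlm⟩ := hp' l hl
    exact ⟨m, hm, by rw [← map_pow]; exact Subgroup.mem_map_of_mem _ hlm⟩
  · intro x
    obtain ⟨g, rfl⟩ := hsurj x
    obtain ⟨k, hk⟩ := hq g
    exact ⟨k, by rw [← map_pow]; exact Subgroup.mem_map_of_mem _ hk⟩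

theorem IsPAbelianP.subgroup {p : ℕ} {G : Type*} [Group G] (h : IsPAbelianP p G)
    (N : Subgroup G) : IsPAbelianP p N := by
  obtain ⟨H, L, hHn, hLn, hHL, hHp, hab, hp', hq⟩ := h
  refine ⟨H.subgroupOf N, L.subgroupOf N, hHn.subgroupOf N, hLn.subgroupOf N, ?_,
    hHp.comap_subtype, ?_, ?_, ?_⟩
  · intro x hx
    exact hHL hx
  · rw [Subgroup.commutator_le]
    intro x hx y hy
    rw [Subgroup.mem_subgroupOf]
    apply hab
    have : ((⁅x, y⁆ : ↥N) : G) = ⁅(x : G), (y : G)⁆ := by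
      simp [commutatorElement_def]
    rw [this]
    exact Subgroup.commutator_mem_commutator hx hy
  · intro l hl
    obtain ⟨m, hm, hlm⟩ := hp' (l : G) hl
    refine ⟨m, hm, ?_⟩
    rw [Subgroup.mem_subgroupOf, Subgroup.coe_pow]
    exact hlm
  · intro g
    obtain ⟨k, hk⟩ := hq (g : G)
    refine ⟨k, ?_⟩
    rw [Subgroup.mem_subgroupOf, Subgroup.coe_pow]
    exact hk

/-- If `y` centralizes `V₁` and acts trivially on `V / V₁`, where `V₁` has exponent `p`, then `y ^ p`
centralizes `V`. -/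
theorem pow_mem_centralizer_of_chain {G : Type*} [Group G] {p : ℕ} {V V₁ : Subgroup G}
    (hV₁ : ∀ w ∈ V₁, w ^ p = 1) {y : G} (hy₁ : y ∈ Subgroup.centralizer (V₁ : Set G))
    (hy₂ : ∀ v ∈ V, y * v * y⁻¹ * v⁻¹ ∈ V₁) : y ^ p ∈ Subgroup.centralizer (V : Set G) := by
  rw [Subgroup.mem_centralizer_iff]
  intro v hv
  set w := y * v * y⁻¹ * v⁻¹ with hw
  have hwV : w ∈ V₁ := hy₂ v hv
  have hyw : y * w = w * y := (Subgroup.mem_centralizer_iff.mp hy₁ w hwV).symm
  have key : ∀ k : ℕ, y ^ k * v = w ^ k * v * y ^ k := by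
    intro k
    induction k with
    | zero => simp
    | succ k ih =>
      have hc : Commute y w := hyw
      have h1 : y * w ^ k = w ^ k * y := (hc.pow_right k).eq
      have h2 : y * v = w * v * y := by rw [hw]; group
      calc y ^ (k + 1) * v = y * (y ^ k * v) := by rw [pow_succ']; group
        _ = y * (w ^ k * v * y ^ k) := by rw [ih]
        _ = (y * w ^ k) * v * y ^ k := by group
        _ = w ^ k * (y * v) * y ^ k := by rw [h1]; group
        _ = w ^ k * (w * v * y) * y ^ k := by rw [h2]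
        _ = w ^ (k + 1) * v * y ^ (k + 1) := by rw [pow_succ, pow_succ']; group
  have := key p
  rw [hV₁ w hwV, one_mul] at this
  exact this.symm

/-- A quadratic automorphism of a group of exponent `p` has order dividing `p`. -/
theorem mulAut_pow_eq_one_of_quad {V : Type*} [CommGroup V] {p : ℕ} (hV : ∀ v : V, v ^ p = 1)
    (α : MulAut V) (hα : ∀ v : V, α (α v) * v = α v * α v) : α ^ p = 1 := by
  have hfix : ∀ v : V, α (α v * v⁻¹) = α v * v⁻¹ := by
    intro v
    rw [map_mul, map_inv]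
    have h1 := hα v
    have : α (α v) = α v * α v * v⁻¹ := by rw [← h1]; group
    rw [this]
    have hc : α v * α v * v⁻¹ * (α v)⁻¹ = α v * v⁻¹ := by
      rw [mul_comm (α v * α v * v⁻¹) (α v)⁻¹]
      group
    exact hc
  have key : ∀ (k : ℕ) (v : V), (α ^ k) v = v * (α v * v⁻¹) ^ k := by
    intro k
    induction k with
    | zero => intro v; simp
    | succ k ih =>
      intro v
      rw [pow_succ', MulAut.mul_apply, ih, map_mul, map_pow, hfix, pow_succ]
      have : α v * (α v * v⁻¹) ^ k = v * ((α v * v⁻¹) ^ k * (α v * v⁻¹)) := by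
        rw [mul_comm ((α v * v⁻¹) ^ k) (α v * v⁻¹), ← mul_assoc v, mul_comm v (α v * v⁻¹)]
        group
      exact this
  ext v
  rw [key, hV, mul_one]
  rfl

/-- A normal `p`-subgroup centralizes a minimal normal `p`-subgroup. -/
theorem le_centralizer_of_minimal {G : Type*} [Group G] [Finite G] {p : ℕ} [Fact p.Prime]
    {V H : Subgroup G} [hVn : V.Normal] [hHn : H.Normal] (hVp : IsPGroup p V) (hHp : IsPGroup p H)
    (hmin : ∀ V₁ : Subgroup G, V₁.Normal → V₁ < V → V₁ = ⊥) :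
    H ≤ Subgroup.centralizer (V : Set G) := by
  have hle : ⁅V, H⁆ ≤ V := Subgroup.commutator_le_left V H
  have hn : (⁅V, H⁆ : Subgroup G).Normal := Subgroup.commutator_normal V H
  rcases hle.lt_or_eq with hlt | heq
  · have h1 := hmin _ hn hlt
    rw [Subgroup.commutator_eq_bot_iff_le_centralizer] at h1
    exact Subgroup.le_centralizer_iff.mp h1
  · have hVbot : V = ⊥ := by
      apply eq_bot_of_le_commutator_of_pGroup_action hVp (A := H) (W := V)
      · rw [Subgroup.normalizer_eq_top_iff.mpr hVn]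
        exact le_top
      · intro a ha
        obtain ⟨k, hk⟩ := hHp ⟨a, ha⟩
        refine ⟨k, ?_⟩
        have : a ^ (p ^ k) = 1 := by
          have := congrArg Subtype.val hk
          simpa using this
        rw [this]
        exact one_mem _
      · exact le_rfl
      · exact heq.ge
    rw [hVbot]
    intro x _
    rw [Subgroup.mem_centralizer_iff]
    intro y hy
    rw [Subgroup.coe_bot, Set.mem_singleton_iff] at hy
    rw [hy, one_mul, mul_one]

/-- Group (rather than `CommGroup`) form of `quad_mulAut_commute`. -/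
theorem quad_mulAut_commute' {V : Type*} [Group V] (hc : ∀ x y : V, x * y = y * x) (p : ℕ)
    [Fact p.Prime] (hp2 : p ≠ 2) (hV : ∀ v : V, v ^ p = 1) (α : MulAut V)
    (hα : ∀ v : V, α (α v) * v = α v * α v)
    (R : Subgroup (MulAut V)) [Finite R] (hRc : ∀ r ∈ R, ∀ s ∈ R, r * s = s * r)
    (hRp : (Nat.card R).Coprime p) (hRα : ∀ r ∈ R, α * r * α⁻¹ ∈ R) :
    ∀ r ∈ R, α * r = r * α := by
  let _ : CommGroup V := { (inferInstance : Group V) with mul_comm := hc }
  exact quad_mulAut_commute p hp2 hV α hα R hRc hRp hRα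

theorem mulAut_pow_eq_one_of_quad' {V : Type*} [Group V] (hc : ∀ x y : V, x * y = y * x) {p : ℕ}
    (hV : ∀ v : V, v ^ p = 1) (α : MulAut V) (hα : ∀ v : V, α (α v) * v = α v * α v) :
    α ^ p = 1 := by
  let _ : CommGroup V := { (inferInstance : Group V) with mul_comm := hc }
  exact mulAut_pow_eq_one_of_quad hV α hα

/-- `G = L T` if `G/L` is a `p`-group and `T` is a Sylow `p`-subgroup. -/
theorem exists_mul_of_pow_mem {G : Type*} [Group G] [Finite G] {p : ℕ} [Fact p.Prime]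
    (L : Subgroup G) [L.Normal] (hq : ∀ g : G, ∃ k : ℕ, g ^ (p ^ k) ∈ L) (T : Sylow p G) (g : G) :
    ∃ l ∈ L, ∃ t ∈ (T : Subgroup G), g = l * t := by
  have hsurj := QuotientGroup.mk'_surjective L
  have hP : IsPGroup p (G ⧸ L) := by
    intro x
    obtain ⟨g, rfl⟩ := hsurj x
    obtain ⟨k, hk⟩ := hq g
    refine ⟨k, ?_⟩
    rw [← map_pow]
    exact (QuotientGroup.eq_one_iff _).mpr hk
  have h1 : IsPGroup p (⊤ : Subgroup (G ⧸ L)) := by
    intro x
    obtain ⟨k, hk⟩ := hP (x : G ⧸ L)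
    exact ⟨k, Subtype.ext (by simpa using hk)⟩
  have h2 : ((T.mapSurjective hsurj : Sylow p (G ⧸ L)) : Subgroup (G ⧸ L)) = ⊤ :=
    ((T.mapSurjective hsurj).is_maximal' h1 le_top).symm
  rw [Sylow.coe_mapSurjective] at h2
  have h3 : (QuotientGroup.mk' L) g ∈ (T : Subgroup G).map (QuotientGroup.mk' L) := by
    rw [h2]; exact Subgroup.mem_top _
  obtain ⟨t, ht, hte⟩ := h3
  refine ⟨g * t⁻¹, ?_, t, ht, by group⟩
  rw [← QuotientGroup.eq_one_iff]
  have : ((g * t⁻¹ : G) : G ⧸ L) = (QuotientGroup.mk' L) g * ((QuotientGroup.mk' L) t)⁻¹ := by simp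
  rw [this, hte, mul_inv_cancel]

theorem comm_rearr {V : Type*} [Group V] (hc : ∀ x y : V, x * y = y * x) (x y z : V)
    (h : x * y⁻¹ * (z * y⁻¹) = 1) : z * x = y * y := by
  let _ : CommGroup V := { (inferInstance : Group V) with mul_comm := hc }
  have h1 : z * x * (y⁻¹ * y⁻¹) = x * y⁻¹ * (z * y⁻¹) := by ac_rfl
  calc z * x = (z * x * (y⁻¹ * y⁻¹)) * (y * y) := by group
    _ = y * y := by rw [h1, h, one_mul]

/-- The case of a minimal normal subgroup `V`. -/
theorem exists_normal_of_quadratic_of_minimal {G : Type*} [Group G] [Finite G] {p : ℕ}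
    [Fact p.Prime] (hp2 : p ≠ 2) (hG : IsPAbelianP p G) (V : Subgroup G) [hVn : V.Normal]
    (hV : IsElementaryAbelian p V)
    (hmin : ∀ V₁ : Subgroup G, V₁.Normal → V₁ < V → V₁ = ⊥)
    (a : G) (ha : ⁅⁅V, Subgroup.zpowers a⁆, Subgroup.zpowers a⁆ = ⊥) :
    ∃ D : Subgroup G, D.Normal ∧ a ∈ D ∧
      ∀ d ∈ D, ∃ k : ℕ, d ^ (p ^ k) ∈ Subgroup.centralizer (V : Set G) := by
  classical
  obtain ⟨H, L, hHn, hLn, hHL, hHp, hab, hp', hq⟩ := hG
  have hp : p.Prime := Fact.out
  have hVp : IsPGroup p V := by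
    intro v
    refine ⟨1, Subtype.ext ?_⟩
    simpa using hV.2 _ v.2
  have hHV : H ≤ Subgroup.centralizer (V : Set G) := le_centralizer_of_minimal hVp hHp hmin
  have hcV : ∀ x y : ↥V, x * y = y * x := fun x y => hV.1.is_comm.comm x y
  have hVexp : ∀ v : ↥V, v ^ p = 1 := fun v => Subtype.ext (by simpa using hV.2 _ v.2)
  set ρ : G →* MulAut ↥V := MulAut.conjNormal with hρ
  have hρa : ∀ (g : G) (v : ↥V), ((ρ g v : ↥V) : G) = g * v * g⁻¹ := MulAut.conjNormal_apply
  have hker : ∀ g : G, ρ g = 1 ↔ g ∈ Subgroup.centralizer (V : Set G) := by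
    intro g
    rw [Subgroup.mem_centralizer_iff]
    constructor
    · intro h v hv
      have h1 : ((ρ g ⟨v, hv⟩ : ↥V) : G) = v := by rw [h]; rfl
      rw [hρa] at h1
      have h2 : g * v = v * g := by
        have := congrArg (· * g) h1
        simpa [mul_assoc] using this
      exact h2.symm
    · intro h
      ext v
      rw [hρa, MulAut.one_apply]
      have := h v v.2
      calc g * (v : G) * g⁻¹ = (v : G) * g * g⁻¹ := by rw [this]
        _ = (v : G) := by group
  -- `ρ a` is quadratic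
  have hα : ∀ v : ↥V, ρ a (ρ a v) * v = ρ a v * ρ a v := by
    intro v
    have hq1 := (quad_iff V a).mp ha v v.2 a (Subgroup.mem_zpowers a) a (Subgroup.mem_zpowers a)
    -- in `G`: `⁅⁅v, a⁆, a⁆ = 1`
    have e1 : ⁅⁅(v : G), a⁆, a⁆ =
        (v : G) * (a * v * a⁻¹)⁻¹ * ((a * (a * v * a⁻¹) * a⁻¹) * (a * v * a⁻¹)⁻¹) := by
      rw [commutatorElement_def, commutatorElement_def]
      group
    rw [e1] at hq1
    have hq2 : v * (ρ a v)⁻¹ * (ρ a (ρ a v) * (ρ a v)⁻¹) = 1 := by
      apply Subtype.ext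
      simp only [Subgroup.coe_mul, Subgroup.coe_inv, hρa, Subgroup.coe_one]
      exact hq1
    -- rearrange in the commutative group `V`
    exact comm_rearr hcV _ _ _ hq2
  -- the abelian `p'`-group `R = ρ(L)`
  set R : Subgroup (MulAut ↥V) := L.map ρ with hR
  have hRc : ∀ r ∈ R, ∀ s ∈ R, r * s = s * r := by
    rintro _ ⟨l, hl, rfl⟩ _ ⟨l', hl', rfl⟩
    have h1 : ⁅l, l'⁆ ∈ H := hab (Subgroup.commutator_mem_commutator hl hl')
    have h2 : ρ ⁅l, l'⁆ = 1 := (hker _).mpr (hHV h1)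
    rw [map_commutatorElement, commutatorElement_eq_one_iff_commute] at h2
    exact h2.eq
  have hRp : (Nat.card R).Coprime p := by
    rw [Nat.coprime_comm, Nat.Prime.coprime_iff_not_dvd hp]
    intro hdvd
    obtain ⟨x, hx⟩ := exists_prime_orderOf_dvd_card' p hdvd
    obtain ⟨l, hl, hle⟩ := x.2
    obtain ⟨m, hm, hlm⟩ := hp' l hl
    have h1 : ρ (l ^ m) = 1 := (hker _).mpr (hHV hlm)
    rw [map_pow, hle] at h1
    have h2 : orderOf (x : MulAut ↥V) ∣ m := orderOf_dvd_of_pow_eq_one h1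
    rw [Subgroup.orderOf_coe, hx] at h2
    have := Nat.Coprime.eq_one_of_dvd hm.symm h2
    exact hp.one_lt.ne' this
  have hRα : ∀ r ∈ R, ρ a * r * (ρ a)⁻¹ ∈ R := by
    rintro _ ⟨l, hl, rfl⟩
    refine ⟨a * l * a⁻¹, hLn.conj_mem l hl a, ?_⟩
    rw [map_mul, map_mul, map_inv]
  have key := quad_mulAut_commute' hcV p hp2 hVexp (ρ a) hα R hRc hRp hRα
  -- `E = C_G(ρ(L))`
  set E : Subgroup G := (Subgroup.centralizer (R : Set (MulAut ↥V))).comap ρ with hE
  have hEmem : ∀ g : G, g ∈ E ↔ ∀ l ∈ L, ρ l * ρ g = ρ g * ρ l := by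
    intro g
    rw [hE, Subgroup.mem_comap, Subgroup.mem_centralizer_iff]
    constructor
    · intro h l hl
      exact h _ ⟨l, hl, rfl⟩
    · rintro h _ ⟨l, hl, rfl⟩
      exact h l hl
  have hEconj : ∀ e ∈ E, ∀ g : G, g * e * g⁻¹ ∈ E := by
    intro e he g
    rw [hEmem] at he ⊢
    intro l hl
    have h1 := he (g⁻¹ * l * g) (by
      have := hLn.conj_mem l hl g⁻¹
      simpa using this)
    simp only [map_mul, map_inv] at h1 ⊢
    -- h1 : (ρ g)⁻¹ * ρ l * ρ g * ρ e = ρ e * ((ρ g)⁻¹ * ρ l * ρ g)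
    calc ρ l * (ρ g * ρ e * (ρ g)⁻¹)
        = ρ g * ((ρ g)⁻¹ * ρ l * ρ g * ρ e) * (ρ g)⁻¹ := by group
      _ = ρ g * (ρ e * ((ρ g)⁻¹ * ρ l * ρ g)) * (ρ g)⁻¹ := by rw [h1]
      _ = ρ g * ρ e * (ρ g)⁻¹ * ρ l := by group
  have haE : a ∈ E := by
    rw [hEmem]
    intro l hl
    exact (key _ ⟨l, hl, rfl⟩).symm
  have hLE : L ≤ E := by
    intro l hl
    rw [hEmem]
    intro l' hl'
    exact hRc _ ⟨l', hl', rfl⟩ _ ⟨l, hl, rfl⟩
  obtain ⟨T⟩ : Nonempty (Sylow p G) := inferInstance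
  have hLT := exists_mul_of_pow_mem L hq T
  -- elements of `E ⊓ T` have `p`-power order
  have hTpow : ∀ t ∈ (T : Subgroup G), ∃ k : ℕ, t ^ (p ^ k) = 1 := by
    intro t ht
    obtain ⟨k, hk⟩ := T.isPGroup' ⟨t, ht⟩
    refine ⟨k, ?_⟩
    have := congrArg Subtype.val hk
    simpa using this
  -- the subgroup `D`
  refine ⟨(E ⊓ (T : Subgroup G)) ⊔ ρ.ker, ?_, ?_, ?_⟩
  · -- normality
    constructor
    intro x hx g
    rw [Subgroup.mem_sup_of_normal_right] at hx ⊢
    obtain ⟨t, ⟨htE, htT⟩, c, hc, rfl⟩ := hx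
    obtain ⟨l, hl, s, hs, rfl⟩ := hLT g
    -- `t' = s t s⁻¹`
    have ht'E : s * t * s⁻¹ ∈ E := hEconj t htE s
    have ht'T : s * t * s⁻¹ ∈ (T : Subgroup G) := mul_mem (mul_mem hs htT) (inv_mem hs)
    have hcomm : l * (s * t * s⁻¹) * l⁻¹ * (s * t * s⁻¹)⁻¹ ∈ ρ.ker := by
      have h0 := (hEmem _).mp ht'E l hl
      generalize s * t * s⁻¹ = u at h0 ⊢
      rw [MonoidHom.mem_ker, map_mul, map_mul, map_mul, map_inv, map_inv, h0]
      group
    refine ⟨s * t * s⁻¹, ⟨ht'E, ht'T⟩,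
      (s * t * s⁻¹)⁻¹ * (l * (s * t * s⁻¹) * l⁻¹ * (s * t * s⁻¹)⁻¹) * (s * t * s⁻¹) *
        (l * s * c * (l * s)⁻¹), ?_, by group⟩
    refine mul_mem ?_ ((inferInstance : ρ.ker.Normal).conj_mem c hc (l * s))
    have := (inferInstance : ρ.ker.Normal).conj_mem _ hcomm (s * t * s⁻¹)⁻¹
    simpa [mul_assoc] using this
  · -- `a ∈ D`
    obtain ⟨l, hl, t, ht, rfl⟩ := hLT a
    have htE : t ∈ E := by
      have := mul_mem (inv_mem (hLE hl)) haE
      simpa using this
    have hcomm : Commute (ρ l) (ρ t) := ((hEmem t).mp htE l hl)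
    obtain ⟨k, hk⟩ := hTpow t ht
    have h1 : (ρ (l * t)) ^ p = 1 := mulAut_pow_eq_one_of_quad' hcV hVexp _ hα
    have h2 : (ρ (l * t)) ^ (p ^ (k + 1)) = 1 := by
      rw [pow_succ, pow_mul', h1, one_pow]
    have h3 : (ρ t) ^ (p ^ (k + 1)) = 1 := by
      rw [← map_pow, pow_succ, pow_mul, hk, one_pow, map_one]
    have h4 : (ρ l) ^ (p ^ (k + 1)) = 1 := by
      rw [map_mul, hcomm.mul_pow, h3, mul_one] at h2
      exact h2
    obtain ⟨m, hm, hlm⟩ := hp' l hl
    have h5 : (ρ l) ^ m = 1 := by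
      rw [← map_pow]
      exact (hker _).mpr (hHV hlm)
    have h6 : orderOf (ρ l) ∣ Nat.gcd m (p ^ (k + 1)) :=
      Nat.dvd_gcd (orderOf_dvd_of_pow_eq_one h5) (orderOf_dvd_of_pow_eq_one h4)
    have h7 : Nat.gcd m (p ^ (k + 1)) = 1 := Nat.Coprime.pow_right _ hm
    rw [h7, Nat.dvd_one, orderOf_eq_one_iff] at h6
    rw [Subgroup.mem_sup_of_normal_right]
    refine ⟨t, ⟨htE, ht⟩, t⁻¹ * l * t, ?_, by group⟩
    have : l ∈ ρ.ker := h6
    have := (inferInstance : ρ.ker.Normal).conj_mem l this t⁻¹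
    simpa [mul_assoc] using this
  · -- `p`-power condition
    intro d hd
    rw [Subgroup.mem_sup_of_normal_right] at hd
    obtain ⟨t, ⟨-, htT⟩, c, hc, rfl⟩ := hd
    obtain ⟨k, hk⟩ := hTpow t htT
    refine ⟨k, ?_⟩
    rw [← hker, map_pow, map_mul]
    have : ρ c = 1 := hc
    rw [this, mul_one, ← map_pow, hk, map_one]

/-- **Quadratic elements act as `p`-elements** (`p` odd, `G` with abelian `p'`-part). -/
theorem exists_normal_of_quadratic {p : ℕ} [Fact p.Prime] (hp2 : p ≠ 2) :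
    ∀ (n : ℕ) (G : Type u) [Group G] [Finite G] (_ : IsPAbelianP p G) (V : Subgroup G)
      [V.Normal] (_ : IsElementaryAbelian p V) (_ : Nat.card V = n) (a : G)
      (_ : ⁅⁅V, Subgroup.zpowers a⁆, Subgroup.zpowers a⁆ = ⊥),
      ∃ D : Subgroup G, D.Normal ∧ a ∈ D ∧
        ∀ d ∈ D, ∃ k : ℕ, d ^ (p ^ k) ∈ Subgroup.centralizer (V : Set G) := by
  intro n
  induction n using Nat.strong_induction_on with
  | _ n ih =>
    intro G _ _ hG V hVn hV hn a ha
    by_cases hmin : ∀ V₁ : Subgroup G, V₁.Normal → V₁ < V → V₁ = ⊥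
    · exact exists_normal_of_quadratic_of_minimal hp2 hG V hV hmin a ha
    · push Not at hmin
      obtain ⟨V₁, hV₁n, hV₁lt, hV₁ne⟩ := hmin
      have hV₁le : V₁ ≤ V := hV₁lt.le
      -- induction on `V₁`
      have hc1 : Nat.card V₁ < n := by
        rw [← hn]
        have h1 : Nat.card V₁ ≤ Nat.card V := Subgroup.card_le_of_le hV₁le
        rcases h1.lt_or_eq with h | h
        · exact h
        · exact absurd (Subgroup.eq_of_le_of_card_ge hV₁le h.ge) hV₁lt.ne
      obtain ⟨D₁, hD₁n, haD₁, hD₁⟩ := ih _ hc1 G hG V₁ (isElementaryAbelian_mono hV₁le hV) rfl a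
        (quad_of_subgroup_le hV₁le ha)
      -- induction on `V / V₁`
      have hsurj := QuotientGroup.mk'_surjective V₁
      have hVbn : (V.map (QuotientGroup.mk' V₁)).Normal := hVn.map _ hsurj
      have hc2 : Nat.card (V.map (QuotientGroup.mk' V₁)) < n := by
        rw [← hn]
        have h1 : Nat.card (V.map (QuotientGroup.mk' V₁)) * Nat.card (V₁.subgroupOf V) =
            Nat.card V := by
          have := Subgroup.card_eq_card_quotient_mul_card_subgroup (V₁.subgroupOf V)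
          rw [this]
          congr 1
          have e : (V.map (QuotientGroup.mk' V₁)) ≃* ↥V ⧸ V₁.subgroupOf V := by
            have e1 := QuotientGroup.quotientKerEquivRange
              ((QuotientGroup.mk' V₁).comp V.subtype)
            have hk : ((QuotientGroup.mk' V₁).comp V.subtype).ker = V₁.subgroupOf V := by
              ext x
              rw [MonoidHom.mem_ker, Subgroup.mem_subgroupOf, MonoidHom.comp_apply,
                QuotientGroup.mk'_apply, QuotientGroup.eq_one_iff]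
              rfl
            have hr : ((QuotientGroup.mk' V₁).comp V.subtype).range =
                V.map (QuotientGroup.mk' V₁) := by
              rw [MonoidHom.range_comp, Subgroup.range_subtype]
            exact ((QuotientGroup.quotientMulEquivOfEq hk).symm.trans e1).trans
              (MulEquiv.subgroupCongr hr) |>.symm
          exact Nat.card_congr e.toEquiv
        have h2 : 1 < Nat.card (V₁.subgroupOf V) := by
          rw [Nat.card_congr (Subgroup.subgroupOfEquivOfLe hV₁le).toEquiv]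
          exact (Subgroup.one_lt_card_iff_ne_bot V₁).mpr hV₁ne
        have h3 : 0 < Nat.card (V.map (QuotientGroup.mk' V₁)) := Nat.card_pos
        nlinarith
      obtain ⟨D₂, hD₂n, haD₂, hD₂⟩ := ih _ hc2 (G ⧸ V₁) (hG.quotient V₁)
        (V.map (QuotientGroup.mk' V₁)) (isElementaryAbelian_map _ hV) rfl
        (QuotientGroup.mk' V₁ a) (quad_map _ ha)
      refine ⟨D₁ ⊓ D₂.comap (QuotientGroup.mk' V₁), inferInstance, ⟨haD₁, haD₂⟩, ?_⟩
      rintro d ⟨hd1, hd2⟩
      obtain ⟨k₁, hk₁⟩ := hD₁ d hd1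
      obtain ⟨k₂, hk₂⟩ := hD₂ _ hd2
      refine ⟨k₁ + k₂ + 1, ?_⟩
      have e : d ^ (p ^ (k₁ + k₂ + 1)) = (d ^ (p ^ (k₁ + k₂))) ^ p := by
        rw [← pow_mul, pow_succ]
      rw [e]
      apply pow_mem_centralizer_of_chain (V₁ := V₁) (fun w hw => hV.2 w (hV₁le hw))
      · have : d ^ (p ^ (k₁ + k₂)) = (d ^ (p ^ k₁)) ^ (p ^ k₂) := by
          rw [← pow_mul, pow_add]
        rw [this]
        exact pow_mem hk₁ _
      · intro v hv
        have h1 : (QuotientGroup.mk' V₁ d) ^ (p ^ (k₁ + k₂)) ∈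
            Subgroup.centralizer ((V.map (QuotientGroup.mk' V₁) : Subgroup (G ⧸ V₁)) : Set (G ⧸ V₁)) := by
          have : (QuotientGroup.mk' V₁ d) ^ (p ^ (k₁ + k₂)) =
              ((QuotientGroup.mk' V₁ d) ^ (p ^ k₂)) ^ (p ^ k₁) := by
            rw [← pow_mul, pow_add, mul_comm]
          rw [this]
          exact pow_mem hk₂ _
        rw [Subgroup.mem_centralizer_iff] at h1
        have h2 := h1 _ (Subgroup.mem_map_of_mem (QuotientGroup.mk' V₁) hv)
        rw [← map_pow, ← map_mul, ← map_mul] at h2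
        have h3 : (QuotientGroup.mk' V₁) (d ^ (p ^ (k₁ + k₂)) * v * (d ^ (p ^ (k₁ + k₂)))⁻¹ * v⁻¹) = 1 := by
          rw [map_mul, map_mul, ← h2, map_mul, map_inv, map_inv]
          group
        exact (QuotientGroup.eq_one_iff _).mp h3

end Cfsg.Agent.Lib.Helper97
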