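import Mathlib
import Cfsg.Prelude.Def_PLocal
import Cfsg.Agent.Lib.Helper97.PStable
import Cfsg.Agent.Lib.Helper97.Cores
import Cfsg.Agent.Lib.Helper54.Coprime

/-!
# Groups with a maximal Sylow `p`-subgroup and `p`-nilpotent `G / O_p(G)` (helper97)

If a Sylow `p`-subgroup `T` of the finite group `G` is a maximal subgroup and `G / O_p(G)` has a normal
`p`-complement `K̄`, then `K̄` is abelian (it is an irreducible `T`-group of coprime order), so `G`
satisfies `IsPAbelianP p G`.
-/

set_option autoImplicit false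

namespace Cfsg.Agent.Lib.Helper97

open Cfsg
open scoped commutatorElement

universe u

/-- A normal `p'`-subgroup `K` without proper nontrivial `A`-invariant subgroups, `A` a `p`-group, is
abelian. -/
theorem commutative_of_irreducible_coprime {G : Type*} [Group G] [Finite G] {p : ℕ} [Fact p.Prime]
    (A K : Subgroup G) [hKn : K.Normal] (hA : IsPGroup p A) (hK : (Nat.card K).Coprime p)
    (hirr : ∀ X : Subgroup G, X ≤ K → A ≤ Subgroup.normalizer (X : Set G) → X = ⊥ ∨ X = K) :
    ∀ x ∈ K, ∀ y ∈ K, x * y = y * x := by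
  by_cases hKb : K = ⊥
  · intro x hx y hy
    rw [hKb, Subgroup.mem_bot] at hx hy
    rw [hx, hy]
  have hAK : A ≤ Subgroup.normalizer (K : Set G) := by
    rw [Subgroup.normalizer_eq_top_iff.mpr hKn]; exact le_top
  have hcard1 : Nat.card K ≠ 1 := fun h => hKb (Subgroup.eq_bot_of_card_eq K h)
  set q := (Nat.card K).minFac with hq
  have hqp : q.Prime := Nat.minFac_prime hcard1
  have : Fact q.Prime := ⟨hqp⟩
  have hqdvd : q ∣ Nat.card K := Nat.minFac_dvd _
  have hcop : (Nat.card A).Coprime (Nat.card K) := by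
    obtain ⟨n, hn⟩ := IsPGroup.iff_card.mp hA
    rw [hn]
    exact Nat.Coprime.pow_left n hK.symm
  have hnil : Group.IsNilpotent ↥A := hA.isNilpotent
  have hsolv : Group.IsSolvable ↥A := inferInstance
  obtain ⟨P, hP⟩ := Cfsg.Agent.Lib.Helper54.exists_invariant_sylow A K hAK hcop (Or.inl hsolv) q
  have hXK : (P : Subgroup K).map K.subtype ≤ K := Subgroup.map_subtype_le _
  have hKq : IsPGroup q K := by
    rcases hirr _ hXK hP with h | h
    · exfalso
      have h1 : (P : Subgroup K) = ⊥ :=
        (Subgroup.map_eq_bot_iff_of_injective _ K.subtype_injective).mp h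
      exact P.ne_bot_of_dvd_card hqdvd h1
    · intro x
      have hx : (x : G) ∈ (P : Subgroup K).map K.subtype := by rw [h]; exact x.2
      obtain ⟨y, hy, hyx⟩ := hx
      have hyx' : y = x := Subtype.ext hyx
      rw [hyx'] at hy
      obtain ⟨k, hk⟩ := P.isPGroup' ⟨x, hy⟩
      refine ⟨k, ?_⟩
      have := congrArg Subtype.val hk
      simpa using this
  have hnilK : Group.IsNilpotent ↥K := hKq.isNilpotent
  have hsolvK : Group.IsSolvable ↥K := inferInstance
  have hntK : Nontrivial ↥K := (Subgroup.nontrivial_iff_ne_bot K).mpr hKb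
  have hlt : commutator ↥K < ⊤ := Group.IsSolvable.commutator_lt_top_of_nontrivial ↥K
  have hcn : (⁅K, K⁆ : Subgroup G).Normal := Subgroup.commutator_normal K K
  have hAc : A ≤ Subgroup.normalizer ((⁅K, K⁆ : Subgroup G) : Set G) := by
    rw [Subgroup.normalizer_eq_top_iff.mpr hcn]; exact le_top
  rcases hirr _ (Subgroup.commutator_le_self K) hAc with h | h
  · intro x hx y hy
    rw [Subgroup.commutator_eq_bot_iff_le_centralizer] at h
    exact (Subgroup.mem_centralizer_iff.mp (h hx) y hy).symm
  · exfalso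
    have h1 : (commutator ↥K).map K.subtype = (⊤ : Subgroup ↥K).map K.subtype := by
      rw [Subgroup.map_subtype_commutator, h, ← MonoidHom.range_eq_map, Subgroup.range_subtype]
    have h2 := Subgroup.map_injective K.subtype_injective h1
    exact hlt.ne h2

/-- If a Sylow `p`-subgroup of `G` is a maximal subgroup and `G / O_p(G)` has a normal
`p`-complement, then `G` is (`p`-group) by (abelian `p'`-group) by (`p`-group). -/
theorem isPAbelianP_of_sylow_coatom {G : Type u} [Group G] [Finite G] {p : ℕ} [Fact p.Prime]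
    (hNPC : HasNormalPComplement p (G ⧸ pCore p G)) (T : Sylow p G)
    (hT : IsCoatom (T : Subgroup G)) : IsPAbelianP p G := by
  have hp : p.Prime := Fact.out
  have hsurj := QuotientGroup.mk'_surjective (pCore p G)
  obtain ⟨P', K', hK'n, hcompl⟩ := hNPC
  have hidxP : (P' : Subgroup (G ⧸ pCore p G)).index = Nat.card K' := hcompl.index_eq_card
  have hidxK : K'.index = Nat.card P' := hcompl.symm.index_eq_card
  have hKcop : (Nat.card K').Coprime p := by
    rw [Nat.coprime_comm, Nat.Prime.coprime_iff_not_dvd hp, ← hidxP]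
    exact P'.not_dvd_index
  set T' : Sylow p (G ⧸ pCore p G) := T.mapSurjective hsurj with hT'
  have hT'coe : (T' : Subgroup (G ⧸ pCore p G)) =
      (T : Subgroup G).map (QuotientGroup.mk' (pCore p G)) := Sylow.coe_mapSurjective _ _
  have hcopKT : (Nat.card K').Coprime (Nat.card (T' : Subgroup (G ⧸ pCore p G))) := by
    obtain ⟨n, hn⟩ := IsPGroup.iff_card.mp T'.isPGroup'
    rw [hn]
    exact Nat.Coprime.pow_right n hKcop
  have hdisj : K' ⊓ (T' : Subgroup (G ⧸ pCore p G)) = ⊥ := (Subgroup.disjoint_of_coprime_natCard hcopKT).eq_bot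
  have hTnK : (T' : Subgroup (G ⧸ pCore p G)) ≤ Subgroup.normalizer (K' : Set (G ⧸ pCore p G)) := by
    rw [Subgroup.normalizer_eq_top_iff.mpr hK'n]; exact le_top
  have hirr : ∀ X : Subgroup (G ⧸ pCore p G), X ≤ K' →
      (T' : Subgroup (G ⧸ pCore p G)) ≤ Subgroup.normalizer (X : Set (G ⧸ pCore p G)) →
      X = ⊥ ∨ X = K' := by
    intro X hXK hTX
    have hXdisj : X ⊓ (T' : Subgroup (G ⧸ pCore p G)) = ⊥ := by
      rw [eq_bot_iff, ← hdisj]
      exact inf_le_inf_right _ hXK
    have hTY : (T : Subgroup G) ≤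
        (X ⊔ (T' : Subgroup (G ⧸ pCore p G))).comap (QuotientGroup.mk' (pCore p G)) := by
      intro t ht
      rw [Subgroup.mem_comap]
      apply Subgroup.mem_sup_right
      rw [hT'coe]
      exact Subgroup.mem_map_of_mem _ ht
    rcases hT.le_iff.mp hTY with h | h
    · right
      have h1 : X ⊔ (T' : Subgroup (G ⧸ pCore p G)) = ⊤ := by
        have := congrArg (Subgroup.map (QuotientGroup.mk' (pCore p G))) h
        rwa [Subgroup.map_comap_eq_self_of_surjective hsurj,
          Subgroup.map_top_of_surjective _ hsurj] at this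
      have h2 : K' ⊔ (T' : Subgroup (G ⧸ pCore p G)) = ⊤ := by
        rw [eq_top_iff, ← h1]
        exact sup_le_sup_right hXK _
      have c1 := Cfsg.Agent.Lib.Helper54.card_sup_of_le_normalizer hTX hXdisj
      have c2 := Cfsg.Agent.Lib.Helper54.card_sup_of_le_normalizer hTnK hdisj
      rw [h1] at c1
      rw [h2] at c2
      have c3 : Nat.card X * Nat.card (T' : Subgroup (G ⧸ pCore p G)) =
          Nat.card K' * Nat.card (T' : Subgroup (G ⧸ pCore p G)) := by rw [← c1, ← c2]
      have c4 : Nat.card X = Nat.card K' := Nat.eq_of_mul_eq_mul_right Nat.card_pos c3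
      exact Subgroup.eq_of_le_of_card_ge hXK c4.ge
    · left
      rw [eq_bot_iff, ← hdisj]
      refine le_inf hXK ?_
      intro x hx
      obtain ⟨g, rfl⟩ := hsurj x
      have hg : g ∈ (X ⊔ (T' : Subgroup (G ⧸ pCore p G))).comap
          (QuotientGroup.mk' (pCore p G)) := by
        rw [Subgroup.mem_comap]
        exact Subgroup.mem_sup_left hx
      rw [h] at hg
      rw [hT'coe]
      exact Subgroup.mem_map_of_mem _ hg
  have hcomm := commutative_of_irreducible_coprime (T' : Subgroup (G ⧸ pCore p G)) K'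
    T'.isPGroup' hKcop hirr
  refine ⟨pCore p G, K'.comap (QuotientGroup.mk' (pCore p G)), inferInstance, hK'n.comap _, ?_,
    isPGroup_pCore p G, ?_, ?_, ?_⟩
  · intro x hx
    rw [Subgroup.mem_comap]
    have : (QuotientGroup.mk' (pCore p G)) x = 1 := (QuotientGroup.eq_one_iff _).mpr hx
    rw [this]
    exact one_mem _
  · rw [Subgroup.commutator_le]
    intro x hx y hy
    rw [← QuotientGroup.eq_one_iff]
    have h1 : ((⁅x, y⁆ : G) : G ⧸ pCore p G) =
        ⁅(QuotientGroup.mk' (pCore p G)) x, (QuotientGroup.mk' (pCore p G)) y⁆ :=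
      map_commutatorElement (QuotientGroup.mk' (pCore p G)) x y
    rw [h1, commutatorElement_eq_one_iff_commute]
    exact hcomm _ hx _ hy
  · intro l hl
    refine ⟨Nat.card K', hKcop, ?_⟩
    rw [← QuotientGroup.eq_one_iff]
    have h1 : ((l ^ Nat.card K' : G) : G ⧸ pCore p G) =
        ((QuotientGroup.mk' (pCore p G)) l) ^ Nat.card K' :=
      map_pow (QuotientGroup.mk' (pCore p G)) l _
    rw [h1]
    have h2 := pow_card_eq_one' (G := ↥K') (x := ⟨(QuotientGroup.mk' (pCore p G)) l, hl⟩)
    have h3 := congrArg Subtype.val h2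
    rw [Subgroup.coe_pow, Subgroup.coe_one] at h3
    exact h3
  · intro g
    obtain ⟨k, hk⟩ := IsPGroup.iff_card.mp P'.isPGroup'
    refine ⟨k, ?_⟩
    rw [Subgroup.mem_comap, map_pow, ← QuotientGroup.eq_one_iff, ← hk, ← hidxK,
      Subgroup.index_eq_card]
    have := pow_card_eq_one' (G := (G ⧸ pCore p G) ⧸ K')
      (x := (((QuotientGroup.mk' (pCore p G)) g : G ⧸ pCore p G) : (G ⧸ pCore p G) ⧸ K'))
    simp

end Cfsg.Agent.Lib.Helper97
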