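import Mathlib
import Cfsg.Prelude.Def_PLocal
import Cfsg.Agent.Lib.Helper97.PStable
import Cfsg.Agent.Lib.Helper97.Cores
import Cfsg.Agent.Lib.Helper1.PGroupMax

/-!
# `p`-stability statements for groups with `IsPAbelianP` (helper97)

Consequences of `exists_normal_of_quadratic` phrased with the frozen predicates `IsPStableOn` and
`IsPStableOnSection`.
-/

set_option autoImplicit false

namespace Cfsg.Agent.Lib.Helper97

open Cfsg
open scoped commutatorElement

universe u

/-- `p` odd, `G` finite with abelian `p'`-part: `G` acts `p`-stably on every normal elementary abelian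
`p`-subgroup. -/
theorem isPStableOn_of_isPAbelianP {G : Type u} [Group G] [Finite G] {p : ℕ} [Fact p.Prime]
    (hp2 : p ≠ 2) (hG : IsPAbelianP p G) (V : Subgroup G) [V.Normal]
    (hV : IsElementaryAbelian p V) : IsPStableOn p V := by
  intro a ha
  obtain ⟨D, hDn, haD, hD⟩ := exists_normal_of_quadratic hp2 _ G hG V hV rfl a ha
  have hsurj := QuotientGroup.mk'_surjective (Subgroup.centralizer (V : Set G))
  have h1 : (D.map (QuotientGroup.mk' (Subgroup.centralizer (V : Set G)))).Normal :=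
    hDn.map _ hsurj
  have h2 : IsPGroup p (D.map (QuotientGroup.mk' (Subgroup.centralizer (V : Set G)))) := by
    rintro ⟨_, d, hd, rfl⟩
    obtain ⟨k, hk⟩ := hD d hd
    refine ⟨k, Subtype.ext ?_⟩
    rw [Subgroup.coe_pow, Subgroup.coe_one, ← map_pow]
    exact (QuotientGroup.eq_one_iff _).mpr hk
  exact le_pCore_of_normal h1 h2 (Subgroup.mem_map_of_mem _ haD)

/-- Section version: `Q / Φ` elementary abelian. -/
theorem isPStableOnSection_of_isPAbelianP {G : Type u} [Group G] [Finite G] {p : ℕ}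
    [Fact p.Prime] (hp2 : p ≠ 2) (hG : IsPAbelianP p G) (Q Φ : Subgroup G) [hQn : Q.Normal]
    [hΦn : Φ.Normal] (hcomm : ⁅Q, Q⁆ ≤ Φ) (hpow : ∀ x ∈ Q, x ^ p ∈ Φ) :
    IsPStableOnSection p Q Φ := by
  intro a ha
  have hsurj := QuotientGroup.mk'_surjective Φ
  set V' : Subgroup (G ⧸ Φ) := Q.map (QuotientGroup.mk' Φ) with hV'
  have hVn : V'.Normal := hQn.map _ hsurj
  have hVel : IsElementaryAbelian p V' := by
    refine ⟨⟨⟨?_⟩⟩, ?_⟩
    · rintro ⟨_, x, hx, rfl⟩ ⟨_, y, hy, rfl⟩
      apply Subtype.ext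
      show (QuotientGroup.mk' Φ) x * (QuotientGroup.mk' Φ) y =
        (QuotientGroup.mk' Φ) y * (QuotientGroup.mk' Φ) x
      have h1 : ⁅x, y⁆ ∈ Φ := hcomm (Subgroup.commutator_mem_commutator hx hy)
      have h2 : (QuotientGroup.mk' Φ) ⁅x, y⁆ = 1 := (QuotientGroup.eq_one_iff _).mpr h1
      rw [map_commutatorElement, commutatorElement_eq_one_iff_commute] at h2
      exact h2.eq
    · rintro _ ⟨x, hx, rfl⟩
      rw [← map_pow]
      exact (QuotientGroup.eq_one_iff _).mpr (hpow x hx)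
  have hquad : ⁅⁅V', Subgroup.zpowers ((QuotientGroup.mk' Φ) a)⁆,
      Subgroup.zpowers ((QuotientGroup.mk' Φ) a)⁆ = ⊥ := by
    rw [hV', ← MonoidHom.map_zpowers, ← Subgroup.map_commutator, ← Subgroup.map_commutator,
      eq_bot_iff]
    calc _ ≤ Φ.map (QuotientGroup.mk' Φ) := Subgroup.map_mono ha
      _ = ⊥ := QuotientGroup.map_mk'_self Φ
  obtain ⟨D', hD'n, haD', hD'⟩ := exists_normal_of_quadratic hp2 _ (G ⧸ Φ) (hG.quotient Φ) V'
    hVel rfl _ hquad
  set C' : Subgroup (G ⧸ Φ) := Subgroup.centralizer (V' : Set (G ⧸ Φ)) with hC'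
  have hC'n : C'.Normal := Subgroup.normal_centralizer
  have hker : sectionKernel Q Φ = C'.comap (QuotientGroup.mk' Φ) := rfl
  have hsupn : (D' ⊔ C').Normal := inferInstance
  refine ⟨(D' ⊔ C').comap (QuotientGroup.mk' Φ), hsupn.comap _, ?_, ?_, ?_⟩
  · rw [hker]
    exact Subgroup.comap_mono le_sup_right
  · rw [hker, Subgroup.relIndex_comap, Subgroup.map_comap_eq_self_of_surjective hsurj,
      Subgroup.relIndex_sup_right]
    -- `D' / (C' ⊓ D')` is a `p`-group
    have hP : IsPGroup p (↥D' ⧸ C'.subgroupOf D') := by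
      intro x
      obtain ⟨d, rfl⟩ := QuotientGroup.mk'_surjective (C'.subgroupOf D') x
      obtain ⟨k, hk⟩ := hD' d d.2
      refine ⟨k, ?_⟩
      rw [← map_pow]
      refine (QuotientGroup.eq_one_iff _).mpr ?_
      rw [Subgroup.mem_subgroupOf, Subgroup.coe_pow]
      exact hk
    obtain ⟨k, hk⟩ := IsPGroup.iff_card.mp hP
    refine ⟨k, ?_⟩
    rw [Subgroup.relIndex, Subgroup.index_eq_card]
    exact hk
  · rw [Subgroup.mem_comap]
    exact Subgroup.mem_sup_left haD'

/-- Commutators lie in the Frattini subgroup of a finite `p`-group. -/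
theorem commutatorElement_mem_frattini {P : Type*} [Group P] [Finite P] {p : ℕ} [Fact p.Prime]
    (hP : IsPGroup p P) (x y : P) : ⁅x, y⁆ ∈ frattini P := by
  unfold frattini Order.radical
  rw [Subgroup.mem_iInf]
  intro M
  rw [Subgroup.mem_iInf]
  intro hM
  have hM : IsCoatom M := hM
  have hn : M.Normal := Cfsg.Agent.Lib.Helper1.coatom_normal_of_isPGroup hP hM
  have hi : M.index = p := Cfsg.Agent.Lib.Helper1.coatom_index_of_isPGroup hP hM
  have hcard : Nat.card (P ⧸ M) = p := by rw [← hi]; rfl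
  have hcyc : IsCyclic (P ⧸ M) := isCyclic_of_prime_card hcard
  rw [← QuotientGroup.eq_one_iff]
  have h1 : ((⁅x, y⁆ : P) : P ⧸ M) = ⁅(x : P ⧸ M), (y : P ⧸ M)⁆ :=
    map_commutatorElement (QuotientGroup.mk' M) x y
  rw [h1, commutatorElement_eq_one_iff_commute]
  letI := IsCyclic.commGroup (α := P ⧸ M)
  exact Commute.all _ _

/-- `p`-th powers lie in the Frattini subgroup of a finite `p`-group. -/
theorem pow_prime_mem_frattini {P : Type*} [Group P] [Finite P] {p : ℕ} [Fact p.Prime]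
    (hP : IsPGroup p P) (x : P) : x ^ p ∈ frattini P := by
  unfold frattini Order.radical
  rw [Subgroup.mem_iInf]
  intro M
  rw [Subgroup.mem_iInf]
  intro hM
  have hM : IsCoatom M := hM
  have hn : M.Normal := Cfsg.Agent.Lib.Helper1.coatom_normal_of_isPGroup hP hM
  have hi : M.index = p := Cfsg.Agent.Lib.Helper1.coatom_index_of_isPGroup hP hM
  have hcard : Nat.card (P ⧸ M) = p := by rw [← hi]; rfl
  rw [← QuotientGroup.eq_one_iff]
  have h := pow_card_eq_one' (G := P ⧸ M) (x := (x : P ⧸ M))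
  rw [hcard] at h
  simpa using h

theorem commutator_le_map_frattini {G : Type*} [Group G] [Finite G] {p : ℕ} [Fact p.Prime]
    {Q : Subgroup G} (hQ : IsPGroup p Q) : ⁅Q, Q⁆ ≤ (frattini ↥Q).map Q.subtype := by
  rw [Subgroup.commutator_le]
  intro x hx y hy
  refine ⟨⁅(⟨x, hx⟩ : ↥Q), ⟨y, hy⟩⁆, commutatorElement_mem_frattini hQ _ _, ?_⟩
  simp [commutatorElement_def]

theorem pow_prime_mem_map_frattini {G : Type*} [Group G] [Finite G] {p : ℕ} [Fact p.Prime]
    {Q : Subgroup G} (hQ : IsPGroup p Q) {x : G} (hx : x ∈ Q) :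
    x ^ p ∈ (frattini ↥Q).map Q.subtype :=
  ⟨(⟨x, hx⟩ : ↥Q) ^ p, pow_prime_mem_frattini hQ _, by simp⟩

end Cfsg.Agent.Lib.Helper97
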