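import Mathlib
import Cfsg.Agent.Lib.Helper33.SylIn
import Cfsg.Agent.Lib.Helper97.ThompsonMap
import Cfsg.Agent.Lib.Helper97.Thompson2

/-!
# Frattini argument for `S ⊓ M`, and `J(T) = J(S)` for `J(S) ≤ T ≤ S` (helper97)

* `sylIn_inf_of_normal'`: `S ⊓ M` is a Sylow `p`-subgroup of the normal subgroup `M`;
* `frattini_sylow_inf`: `G = M N_G(S ⊓ M)` elementwise;
* `normalizer_le_normalizer_thompsonSubgroupOf`: `N_G(T) ≤ N_G(J(T))`;
* `thompsonSubgroupOf_le_of_forall_max`: `J(S) ≤ C` as soon as all elementary abelian subgroups of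
  `G` of largest order lie in `C`;
* `thompsonSubgroupOf_eq_of_le_of_le`: `J(T) = J(S)` if `J(S) ≤ T ≤ S` (`S` Sylow);
* `frattini_thompson`: if `M` is normal and `J(S) ≤ M` then `G = M N_G(J(S))` elementwise.
-/

set_option autoImplicit false

namespace Cfsg.Agent.Lib.Helper97

open Cfsg Cfsg.Agent.Lib.Helper33

universe u

variable {G : Type u} [Group G]

theorem sylIn_inf_of_normal' {p : ℕ} [Fact p.Prime] [Finite G] (S : Sylow p G) (M : Subgroup G)
    [hM : M.Normal] : SylIn p ((S : Subgroup G) ⊓ M) M := by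
  obtain R : Sylow p M := Classical.arbitrary _
  have hR : SylIn p ((R : Subgroup M).map M.subtype) M := sylIn_of_sylow R
  have hT : SylIn p (S : Subgroup G) ⊤ := sylIn_top S
  obtain ⟨n, -, hle⟩ := hT.exists_cj_le (Q := (R : Subgroup M).map M.subtype) le_top hR.isPGroup
  have h1 : SylIn p (cj n ((R : Subgroup M).map M.subtype)) (cj n M) := hR.cj n
  have hcj : cj n M = M := by
    apply cj_eq_self_of_mem_normalizer
    rw [Subgroup.normalizer_eq_top_iff.mpr hM]
    exact Subgroup.mem_top n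
  rw [hcj] at h1
  have h2 : cj n ((R : Subgroup M).map M.subtype) ≤ (S : Subgroup G) ⊓ M := le_inf hle h1.le
  have h3 := h1.eq_of_le inf_le_right (S.isPGroup'.to_le inf_le_left) h2
  rw [h3]
  exact h1

/-- Frattini argument: for `M` normal, every `g` is `m⁻¹ * n` with `m ∈ M` and `n ∈ N_G(S ⊓ M)`. -/
theorem frattini_sylow_inf {p : ℕ} [Fact p.Prime] [Finite G] (S : Sylow p G) (M : Subgroup G)
    [hM : M.Normal] (g : G) :
    ∃ m ∈ M, m * g ∈ Subgroup.normalizer (((S : Subgroup G) ⊓ M : Subgroup G) : Set G) := by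
  have h0 : SylIn p ((S : Subgroup G) ⊓ M) M := sylIn_inf_of_normal' S M
  have h1 : SylIn p (cj g ((S : Subgroup G) ⊓ M)) (cj g M) := h0.cj g
  have hcj : cj g M = M := by
    apply cj_eq_self_of_mem_normalizer
    rw [Subgroup.normalizer_eq_top_iff.mpr hM]
    exact Subgroup.mem_top g
  rw [hcj] at h1
  obtain ⟨m, hm, hmeq⟩ := h0.exists_cj_eq h1
  refine ⟨m, hm, ?_⟩
  rw [mem_normalizer_iff_cj_eq, cj_mul]
  exact hmeq

/-- `N_G(T) ≤ N_G(J(T))`. -/
theorem normalizer_le_normalizer_thompsonSubgroupOf (p : ℕ) (T : Subgroup G) :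
    Subgroup.normalizer (T : Set G) ≤ Subgroup.normalizer (thompsonSubgroupOf p T : Set G) := by
  intro g hg
  rw [mem_normalizer_iff_cj_eq] at hg ⊢
  have h1 := thompsonSubgroupOf_map_of_injOn p (MulAut.conj g).toMonoidHom T
    (fun x _ hx => (MulAut.conj g).injective (by rw [MulEquiv.coe_toMonoidHom] at hx; rw [hx, map_one]))
  unfold cj at hg ⊢
  rw [← h1, hg]

theorem thompsonSubgroupOf_le_of_forall_max [Finite G] {p : ℕ} [Fact p.Prime] (S : Sylow p G)
    {C : Subgroup G} (h : ∀ A ∈ maxElementaryAbelianSubgroups p G, A ≤ C) :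
    thompsonSubgroupOf p (S : Subgroup G) ≤ C := by
  obtain ⟨A₀, hA₀, hA₀S⟩ := exists_max_le_sylow S
  rw [thompsonSubgroupOf_eq_sSup (S : Subgroup G) hA₀ hA₀S]
  exact sSup_le fun A hA => h A hA.1

theorem thompsonSubgroupOf_eq_of_le_of_le [Finite G] {p : ℕ} [Fact p.Prime] (S : Sylow p G)
    {T : Subgroup G} (hTS : T ≤ (S : Subgroup G))
    (hJ : thompsonSubgroupOf p (S : Subgroup G) ≤ T) :
    thompsonSubgroupOf p T = thompsonSubgroupOf p (S : Subgroup G) := by
  obtain ⟨A₀, hA₀, hA₀S⟩ := exists_max_le_sylow S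
  have hS := thompsonSubgroupOf_eq_sSup (S : Subgroup G) hA₀ hA₀S
  have hA₀T : A₀ ≤ T := by
    refine le_trans ?_ hJ
    rw [hS]
    exact le_sSup ⟨hA₀, hA₀S⟩
  rw [thompsonSubgroupOf_eq_sSup T hA₀ hA₀T, hS]
  congr 1
  ext A
  constructor
  · rintro ⟨h1, h2⟩
    exact ⟨h1, h2.trans hTS⟩
  · rintro ⟨h1, h2⟩
    refine ⟨h1, le_trans ?_ hJ⟩
    rw [hS]
    exact le_sSup ⟨h1, h2⟩

/-- If the normal subgroup `M` contains `J(S)` then `G = M N_G(J(S))`. -/
theorem frattini_thompson {p : ℕ} [Fact p.Prime] [Finite G] (S : Sylow p G) (M : Subgroup G)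
    [hM : M.Normal] (hJ : thompsonSubgroupOf p (S : Subgroup G) ≤ M) (g : G) :
    ∃ m ∈ M, m * g ∈ Subgroup.normalizer (thompsonSubgroupOf p (S : Subgroup G) : Set G) := by
  obtain ⟨m, hm, hn⟩ := frattini_sylow_inf S M g
  refine ⟨m, hm, ?_⟩
  have h1 := normalizer_le_normalizer_thompsonSubgroupOf p _ hn
  rwa [thompsonSubgroupOf_eq_of_le_of_le S inf_le_left
    (le_inf (thompsonSubgroupOf_le p _) hJ)] at h1

end Cfsg.Agent.Lib.Helper97
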