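import Mathlib
import Cfsg.Prelude.Def_Transfer
import Cfsg.Prelude.Def_PLocal
import Cfsg.Agent.Lib.Helper97.Thompson3

/-!
# Thompson / Timmesfeld replacement (helper97)

`cv V B = C_V(B)`, `offProd V B = |B| * |C_V(B)|`.
-/

set_option autoImplicit false

namespace Cfsg.Agent.Lib.Helper97

open Cfsg

universe u

variable {G : Type u} [Group G]

/-- `C_V(B)` -/
abbrev cv (V B : Subgroup G) : Subgroup G := V ⊓ Subgroup.centralizer (B : Set G)

/-- `|B| * |C_V(B)|` -/
noncomputable def offProd (V B : Subgroup G) : ℕ := Nat.card B * Nat.card (cv V B)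

theorem cv_antitone (V : Subgroup G) {B D : Subgroup G} (h : B ≤ D) : cv V D ≤ cv V B :=
  inf_le_inf_left V (Subgroup.centralizer_le h)

theorem cv_inf_le_cv_sup (V B D : Subgroup G) : cv V B ⊓ cv V D ≤ cv V (B ⊔ D) := by
  intro x hx
  refine ⟨hx.1.1, ?_⟩
  have h1 : B ≤ Subgroup.centralizer {x} := by
    intro b hb
    rw [Subgroup.mem_centralizer_singleton_iff]
    exact (Subgroup.mem_centralizer_iff.mp hx.1.2 b hb)
  have h2 : D ≤ Subgroup.centralizer {x} := by
    intro b hb
    rw [Subgroup.mem_centralizer_singleton_iff]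
    exact (Subgroup.mem_centralizer_iff.mp hx.2.2 b hb)
  have h3 : B ⊔ D ≤ Subgroup.centralizer {x} := sup_le h1 h2
  show x ∈ Subgroup.centralizer ((B ⊔ D : Subgroup G) : Set G)
  rw [Subgroup.mem_centralizer_iff]
  intro y hy
  have := h3 hy
  rw [Subgroup.mem_centralizer_singleton_iff] at this
  exact this

theorem cv_sup_le_cv_inf (V B D : Subgroup G) : cv V B ⊔ cv V D ≤ cv V (B ⊓ D) :=
  sup_le (cv_antitone V inf_le_left) (cv_antitone V inf_le_right)

theorem offProd_pos [Finite G] (V B : Subgroup G) : 0 < offProd V B :=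
  Nat.mul_pos Nat.card_pos Nat.card_pos

/-- The key lattice lemma: the subgroups of `A` at which `offProd` attains the maximum `M` are closed under
intersection, and fixed points add up. -/
theorem offProd_inf_of_max [Finite G] {V A B D : Subgroup G} {M : ℕ}
    (hmax : ∀ X : Subgroup G, X ≤ A → offProd V X ≤ M) (hB : B ≤ A) (hD : D ≤ A)
    (hfB : offProd V B = M) (hfD : offProd V D = M) :
    offProd V (B ⊓ D) = M ∧ cv V (B ⊓ D) = cv V B ⊔ cv V D := by
  set b := Nat.card B with hb
  set d := Nat.card D with hd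
  set s := Nat.card (B ⊔ D : Subgroup G) with hs
  set i := Nat.card (B ⊓ D : Subgroup G) with hi
  set cb := Nat.card (cv V B) with hcb
  set cd := Nat.card (cv V D) with hcd
  set cs := Nat.card (cv V (B ⊔ D)) with hcs
  set ci := Nat.card (cv V (B ⊓ D)) with hci
  set j := Nat.card (cv V B ⊔ cv V D : Subgroup G) with hj
  set m := Nat.card (cv V B ⊓ cv V D : Subgroup G) with hm
  have e1 : b * d ≤ s * i := card_mul_card_le_sup_mul_inf B D
  have e2 : cb * cd ≤ j * m := card_mul_card_le_sup_mul_inf (cv V B) (cv V D)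
  have e3 : m ≤ cs := Nat.card_mono (Set.toFinite _) (cv_inf_le_cv_sup V B D)
  have e4 : j ≤ ci := Nat.card_mono (Set.toFinite _) (cv_sup_le_cv_inf V B D)
  have e5 : s * cs ≤ M := hmax _ (sup_le hB hD)
  have e6 : i * ci ≤ M := hmax _ (inf_le_left.trans hB)
  have e7 : b * cb = M := hfB
  have e8 : d * cd = M := hfD
  have hs0 : 0 < s := Nat.card_pos
  have hi0 : 0 < i := Nat.card_pos
  have hcs0 : 0 < cs := Nat.card_pos
  have hM0 : 0 < M := by rw [← e7]; exact Nat.mul_pos Nat.card_pos Nat.card_pos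
  -- chain of inequalities
  have c1 : M * M ≤ (s * i) * (j * m) := by
    calc M * M = (b * cb) * (d * cd) := by rw [e7, e8]
      _ = (b * d) * (cb * cd) := by ring
      _ ≤ (s * i) * (j * m) := Nat.mul_le_mul e1 e2
  have c2 : (s * i) * (j * m) ≤ (s * i) * (j * cs) :=
    Nat.mul_le_mul_left _ (Nat.mul_le_mul_left _ e3)
  have c3 : (s * i) * (j * cs) ≤ (s * i) * (ci * cs) :=
    Nat.mul_le_mul_left _ (Nat.mul_le_mul_right _ e4)
  have c4 : (s * i) * (ci * cs) = (s * cs) * (i * ci) := by ring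
  have c5 : (s * cs) * (i * ci) ≤ M * M := Nat.mul_le_mul e5 e6
  have hici : i * ci = M := by
    by_contra hne
    have hlt : i * ci < M := lt_of_le_of_ne e6 hne
    have : (s * cs) * (i * ci) < M * M :=
      calc (s * cs) * (i * ci) < (s * cs) * M :=
            Nat.mul_lt_mul_of_pos_left hlt (Nat.mul_pos hs0 hcs0)
        _ ≤ M * M := Nat.mul_le_mul_right _ e5
    have h6 : M * M ≤ (s * cs) * (i * ci) := by
      calc M * M ≤ (s * i) * (j * m) := c1
        _ ≤ (s * i) * (j * cs) := c2
        _ ≤ (s * i) * (ci * cs) := c3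
        _ = (s * cs) * (i * ci) := c4
    omega
  have hjci : j = ci := by
    have h7 : (s * i) * (ci * cs) ≤ (s * i) * (j * cs) := by
      calc (s * i) * (ci * cs) = (s * cs) * (i * ci) := c4
        _ ≤ M * M := c5
        _ ≤ (s * i) * (j * m) := c1
        _ ≤ (s * i) * (j * cs) := c2
    have h8 : ci * cs ≤ j * cs := Nat.le_of_mul_le_mul_left h7 (Nat.mul_pos hs0 hi0)
    have h9 : ci ≤ j := Nat.le_of_mul_le_mul_right h8 hcs0
    omega
  refine ⟨hici, ?_⟩
  symm
  exact Subgroup.eq_of_le_of_card_ge (cv_sup_le_cv_inf V B D) (by rw [← hj, ← hci, hjci])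

end Cfsg.Agent.Lib.Helper97
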