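import Mathlib
import Cfsg.Prelude.Def_Transfer
import Cfsg.Prelude.Def_PLocal
import Cfsg.Agent.Lib.Helper97.Replacement

/-!
# Thompson / Timmesfeld replacement, part 2: the cyclic case and the induction (helper97)
-/

set_option autoImplicit false

namespace Cfsg.Agent.Lib.Helper97

open Cfsg
open scoped commutatorElement

universe u

variable {G : Type u} [Group G]

/-- the subgroup generated by the commutators `⁅u, a⁆`, `a ∈ A` -/
def wOf (u : G) (A : Subgroup G) : Subgroup G := Subgroup.closure {g | ∃ a ∈ A, ⁅u, a⁆ = g}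

theorem commutatorElement_mem_wOf {u a : G} {A : Subgroup G} (ha : a ∈ A) : ⁅u, a⁆ ∈ wOf u A :=
  Subgroup.subset_closure ⟨a, ha, rfl⟩

theorem conj_mem_of_le_normalizer {V A : Subgroup G} (hAV : A ≤ Subgroup.normalizer (V : Set G))
    {a v : G} (ha : a ∈ A) (hv : v ∈ V) : a * v * a⁻¹ ∈ V :=
  (Subgroup.mem_normalizer_iff.mp (hAV ha) v).mp hv

theorem commutatorElement_mem_of_le_normalizer {V A : Subgroup G}
    (hAV : A ≤ Subgroup.normalizer (V : Set G)) {u a : G} (hu : u ∈ V) (ha : a ∈ A) : ⁅u, a⁆ ∈ V := by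
  have : ⁅u, a⁆ = u * (a * u⁻¹ * a⁻¹) := by rw [commutatorElement_def]; group
  rw [this]
  exact V.mul_mem hu (conj_mem_of_le_normalizer hAV ha (V.inv_mem hu))

theorem wOf_le {V A : Subgroup G} (hAV : A ≤ Subgroup.normalizer (V : Set G)) {u : G} (hu : u ∈ V) :
    wOf u A ≤ V := by
  unfold wOf
  rw [Subgroup.closure_le]
  rintro g ⟨a, ha, rfl⟩
  exact commutatorElement_mem_of_le_normalizer hAV hu ha

/-- (I1): the actions of `b * d` and `d * b` on `V` agree. -/
theorem conj_mul_comm_of_commutator_le {V A : Subgroup G}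
    (hab : ⁅A, A⁆ ≤ Subgroup.centralizer (V : Set G)) {b d v : G} (hb : b ∈ A) (hd : d ∈ A)
    (hv : v ∈ V) : (b * d) * v * (b * d)⁻¹ = (d * b) * v * (d * b)⁻¹ := by
  have hk : ⁅b⁻¹, d⁻¹⁆ ∈ Subgroup.centralizer (V : Set G) :=
    hab (Subgroup.commutator_mem_commutator (A.inv_mem hb) (A.inv_mem hd))
  have hk' := Subgroup.mem_centralizer_iff.mp hk v hv
  -- hk' : v * ⁅b⁻¹, d⁻¹⁆ = ⁅b⁻¹, d⁻¹⁆ * v
  have e1 : b * d = d * b * ⁅b⁻¹, d⁻¹⁆ := by rw [commutatorElement_def]; group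
  calc (b * d) * v * (b * d)⁻¹ = d * b * (⁅b⁻¹, d⁻¹⁆ * v) * ⁅b⁻¹, d⁻¹⁆⁻¹ * (d * b)⁻¹ := by
        rw [e1]; group
    _ = d * b * (v * ⁅b⁻¹, d⁻¹⁆) * ⁅b⁻¹, d⁻¹⁆⁻¹ * (d * b)⁻¹ := by rw [hk']
    _ = (d * b) * v * (d * b)⁻¹ := by group

/-- (K2) -/
theorem mem_centralizer_wOf_of_commutator_mem {V A : Subgroup G} [hVc : IsMulCommutative V]
    (hAV : A ≤ Subgroup.normalizer (V : Set G))
    (hab : ⁅A, A⁆ ≤ Subgroup.centralizer (V : Set G)) {u b : G} (hu : u ∈ V) (hb : b ∈ A)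
    (hz : ⁅u, b⁆ ∈ cv V A) : b ∈ Subgroup.centralizer (wOf u A : Set G) := by
  have hle : wOf u A ≤ Subgroup.centralizer {b} := by
    unfold wOf
    rw [Subgroup.closure_le]
    rintro w ⟨d, hd, rfl⟩
    rw [SetLike.mem_coe, Subgroup.mem_centralizer_singleton_iff]
    set z := ⁅u, b⁆ with hzdef
    have hzV : z ∈ V := hz.1
    have hwV : ⁅u, d⁆ ∈ V := commutatorElement_mem_of_le_normalizer hAV hu hd
    -- c1: d commutes with z
    have c1 : d * z = z * d := Subgroup.mem_centralizer_iff.mp hz.2 d hd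
    have c1' : z * d⁻¹ = d⁻¹ * z := by
      calc z * d⁻¹ = d⁻¹ * (d * z) * d⁻¹ := by group
        _ = d⁻¹ * (z * d) * d⁻¹ := by rw [c1]
        _ = d⁻¹ * z := by group
    -- c2
    have c2 := conj_mul_comm_of_commutator_le hab hb hd (V.inv_mem hu)
    -- c3 : z commutes with w
    have c3 : z * ⁅u, d⁆ = ⁅u, d⁆ * z := by
      have := hVc.is_comm.comm ⟨z, hzV⟩ ⟨⁅u, d⁆, hwV⟩
      exact congrArg Subtype.val this
    -- b u⁻¹ b⁻¹ = u⁻¹ z
    have e1 : b * u⁻¹ * b⁻¹ = u⁻¹ * z := by rw [hzdef, commutatorElement_def]; group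
    have e2 : b * u * b⁻¹ = z⁻¹ * u := by rw [hzdef, commutatorElement_def]; group
    have key : b * ⁅u, d⁆ * b⁻¹ = ⁅u, d⁆ := by
      calc b * ⁅u, d⁆ * b⁻¹ = (b * u * b⁻¹) * ((b * d) * u⁻¹ * (b * d)⁻¹) := by
            rw [commutatorElement_def]; group
        _ = (z⁻¹ * u) * ((d * b) * u⁻¹ * (d * b)⁻¹) := by rw [e2, c2]
        _ = (z⁻¹ * u) * (d * (b * u⁻¹ * b⁻¹) * d⁻¹) := by group
        _ = (z⁻¹ * u) * (d * (u⁻¹ * z) * d⁻¹) := by rw [e1]
        _ = z⁻¹ * u * d * u⁻¹ * (z * d⁻¹) := by group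
        _ = z⁻¹ * u * d * u⁻¹ * (d⁻¹ * z) := by rw [c1']
        _ = z⁻¹ * (⁅u, d⁆ * z) := by rw [commutatorElement_def]; group
        _ = z⁻¹ * (z * ⁅u, d⁆) := by rw [c3]
        _ = ⁅u, d⁆ := by group
    calc ⁅u, d⁆ * b = (b * ⁅u, d⁆ * b⁻¹) * b := by rw [key]
      _ = b * ⁅u, d⁆ := by group
  rw [Subgroup.mem_centralizer_iff]
  intro w hw
  have := hle hw
  rw [Subgroup.mem_centralizer_singleton_iff] at this
  exact this

/-- (K1) -/
theorem commutator_mem_cv_of_eq {V A : Subgroup G} {u a a₀ c c₀ : G} (ha₀ : a₀ ∈ A)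
    (hc : c ∈ cv V A) (hc₀ : c₀ ∈ cv V A) (h : ⁅u, a⁆ * c = ⁅u, a₀⁆ * c₀) :
    ⁅u, a₀⁻¹ * a⁆ ∈ cv V A := by
  have hcc : c₀ * c⁻¹ ∈ cv V A := (cv V A).mul_mem hc₀ ((cv V A).inv_mem hc)
  have hcomm : a₀ * (c₀ * c⁻¹) = (c₀ * c⁻¹) * a₀ := Subgroup.mem_centralizer_iff.mp hcc.2 a₀ ha₀
  have e1 : a * u⁻¹ * a⁻¹ = a₀ * u⁻¹ * a₀⁻¹ * (c₀ * c⁻¹) := by
    have h' : u * a * u⁻¹ * a⁻¹ * c = u * a₀ * u⁻¹ * a₀⁻¹ * c₀ := by
      rw [commutatorElement_def, commutatorElement_def] at h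
      exact h
    calc a * u⁻¹ * a⁻¹ = u⁻¹ * (u * a * u⁻¹ * a⁻¹ * c) * c⁻¹ := by group
      _ = u⁻¹ * (u * a₀ * u⁻¹ * a₀⁻¹ * c₀) * c⁻¹ := by rw [h']
      _ = a₀ * u⁻¹ * a₀⁻¹ * (c₀ * c⁻¹) := by group
  have : ⁅u, a₀⁻¹ * a⁆ = c₀ * c⁻¹ := by
    calc ⁅u, a₀⁻¹ * a⁆ = u * a₀⁻¹ * (a * u⁻¹ * a⁻¹) * a₀ := by rw [commutatorElement_def]; group
      _ = u * a₀⁻¹ * (a₀ * u⁻¹ * a₀⁻¹ * (c₀ * c⁻¹)) * a₀ := by rw [e1]
      _ = a₀⁻¹ * ((c₀ * c⁻¹) * a₀) := by group
      _ = a₀⁻¹ * (a₀ * (c₀ * c⁻¹)) := by rw [hcomm]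
      _ = c₀ * c⁻¹ := by group
  rw [this]
  exact hcc

/-- The cyclic case of the replacement inequality. -/
theorem offProd_le_cyclic [Finite G] {V A : Subgroup G} [hVc : IsMulCommutative V]
    (hAV : A ≤ Subgroup.normalizer (V : Set G))
    (hab : ⁅A, A⁆ ≤ Subgroup.centralizer (V : Set G)) {u : G} (hu : u ∈ V) :
    Nat.card A * Nat.card (cv V A) ≤
      Nat.card (A ⊓ Subgroup.centralizer (wOf u A : Set G) : Subgroup G) *
        Nat.card (wOf u A ⊔ cv V A : Subgroup G) := by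
  classical
  set Au : Subgroup G := A ⊓ Subgroup.centralizer (wOf u A : Set G) with hAu
  set X : Subgroup G := wOf u A ⊔ cv V A with hX
  have : Fintype A := Fintype.ofFinite _
  have : Fintype (cv V A) := Fintype.ofFinite _
  have : Fintype Au := Fintype.ofFinite _
  let f : A × (cv V A) → G := fun x => ⁅u, (x.1 : G)⁆ * (x.2 : G)
  have himg : ∀ x, f x ∈ X := fun x =>
    X.mul_mem (le_sup_left (a := wOf u A) (commutatorElement_mem_wOf x.1.2))
      (le_sup_right (a := wOf u A) x.2.2)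
  have hfiber : ∀ y ∈ Finset.univ.image f,
      (Finset.univ.filter fun x => f x = y).card ≤ Nat.card Au := by
    intro y hy
    obtain ⟨x₀, -, hx₀⟩ := Finset.mem_image.mp hy
    let g : A × (cv V A) → Au :=
      fun x => if h : ((x₀.1 : G)⁻¹ * (x.1 : G)) ∈ Au then ⟨_, h⟩ else 1
    have hmem : ∀ x, f x = y → ((x₀.1 : G)⁻¹ * (x.1 : G)) ∈ Au := by
      intro x hx
      have hK1 := commutator_mem_cv_of_eq (u := u) x₀.1.2 x.2.2 x₀.2.2 (hx.trans hx₀.symm)
      have hbA : (x₀.1 : G)⁻¹ * (x.1 : G) ∈ A := A.mul_mem (A.inv_mem x₀.1.2) x.1.2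
      exact ⟨hbA, mem_centralizer_wOf_of_commutator_mem hAV hab hu hbA hK1⟩
    rw [Nat.card_eq_fintype_card, ← Finset.card_univ]
    apply Finset.card_le_card_of_injOn g (fun _ _ => Finset.mem_coe.mpr (Finset.mem_univ _))
    intro x hx x' hx' hgg
    have hx1 : f x = y := by simpa using hx
    have hx2 : f x' = y := by simpa using hx'
    have h1 := hmem x hx1
    have h2 := hmem x' hx2
    simp only [g, dif_pos h1, dif_pos h2] at hgg
    have h3 : (x₀.1 : G)⁻¹ * x.1 = (x₀.1 : G)⁻¹ * x'.1 := congrArg Subtype.val hgg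
    have h4 : (x.1 : G) = x'.1 := mul_left_cancel h3
    have h5 : (x.2 : G) = x'.2 := by
      have h6 : ⁅u, (x.1 : G)⁆ * (x.2 : G) = ⁅u, (x'.1 : G)⁆ * (x'.2 : G) := hx1.trans hx2.symm
      rw [h4] at h6
      exact mul_left_cancel h6
    exact Prod.ext (Subtype.ext h4) (Subtype.ext h5)
  have h1 := Finset.card_le_mul_card_image (Finset.univ : Finset (A × cv V A)) (Nat.card Au) hfiber
  have h2 : (Finset.univ : Finset (A × cv V A)).card = Nat.card A * Nat.card (cv V A) := by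
    rw [Finset.card_univ, Fintype.card_prod, Nat.card_eq_fintype_card, Nat.card_eq_fintype_card]
  have h3 : (Finset.univ.image f).card ≤ Nat.card X := by
    have hsub : ((Finset.univ.image f : Finset G) : Set G) ⊆ (X : Set G) := by
      intro y hy
      obtain ⟨x, -, rfl⟩ := Finset.mem_image.mp (Finset.mem_coe.mp hy)
      exact himg x
    have := Set.ncard_le_ncard hsub (Set.toFinite _)
    rw [Set.ncard_coe_finset] at this
    rw [← Nat.card_coe_set_eq] at this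
    exact this
  calc Nat.card A * Nat.card (cv V A) = (Finset.univ : Finset (A × cv V A)).card := h2.symm
    _ ≤ Nat.card Au * (Finset.univ.image f).card := h1
    _ ≤ Nat.card Au * Nat.card X := Nat.mul_le_mul_left _ h3

theorem wOf_le_commutator {U A : Subgroup G} {u : G} (hu : u ∈ U) : wOf u A ≤ ⁅U, A⁆ := by
  unfold wOf
  rw [Subgroup.closure_le]
  rintro g ⟨a, ha, rfl⟩
  exact Subgroup.commutator_mem_commutator hu ha

theorem wOf_sup_cv_le {V A : Subgroup G} (hAV : A ≤ Subgroup.normalizer (V : Set G)) {u : G}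
    (hu : u ∈ V) :
    wOf u A ⊔ cv V A ≤ cv V (A ⊓ Subgroup.centralizer (wOf u A : Set G)) := by
  apply sup_le
  · apply le_inf (wOf_le hAV hu)
    rw [Subgroup.le_centralizer_iff]
    exact inf_le_right
  · exact cv_antitone V inf_le_left

theorem offProd_cyclic [Finite G] {V A : Subgroup G} [hVc : IsMulCommutative V]
    (hAV : A ≤ Subgroup.normalizer (V : Set G))
    (hab : ⁅A, A⁆ ≤ Subgroup.centralizer (V : Set G)) {u : G} (hu : u ∈ V)
    (hmax : ∀ X : Subgroup G, X ≤ A → offProd V X ≤ offProd V A) :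
    offProd V (A ⊓ Subgroup.centralizer (wOf u A : Set G)) = offProd V A ∧
      cv V (A ⊓ Subgroup.centralizer (wOf u A : Set G)) = wOf u A ⊔ cv V A := by
  have h1 : Nat.card A * Nat.card (cv V A) ≤
      Nat.card (A ⊓ Subgroup.centralizer (wOf u A : Set G) : Subgroup G) *
        Nat.card (wOf u A ⊔ cv V A : Subgroup G) := offProd_le_cyclic hAV hab hu
  have h2 : Nat.card (wOf u A ⊔ cv V A : Subgroup G) ≤
      Nat.card (cv V (A ⊓ Subgroup.centralizer (wOf u A : Set G))) :=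
    Nat.card_mono (Set.toFinite _) (wOf_sup_cv_le hAV hu)
  have h3 : offProd V (A ⊓ Subgroup.centralizer (wOf u A : Set G)) ≤ offProd V A :=
    hmax _ inf_le_left
  have hpos : 0 < Nat.card (A ⊓ Subgroup.centralizer (wOf u A : Set G) : Subgroup G) := Nat.card_pos
  unfold offProd at h3 ⊢
  generalize Nat.card (A ⊓ Subgroup.centralizer (wOf u A : Set G) : Subgroup G) = au at *
  generalize hcau : Nat.card (cv V (A ⊓ Subgroup.centralizer (wOf u A : Set G))) = cau at *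
  generalize hx : Nat.card (wOf u A ⊔ cv V A : Subgroup G) = x at *
  generalize Nat.card A * Nat.card (cv V A) = M at *
  have h4 : au * x ≤ au * cau := Nat.mul_le_mul_left _ h2
  have h5 : au * cau = M := le_antisymm h3 (h1.trans h4)
  refine ⟨h5, ?_⟩
  have h6 : au * x = au * cau := le_antisymm h4 (h5 ▸ h1)
  have h7 : x = cau := Nat.eq_of_mul_eq_mul_left hpos h6
  symm
  exact Subgroup.eq_of_le_of_card_ge (wOf_sup_cv_le hAV hu) (by rw [hcau, hx, h7])

/-- `A ⊓ ⨅ u ∈ s, C(W_u)` -/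
def aOf (A : Subgroup G) (s : Finset G) : Subgroup G :=
  A ⊓ ⨅ u ∈ s, Subgroup.centralizer (wOf u A : Set G)

/-- `C_V(A) ⊔ ⨆ u ∈ s, W_u` -/
def xOf (V A : Subgroup G) (s : Finset G) : Subgroup G :=
  cv V A ⊔ ⨆ u ∈ s, wOf u A

theorem replacement_finset [Finite G] {V A : Subgroup G} [hVc : IsMulCommutative V]
    (hAV : A ≤ Subgroup.normalizer (V : Set G))
    (hab : ⁅A, A⁆ ≤ Subgroup.centralizer (V : Set G))
    (hmax : ∀ X : Subgroup G, X ≤ A → offProd V X ≤ offProd V A)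
    (s : Finset G) (hs : ∀ u ∈ s, u ∈ V) :
    offProd V (aOf A s) = offProd V A ∧ cv V (aOf A s) = xOf V A s := by
  classical
  induction s using Finset.induction_on with
  | empty =>
    simp [aOf, xOf]
  | insert u s hus ih =>
    have hu : u ∈ V := hs u (Finset.mem_insert_self u s)
    obtain ⟨ih1, ih2⟩ := ih (fun v hv => hs v (Finset.mem_insert_of_mem hv))
    obtain ⟨c1, c2⟩ := offProd_cyclic hAV hab hu hmax
    have hA1 : aOf A (insert u s) = aOf A s ⊓ (A ⊓ Subgroup.centralizer (wOf u A : Set G)) := by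
      unfold aOf
      rw [Finset.iInf_insert, inf_inf_distrib_left, inf_comm]
    have hX1 : xOf V A (insert u s) = xOf V A s ⊔ (wOf u A ⊔ cv V A) := by
      unfold xOf
      rw [Finset.iSup_insert, sup_sup_distrib_left, sup_comm, sup_comm (wOf u A) (cv V A)]
    have hB : aOf A s ≤ A := inf_le_left
    obtain ⟨r1, r2⟩ := offProd_inf_of_max (B := aOf A s)
      (D := A ⊓ Subgroup.centralizer (wOf u A : Set G)) hmax hB inf_le_left ih1 c1
    rw [hA1, hX1]
    exact ⟨r1, by rw [r2, ih2, c2]⟩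

theorem aOf_toFinset [Finite G] (A U : Subgroup G) :
    aOf A (Set.toFinite (U : Set G)).toFinset = A ⊓ Subgroup.centralizer ((⁅U, A⁆ : Subgroup G) : Set G) := by
  unfold aOf
  apply le_antisymm
  · intro x hx
    refine ⟨hx.1, ?_⟩
    have hle : ⁅U, A⁆ ≤ Subgroup.centralizer {x} := by
      rw [Subgroup.commutator_le]
      intro g₁ h₁ g₂ h₂
      have hx2 : x ∈ ⨅ u ∈ (Set.toFinite (U : Set G)).toFinset,
          Subgroup.centralizer (wOf u A : Set G) := hx.2
      simp only [Subgroup.mem_iInf] at hx2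
      have := hx2 g₁ (by simpa using h₁)
      rw [Subgroup.mem_centralizer_singleton_iff]
      exact (Subgroup.mem_centralizer_iff.mp this _ (commutatorElement_mem_wOf h₂))
    show x ∈ Subgroup.centralizer ((⁅U, A⁆ : Subgroup G) : Set G)
    rw [Subgroup.mem_centralizer_iff]
    intro y hy
    have := hle hy
    rw [Subgroup.mem_centralizer_singleton_iff] at this
    exact this
  · apply inf_le_inf_left
    refine le_iInf₂ fun u hu => ?_
    have hu' : u ∈ U := by simpa using hu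
    exact Subgroup.centralizer_le (wOf_le_commutator hu')

theorem xOf_toFinset [Finite G] (V A U : Subgroup G) :
    xOf V A (Set.toFinite (U : Set G)).toFinset = ⁅U, A⁆ ⊔ cv V A := by
  unfold xOf
  rw [sup_comm]
  congr 1
  apply le_antisymm
  · refine iSup₂_le fun u hu => ?_
    have hu' : u ∈ U := by simpa using hu
    exact wOf_le_commutator hu'
  · rw [Subgroup.commutator_le]
    intro g₁ h₁ g₂ h₂
    have hmem : g₁ ∈ (Set.toFinite (U : Set G)).toFinset := by simpa using h₁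
    exact (le_iSup₂ (f := fun u (_ : u ∈ (Set.toFinite (U : Set G)).toFinset) => wOf u A) g₁ hmem)
      (commutatorElement_mem_wOf h₂)

/-- **Timmesfeld replacement**, numerical core. -/
theorem replacement [Finite G] {V A U : Subgroup G} [hVc : IsMulCommutative V]
    (hAV : A ≤ Subgroup.normalizer (V : Set G))
    (hab : ⁅A, A⁆ ≤ Subgroup.centralizer (V : Set G)) (hU : U ≤ V)
    (hmax : ∀ X : Subgroup G, X ≤ A → offProd V X ≤ offProd V A) :
    offProd V (A ⊓ Subgroup.centralizer ((⁅U, A⁆ : Subgroup G) : Set G)) = offProd V A ∧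
      cv V (A ⊓ Subgroup.centralizer ((⁅U, A⁆ : Subgroup G) : Set G)) = ⁅U, A⁆ ⊔ cv V A := by
  have h := replacement_finset hAV hab hmax (Set.toFinite (U : Set G)).toFinset
    (fun u hu => hU (by simpa using hu))
  rw [aOf_toFinset, xOf_toFinset] at h
  exact h

end Cfsg.Agent.Lib.Helper97
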