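import Mathlib
import Cfsg.Prelude.Def_Transfer
import Cfsg.Prelude.Def_PLocal
import Cfsg.Agent.Lib.Helper97.Replacement2
import Cfsg.Agent.Lib.Helper97.NilpotentAction

/-!
# Timmesfeld replacement theorem (helper97)
-/

set_option autoImplicit false

namespace Cfsg.Agent.Lib.Helper97

open Cfsg
open scoped commutatorElement

universe u

variable {G : Type u} [Group G]

/-- Elements of `H ⊔ K` are products when `H` and `K` commute elementwise. -/
theorem exists_mul_of_mem_sup_of_commute' {H K : Subgroup G}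
    (hHK : ∀ h ∈ H, ∀ k ∈ K, h * k = k * h) {x : G} (hx : x ∈ H ⊔ K) :
    ∃ h ∈ H, ∃ k ∈ K, x = h * k := by
  let S : Subgroup G :=
    { carrier := {x | ∃ h ∈ H, ∃ k ∈ K, x = h * k}
      one_mem' := ⟨1, H.one_mem, 1, K.one_mem, by simp⟩
      mul_mem' := by
        rintro _ _ ⟨h, hh, k, hk, rfl⟩ ⟨h', hh', k', hk', rfl⟩
        refine ⟨h * h', H.mul_mem hh hh', k * k', K.mul_mem hk hk', ?_⟩
        have := hHK h' hh' k hk
        calc h * k * (h' * k') = h * (k * h') * k' := by group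
          _ = h * (h' * k) * k' := by rw [this]
          _ = h * h' * (k * k') := by group
      inv_mem' := by
        rintro _ ⟨h, hh, k, hk, rfl⟩
        refine ⟨h⁻¹, H.inv_mem hh, k⁻¹, K.inv_mem hk, ?_⟩
        have := hHK h⁻¹ (H.inv_mem hh) k⁻¹ (K.inv_mem hk)
        rw [mul_inv_rev, this] }
  have hle : H ⊔ K ≤ S := by
    apply sup_le
    · intro h hh
      exact ⟨h, hh, 1, K.one_mem, by simp⟩
    · intro k hk
      exact ⟨1, H.one_mem, k, hk, by simp⟩
  exact hle hx

theorem commutator_le_of_le_normalizer {V A : Subgroup G}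
    (hAV : A ≤ Subgroup.normalizer (V : Set G)) : ⁅V, A⁆ ≤ V := by
  rw [Subgroup.commutator_le]
  intro v hv a ha
  exact commutatorElement_mem_of_le_normalizer hAV hv ha

/-- If `V = ⁅U, A⁆ ⊔ C_V(A)` with `U ≤ V` abelian, then `⁅V, A⁆ ≤ ⁅⁅V, A⁆, A⁆`. -/
theorem commutator_le_commutator_commutator {V A U : Subgroup G} [hVc : IsMulCommutative V]
    (hAV : A ≤ Subgroup.normalizer (V : Set G)) (hU : U ≤ V)
    (hVeq : V ≤ ⁅U, A⁆ ⊔ cv V A) : ⁅V, A⁆ ≤ ⁅⁅V, A⁆, A⁆ := by
  rw [Subgroup.commutator_le]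
  intro v hv a ha
  have hcomm : ∀ h ∈ ⁅U, A⁆, ∀ k ∈ cv V A, h * k = k * h := by
    intro h hh k hk
    have hhV : h ∈ V := commutator_le_of_le_normalizer hAV (Subgroup.commutator_mono hU le_rfl hh)
    have := hVc.is_comm.comm ⟨h, hhV⟩ ⟨k, hk.1⟩
    exact congrArg Subtype.val this
  obtain ⟨h, hh, k, hk, rfl⟩ := exists_mul_of_mem_sup_of_commute' hcomm (hVeq hv)
  have hka : a * k = k * a := Subgroup.mem_centralizer_iff.mp hk.2 a ha
  have : ⁅h * k, a⁆ = ⁅h, a⁆ := by
    rw [commutatorElement_def, commutatorElement_def]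
    calc h * k * a * (h * k)⁻¹ * a⁻¹ = h * (k * a) * k⁻¹ * h⁻¹ * a⁻¹ := by group
      _ = h * (a * k) * k⁻¹ * h⁻¹ * a⁻¹ := by rw [hka]
      _ = h * a * h⁻¹ * a⁻¹ := by group
  rw [this]
  exact Subgroup.commutator_mem_commutator (Subgroup.commutator_mono hU le_rfl hh) ha

/-- **Timmesfeld replacement theorem** (Prelude vocabulary; = S0599). -/
theorem timmesfeld_replacement [Finite G] {p : ℕ} [Fact p.Prime] (V A : Subgroup G)
    (hV : IsElementaryAbelian p V) (hAV : A ≤ Subgroup.normalizer (V : Set G))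
    (hA : IsBestOffenderOn p V A) (U : Subgroup G) (hU : U ≤ V) :
    IsBestOffenderOn p V (A ⊓ Subgroup.centralizer ((⁅U, A⁆ : Subgroup G) : Set G)) ∧
    V ⊓ Subgroup.centralizer ((A ⊓ Subgroup.centralizer ((⁅U, A⁆ : Subgroup G) : Set G) : Subgroup G) : Set G) =
      ⁅U, A⁆ ⊔ (V ⊓ Subgroup.centralizer (A : Set G)) ∧
    (⁅V, A⁆ ≠ ⊥ → ⁅V, A ⊓ Subgroup.centralizer ((⁅U, A⁆ : Subgroup G) : Set G)⁆ ≠ ⊥) := by
  have hVc : IsMulCommutative V := hV.1
  obtain ⟨hmax, hab, hpow⟩ := hA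
  have hmax' : ∀ X : Subgroup G, X ≤ A → offProd V X ≤ offProd V A := hmax
  obtain ⟨h1, h2⟩ := replacement hAV hab hU hmax'
  set As : Subgroup G := A ⊓ Subgroup.centralizer ((⁅U, A⁆ : Subgroup G) : Set G) with hAs
  refine ⟨⟨?_, ?_, ?_⟩, h2, ?_⟩
  · intro B hB
    have := hmax' B (hB.trans inf_le_left)
    unfold offProd at this h1
    rw [h1]
    exact this
  · exact (Subgroup.commutator_mono inf_le_left inf_le_left).trans hab
  · intro a ha
    exact hpow a ha.1
  · intro hne hbot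
    apply hne
    -- A* centralizes V
    have hcent : V ≤ Subgroup.centralizer (As : Set G) :=
      Subgroup.commutator_eq_bot_iff_le_centralizer.mp hbot
    have hVeq : V ≤ ⁅U, A⁆ ⊔ cv V A := by
      have : cv V As = V := inf_of_le_left hcent
      rw [← h2, this]
    have hle := commutator_le_commutator_commutator hAV hU hVeq
    exact eq_bot_of_le_commutator_of_pGroup_action (isPGroup_of_isElementaryAbelian hV) hAV
      (fun a ha => ⟨1, by simpa using hpow a ha⟩) (commutator_le_of_le_normalizer hAV) hle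

end Cfsg.Agent.Lib.Helper97
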