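import Mathlib
import Cfsg.Prelude.Def_Transfer
import Cfsg.Prelude.Def_PLocal
import Cfsg.Agent.Lib.Helper97.Replacement3

/-!
# Thompson replacement for elementary abelian subgroups of largest order (helper97; = S0607)
-/

set_option autoImplicit false

namespace Cfsg.Agent.Lib.Helper97

open Cfsg
open scoped commutatorElement

universe u

variable {G : Type u} [Group G]

theorem thompson_replacement_max [Finite G] {p : ℕ} [Fact p.Prime] (V : Subgroup G) [V.Normal]
    (hV : IsElementaryAbelian p V) (A : Subgroup G) (hA : A ∈ maxElementaryAbelianSubgroups p G) :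
    (⁅V, A⁆ ⊔ (A ⊓ Subgroup.centralizer ((⁅V, A⁆ : Subgroup G) : Set G))) ∈
        maxElementaryAbelianSubgroups p G ∧
      ⁅⁅V, ⁅V, A⁆ ⊔ (A ⊓ Subgroup.centralizer ((⁅V, A⁆ : Subgroup G) : Set G))⁆,
        ⁅V, A⁆ ⊔ (A ⊓ Subgroup.centralizer ((⁅V, A⁆ : Subgroup G) : Set G))⁆ = ⊥ ∧
      (⁅V, A⁆ ≠ ⊥ →
        ⁅V, ⁅V, A⁆ ⊔ (A ⊓ Subgroup.centralizer ((⁅V, A⁆ : Subgroup G) : Set G))⁆ ≠ ⊥) := by
  have hVc : IsMulCommutative V := hV.1
  have hAV : A ≤ Subgroup.normalizer (V : Set G) := by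
    rw [Subgroup.normalizer_eq_top]; exact le_top
  have hbest := max_isBestOffenderOn V hV A hA
  obtain ⟨T1, T2, T3⟩ := timmesfeld_replacement V A hV hAV hbest V le_rfl
  obtain ⟨h1, -⟩ := replacement hAV hbest.2.1 (le_refl V) hbest.1
  set W : Subgroup G := ⁅V, A⁆ with hW
  set As : Subgroup G := A ⊓ Subgroup.centralizer (W : Set G) with hAs
  have hWV : W ≤ V := commutator_le_of_le_normalizer hAV
  have hVcomm : ∀ x ∈ V, ∀ y ∈ V, x * y = y * x := fun x hx y hy =>
    congrArg Subtype.val (hVc.is_comm.comm ⟨x, hx⟩ ⟨y, hy⟩)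
  -- (a)
  have ha : cv V A ≤ A := by
    apply le_of_max_of_commute hA (isElementaryAbelian_mono inf_le_left hV)
    intro a haA b hb
    exact (Subgroup.mem_centralizer_iff.mp hb.2 a haA)
  -- (b)
  have hb : cv V A ≤ As := by
    refine le_inf ha ?_
    intro x hx
    rw [Subgroup.mem_centralizer_iff]
    intro w hw
    exact hVcomm w (hWV hw) x hx.1
  -- (c)
  have hc : W ⊔ As = cv V As ⊔ As := by
    have T2' : cv V As = W ⊔ cv V A := T2
    rw [T2', sup_assoc, sup_eq_right.mpr hb]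
  -- (d)
  have hAsel : IsElementaryAbelian p As := isElementaryAbelian_mono inf_le_left hA.1
  have hd : IsElementaryAbelian p (W ⊔ As) := by
    rw [hc]
    apply isElementaryAbelian_sup (isElementaryAbelian_mono inf_le_left hV) hAsel
    intro a haa b hbb
    exact (Subgroup.mem_centralizer_iff.mp haa.2 b hbb).symm
  -- (e)
  have he : Nat.card A ≤ Nat.card (W ⊔ As : Subgroup G) := by
    have e1 := card_mul_card_le_sup_mul_inf (cv V As) As
    have e2 : cv V As ⊓ As ≤ cv V A := by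
      intro x hx
      refine ⟨hx.1.1, ?_⟩
      show x ∈ Subgroup.centralizer (A : Set G)
      rw [Subgroup.mem_centralizer_iff]
      intro a haA
      exact IsElementaryAbelian_comm hA.1 haA hx.2.1
    have e3 : Nat.card (cv V As ⊓ As : Subgroup G) ≤ Nat.card (cv V A) :=
      Nat.card_mono (Set.toFinite _) e2
    have e4 : Nat.card As * Nat.card (cv V As) = Nat.card A * Nat.card (cv V A) := h1
    have hpos : 0 < Nat.card (cv V A) := Nat.card_pos
    rw [hc]
    have e5 : Nat.card A * Nat.card (cv V A) ≤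
        Nat.card (cv V As ⊔ As : Subgroup G) * Nat.card (cv V A) := by
      calc Nat.card A * Nat.card (cv V A) = Nat.card (cv V As) * Nat.card As := by
            rw [← e4, mul_comm]
        _ ≤ Nat.card (cv V As ⊔ As : Subgroup G) * Nat.card (cv V As ⊓ As : Subgroup G) := e1
        _ ≤ Nat.card (cv V As ⊔ As : Subgroup G) * Nat.card (cv V A) := Nat.mul_le_mul_left _ e3
    exact Nat.le_of_mul_le_mul_right e5 hpos
  -- centralizing facts
  have hcentW : W ⊔ As ≤ Subgroup.centralizer (W : Set G) := by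
    apply sup_le
    · intro x hx
      rw [Subgroup.mem_centralizer_iff]
      intro w hw
      exact hVcomm w (hWV hw) x (hWV hx)
    · exact inf_le_right
  have hcommle : ⁅V, W ⊔ As⁆ ≤ W := by
    rw [Subgroup.commutator_le]
    intro v hv x hx
    have hcomm : ∀ w ∈ W, ∀ a ∈ As, w * a = a * w := by
      intro w hw a haa
      exact (Subgroup.mem_centralizer_iff.mp haa.2 w hw)
    obtain ⟨w, hw, a, haa, rfl⟩ := exists_mul_of_mem_sup_of_commute' hcomm hx
    have haV : a * v⁻¹ * a⁻¹ ∈ V := conj_mem_of_le_normalizer hAV haa.1 (V.inv_mem hv)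
    have hcm : w * (a * v⁻¹ * a⁻¹) = (a * v⁻¹ * a⁻¹) * w := hVcomm _ (hWV hw) _ haV
    have : ⁅v, w * a⁆ = ⁅v, a⁆ := by
      rw [commutatorElement_def, commutatorElement_def]
      calc v * (w * a) * v⁻¹ * (w * a)⁻¹ = v * (w * (a * v⁻¹ * a⁻¹)) * w⁻¹ := by group
        _ = v * ((a * v⁻¹ * a⁻¹) * w) * w⁻¹ := by rw [hcm]
        _ = v * a * v⁻¹ * a⁻¹ := by group
    rw [this]
    exact Subgroup.commutator_mem_commutator hv haa.1
  refine ⟨⟨hd, fun B hB => (hA.2 B hB).trans he⟩, ?_, ?_⟩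
  · rw [eq_bot_iff]
    calc ⁅⁅V, W ⊔ As⁆, W ⊔ As⁆ ≤ ⁅W, W ⊔ As⁆ := Subgroup.commutator_mono hcommle le_rfl
      _ = ⊥ := by
        rw [Subgroup.commutator_eq_bot_iff_le_centralizer, Subgroup.le_centralizer_iff]
        exact hcentW
  · intro hne hbot
    apply T3 hne
    rw [eq_bot_iff, ← hbot]
    exact Subgroup.commutator_mono le_rfl le_sup_right

end Cfsg.Agent.Lib.Helper97
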