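import Mathlib
import Cfsg.Agent.Lib.Helper64.PFElevenCoh
import Cfsg.Agent.Lib.Helper4.PFNineA
import Cfsg.Agent.Lib.Helper22.Solvable
import Cfsg.Agent.Lib.Helper54.Coprime

/-!
# PF section 11, module (E2) = Peterfalvi (11.4): `bounded_proper_coherent` (helper97)

Bookkeeping around `Cfsg.Agent.Lib.Helper64.PF11.index_le_of_coherent` with `L := ↥M`,
`K := derM M`, `F := (H ⊔ C).subgroupOf M`, `B := (⁅H,H⁆ ⊔ C).subgroupOf M`, where `H = M_F` and
`C = C_U(H)`.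
-/

set_option autoImplicit false

namespace Cfsg.Agent.Lib.Helper97.PF11

open Cfsg Cfsg.Agent.Lib.Helper4.PF9
open scoped commutatorElement

/-- `C = C_U(H)`. -/
abbrev CU {G : Type*} [Group G] (M U : Subgroup G) : Subgroup G :=
  U ⊓ Subgroup.centralizer (fittingHallOf M : Set G)

/-- `M'` as a subgroup of `↥M`. -/
abbrev derM {G : Type*} [Group G] (M : Subgroup G) : Subgroup ↥M := (⁅M, M⁆).subgroupOf M

section general

variable {G : Type*} [Group G]

theorem le_normalizer_of_conj_mem {M N : Subgroup G}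
    (h : ∀ m ∈ M, ∀ x ∈ N, m * x * m⁻¹ ∈ N) : M ≤ Subgroup.normalizer (N : Set G) := by
  intro m hm
  rw [Subgroup.mem_normalizer_iff]
  intro x
  constructor
  · exact h m hm x
  · intro hx
    have := h m⁻¹ (M.inv_mem hm) _ hx
    simpa [mul_assoc] using this

theorem conj_mem_of_le_normalizer {M N : Subgroup G} (h : M ≤ Subgroup.normalizer (N : Set G))
    {m x : G} (hm : m ∈ M) (hx : x ∈ N) : m * x * m⁻¹ ∈ N :=
  (Subgroup.mem_normalizer_iff.1 (h hm) x).1 hx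

theorem conj_mem_commutator_of {N : Subgroup G} {m : G} (hm : ∀ x ∈ N, m * x * m⁻¹ ∈ N) :
    ∀ x ∈ ⁅N, N⁆, m * x * m⁻¹ ∈ ⁅N, N⁆ := by
  intro x hx
  have : ⁅N, N⁆ ≤ (⁅N, N⁆).comap (MulAut.conj m).toMonoidHom := by
    rw [Subgroup.commutator_le]
    intro a ha b hb
    rw [Subgroup.mem_comap]
    have h1 : (MulAut.conj m).toMonoidHom ⁅a, b⁆ = ⁅m * a * m⁻¹, m * b * m⁻¹⁆ := by
      simp only [MulEquiv.coe_toMonoidHom, MulAut.conj_apply, commutatorElement_def]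
      group
    rw [h1]
    exact Subgroup.commutator_mem_commutator (hm a ha) (hm b hb)
  exact this hx

theorem conj_mem_sup_of {A B : Subgroup G} {m : G} (hA : ∀ x ∈ A, m * x * m⁻¹ ∈ A)
    (hB : ∀ x ∈ B, m * x * m⁻¹ ∈ B) : ∀ x ∈ A ⊔ B, m * x * m⁻¹ ∈ A ⊔ B := by
  intro x hx
  have : A ⊔ B ≤ (A ⊔ B).comap (MulAut.conj m).toMonoidHom := by
    apply sup_le
    · intro a ha
      exact Subgroup.mem_sup_left (hA a ha)
    · intro b hb
      exact Subgroup.mem_sup_right (hB b hb)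
  exact this hx

/-- The commuting product of two nilpotent subgroups is nilpotent. -/
theorem isNilpotent_sup_of_commute {A B : Subgroup G} (hA : Group.IsNilpotent A)
    (hB : Group.IsNilpotent B) (hcomm : ∀ a ∈ A, ∀ b ∈ B, a * b = b * a) :
    Group.IsNilpotent (A ⊔ B : Subgroup G) := by
  have hc : ∀ (a : A) (b : B), Commute (A.subtype a) (B.subtype b) :=
    fun a b => hcomm a a.2 b b.2
  obtain ⟨f, hf⟩ : ∃ f : A × B →* G, f = MonoidHom.noncommCoprod A.subtype B.subtype hc :=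
    ⟨_, rfl⟩
  have hrange : f.range = A ⊔ B := by
    rw [hf, MonoidHom.noncommCoprod_range, Subgroup.range_subtype, Subgroup.range_subtype]
  have h1 : Group.IsNilpotent f.range :=
    Group.nilpotent_of_surjective f.rangeRestrict f.rangeRestrict_surjective
  exact hrange ▸ h1

/-- Commutators in a commuting product. -/
theorem commutator_sup_le_of_commute {A B : Subgroup G}
    (hcomm : ∀ a ∈ A, ∀ b ∈ B, a * b = b * a) :
    ⁅A ⊔ B, A ⊔ B⁆ ≤ ⁅A, A⁆ ⊔ B := by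
  have hc : ∀ (a : A) (b : B), Commute (A.subtype a) (B.subtype b) :=
    fun a b => hcomm a a.2 b b.2
  obtain ⟨f, hf⟩ : ∃ f : A × B →* G, f = MonoidHom.noncommCoprod A.subtype B.subtype hc :=
    ⟨_, rfl⟩
  have hrange : f.range = A ⊔ B := by
    rw [hf, MonoidHom.noncommCoprod_range, Subgroup.range_subtype, Subgroup.range_subtype]
  rw [Subgroup.commutator_le]
  intro x hx y hy
  rw [← hrange] at hx hy
  obtain ⟨⟨a₁, b₁⟩, rfl⟩ := hx
  obtain ⟨⟨a₂, b₂⟩, rfl⟩ := hy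
  rw [← map_commutatorElement]
  have h1 : ⁅((a₁, b₁) : A × B), (a₂, b₂)⁆ = (⁅a₁, a₂⁆, ⁅b₁, b₂⁆) := rfl
  rw [h1]
  have h2 : f (⁅a₁, a₂⁆, ⁅b₁, b₂⁆) = (⁅a₁, a₂⁆ : A) * (⁅b₁, b₂⁆ : B) := by
    rw [hf, MonoidHom.noncommCoprod_apply]
    rfl
  rw [h2]
  refine Subgroup.mul_mem _ (Subgroup.mem_sup_left ?_) (Subgroup.mem_sup_right (⁅b₁, b₂⁆ : B).2)
  have : ((⁅a₁, a₂⁆ : A) : G) = ⁅(a₁ : G), (a₂ : G)⁆ := by
    simp [commutatorElement_def]
  rw [this]
  exact Subgroup.commutator_mem_commutator a₁.2 a₂.2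

end general

section typeP

variable {G : Type*} [Group G] {M W₁ U W₂ : Subgroup G}

/-- `C = C_U(H)` is normalized by `M`. -/
theorem conj_mem_CU (hP : IsTypePWith M W₁ U W₂) {m c : G} (hm : m ∈ M) (hc : c ∈ CU M U) :
    m * c * m⁻¹ ∈ CU M U := by
  have key : ∀ g ∈ M, g ∈ Subgroup.normalizer (U : Set G) → ∀ c ∈ CU M U,
      g * c * g⁻¹ ∈ CU M U := by
    intro g hg hgU c hc
    refine ⟨(Subgroup.mem_normalizer_iff.1 hgU c).1 hc.1, Subgroup.mem_centralizer_iff.2 ?_⟩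
    intro h hh
    have h1 : g⁻¹ * h * g ∈ fittingHallOf M := by
      have := conj_mem_fittingHallOf M (M.inv_mem hg) hh
      simpa using this
    have h2 := Subgroup.mem_centralizer_iff.1 hc.2 _ h1
    calc h * (g * c * g⁻¹) = g * ((g⁻¹ * h * g) * c) * g⁻¹ := by group
      _ = g * (c * (g⁻¹ * h * g)) * g⁻¹ := by rw [h2]
      _ = g * c * g⁻¹ * h := by group
  obtain ⟨k, hk, w, hw, rfl⟩ := hP.W₁_compl.2.2.2 m hm
  obtain ⟨h, hh, u, hu, rfl⟩ := hP.U_compl.2.2.2 k hk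
  have h1 := key w (W₁_le hP hw) (hP.U_normal hw) c hc
  have h2 := key u (U_le hP hu) (Subgroup.le_normalizer hu) _ h1
  have h3 : h * (u * (w * c * w⁻¹) * u⁻¹) * h⁻¹ = u * (w * c * w⁻¹) * u⁻¹ := by
    have := Subgroup.mem_centralizer_iff.1 h2.2 h hh
    rw [this]; group
  have h4 : h * u * w * c * (h * u * w)⁻¹ = h * (u * (w * c * w⁻¹) * u⁻¹) * h⁻¹ := by group
  rw [h4, h3]; exact h2

theorem der_eq_sup (hP : IsTypePWith M W₁ U W₂) : ⁅M, M⁆ = fittingHallOf M ⊔ U := by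
  apply le_antisymm
  · intro k hk
    obtain ⟨h, hh, u, hu, rfl⟩ := hP.U_compl.2.2.2 k hk
    exact Subgroup.mul_mem _ (Subgroup.mem_sup_left hh) (Subgroup.mem_sup_right hu)
  · exact sup_le (H_le_der hP) (U_le_der hP)

theorem isSolvable_der (hP : IsTypePWith M W₁ U W₂) [Finite G] :
    Group.IsSolvable ↥(⁅M, M⁆ : Subgroup G) := by
  rw [der_eq_sup hP]
  have hUn : U ≤ Subgroup.normalizer (fittingHallOf M : Set G) :=
    le_normalizer_of_conj_mem (fun u hu x hx => conj_mem_fittingHallOf M (U_le hP hu) hx)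
  have hUnil := hP.U_nilpotent
  exact Cfsg.Agent.Lib.Helper22.isSolvable_sup_of_le_normalizer hUn (H_isSolvable M)
    IsNilpotent.to_isSolvable

end typeP

section main

open Cfsg.Agent.Lib.Helper23 Cfsg.Agent.Lib.Helper54

variable {G : Type*} [Group G] [Fintype G] {M W₁ U W₂ : Subgroup G} [Fintype M]

theorem bounded_proper_coherent (hP : IsTypePWith M W₁ U W₂) (hU : U ≠ ⊥)
    (hq : (Nat.card W₁).Prime) (hodd : Odd (Nat.card M))
    (hbig : 4 * Nat.card W₁ ^ 2 + 1 <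
      (⁅fittingHallOf M, fittingHallOf M⁆).relIndex (fittingHallOf M))
    (τ : (↥M → ℂ) → (G → ℂ)) (R : (↥M → ℂ) → Finset (G → ℂ))
    (hS : IsCoherenceSystem (inducedIrrAbove (derM M) ⊥) τ R)
    (hnc : ¬ IsCoherent (inducedIrrAbove (derM M) ⊥) {1}ᶜ τ)
    (H₁ : Subgroup ↥M) [H₁.Normal] (hH₁ : H₁ < derM M)
    (hcoh : IsCoherent (inducedIrrAbove (derM M) H₁) {1}ᶜ τ) :
    H₁.relIndex (derM M) ≤ 2 * Nat.card W₁ * (CU M U).relIndex U + 1 := by
  classical
  set H := fittingHallOf M with hHdef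
  set C := CU M U with hCdef
  have hHM : H ≤ M := fittingHallOf_le M
  have hCU : C ≤ U := inf_le_left
  have hCM : C ≤ M := hCU.trans (U_le hP)
  have hH'H : ⁅H, H⁆ ≤ H := Subgroup.commutator_le_self H
  have hcommHC : ∀ a ∈ H, ∀ b ∈ C, a * b = b * a := fun a ha b hb =>
    Subgroup.mem_centralizer_iff.1 hb.2 a ha
  have hcommH'C : ∀ a ∈ ⁅H, H⁆, ∀ b ∈ C, a * b = b * a := fun a ha b hb =>
    hcommHC a (hH'H ha) b hb
  -- conjugation
  have hcH : ∀ m ∈ M, ∀ x ∈ H, m * x * m⁻¹ ∈ H := fun m hm x hx =>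
    conj_mem_fittingHallOf M hm hx
  have hcC : ∀ m ∈ M, ∀ x ∈ C, m * x * m⁻¹ ∈ C := fun m hm x hx => conj_mem_CU hP hm hx
  have hcH' : ∀ m ∈ M, ∀ x ∈ ⁅H, H⁆, m * x * m⁻¹ ∈ ⁅H, H⁆ := fun m hm =>
    conj_mem_commutator_of (hcH m hm)
  have hcK : ∀ m ∈ M, ∀ x ∈ ⁅M, M⁆, m * x * m⁻¹ ∈ ⁅M, M⁆ := fun m hm =>
    conj_mem_commutator_of (fun x hx => M.mul_mem (M.mul_mem hm hx) (M.inv_mem hm))
  have hnF : M ≤ Subgroup.normalizer ((H ⊔ C : Subgroup G) : Set G) :=
    le_normalizer_of_conj_mem (fun m hm => conj_mem_sup_of (hcH m hm) (hcC m hm))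
  have hnB : M ≤ Subgroup.normalizer ((⁅H, H⁆ ⊔ C : Subgroup G) : Set G) :=
    le_normalizer_of_conj_mem (fun m hm => conj_mem_sup_of (hcH' m hm) (hcC m hm))
  have hnK : M ≤ Subgroup.normalizer ((⁅M, M⁆ : Subgroup G) : Set G) :=
    le_normalizer_of_conj_mem hcK
  have hFM : H ⊔ C ≤ M := sup_le hHM hCM
  have hBM : ⁅H, H⁆ ⊔ C ≤ M := sup_le (hH'H.trans hHM) hCM
  have hFK : H ⊔ C ≤ ⁅M, M⁆ := sup_le (H_le_der hP) (hCU.trans (U_le_der hP))
  have hBF : ⁅H, H⁆ ⊔ C ≤ H ⊔ C := sup_le_sup_right hH'H C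
  have hKM : ⁅M, M⁆ ≤ M := der_le hP
  -- the subgroups of ↥M
  have hKn : (derM M).Normal := Subgroup.normal_subgroupOf_of_le_normalizer hnK
  have hFn : ((H ⊔ C).subgroupOf M).Normal := Subgroup.normal_subgroupOf_of_le_normalizer hnF
  have hBn : ((⁅H, H⁆ ⊔ C).subgroupOf M).Normal :=
    Subgroup.normal_subgroupOf_of_le_normalizer hnB
  have hsolv : Group.IsSolvable ↥(derM M) := by
    have := isSolvable_der hP
    exact Group.isSolvable_of_isSolvable_injective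
      (f := (Subgroup.subgroupOfEquivOfLe hKM).toMonoidHom)
      (Subgroup.subgroupOfEquivOfLe hKM).injective
  have hnil : Group.IsNilpotent ↥((H ⊔ C).subgroupOf M) := by
    have h1 : Group.IsNilpotent ↥(H ⊔ C : Subgroup G) :=
      isNilpotent_sup_of_commute (H_isNilpotent M)
        (Cfsg.Agent.Lib.Helper65.isNilpotent_of_le hCU hP.U_nilpotent) hcommHC
    exact (Group.isNilpotent_congr (Subgroup.subgroupOfEquivOfLe hFM)).2 h1
  have hcomm : ⁅(H ⊔ C).subgroupOf M, (H ⊔ C).subgroupOf M⁆ ≤ (⁅H, H⁆ ⊔ C).subgroupOf M := by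
    rw [Subgroup.commutator_le]
    intro x hx y hy
    rw [Subgroup.mem_subgroupOf] at hx hy ⊢
    have h1 : ((⁅x, y⁆ : ↥M) : G) = ⁅(x : G), (y : G)⁆ := by
      simp [commutatorElement_def]
    rw [h1]
    exact commutator_sup_le_of_commute hcommHC (Subgroup.commutator_mem_commutator hx hy)
  -- cardinalities
  have hHC : H ⊓ C = ⊥ := by
    rw [eq_bot_iff, ← H_inf_U hP]
    exact inf_le_inf_left _ hCU
  have hH'C : ⁅H, H⁆ ⊓ C = ⊥ := by
    rw [eq_bot_iff, ← hHC]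
    exact inf_le_inf_right _ hH'H
  have hCnH : C ≤ Subgroup.normalizer (H : Set G) := hCM.trans (le_normalizer_of_conj_mem hcH)
  have hCnH' : C ≤ Subgroup.normalizer ((⁅H, H⁆ : Subgroup G) : Set G) :=
    hCM.trans (le_normalizer_of_conj_mem hcH')
  have hcardF : Nat.card ↥(H ⊔ C : Subgroup G) = Nat.card H * Nat.card C :=
    card_sup_of_le_normalizer hCnH hHC
  have hcardB : Nat.card ↥(⁅H, H⁆ ⊔ C : Subgroup G) = Nat.card ↥(⁅H, H⁆ : Subgroup G) * Nat.card C :=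
    card_sup_of_le_normalizer hCnH' hH'C
  have hcardM : Nat.card M = Nat.card H * Nat.card U * Nat.card W₁ := by
    rw [card_of_isComplIn hP.W₁_compl, card_of_isComplIn hP.U_compl]
  have hcardK : Nat.card ↥(⁅M, M⁆ : Subgroup G) = Nat.card H * Nat.card U :=
    card_of_isComplIn hP.U_compl
  have hposH : 0 < Nat.card H := Nat.card_pos
  have hposC : 0 < Nat.card C := Nat.card_pos
  have hposH' : 0 < Nat.card ↥(⁅H, H⁆ : Subgroup G) := Nat.card_pos
  -- the three indices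
  have hidxK : (derM M).index = Nat.card W₁ := by
    show (⁅M, M⁆).relIndex M = _
    have h1 := card_mul_relIndex hKM
    rw [hcardK, hcardM] at h1
    exact Nat.eq_of_mul_eq_mul_left (Nat.mul_pos hposH Nat.card_pos) h1
  have hidxF : ((H ⊔ C).subgroupOf M).index = Nat.card W₁ * C.relIndex U := by
    show (H ⊔ C).relIndex M = _
    have h1 := card_mul_relIndex hFM
    have h2 := card_mul_relIndex hCU
    rw [hcardF, hcardM, ← h2] at h1
    have h3 : Nat.card H * Nat.card C * (H ⊔ C).relIndex M =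
        Nat.card H * Nat.card C * (Nat.card W₁ * C.relIndex U) := by
      rw [h1]; ring
    exact Nat.eq_of_mul_eq_mul_left (Nat.mul_pos hposH hposC) h3
  have hidxB : ((⁅H, H⁆ ⊔ C).subgroupOf M).relIndex ((H ⊔ C).subgroupOf M) =
      (⁅H, H⁆).relIndex H := by
    rw [Subgroup.relIndex_subgroupOf hFM]
    have h1 := card_mul_relIndex hBF
    have h2 := card_mul_relIndex hH'H
    rw [hcardF, hcardB, ← h2] at h1
    have h3 : Nat.card ↥(⁅H, H⁆ : Subgroup G) * Nat.card C * (⁅H, H⁆ ⊔ C).relIndex (H ⊔ C) =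
        Nat.card ↥(⁅H, H⁆ : Subgroup G) * Nat.card C * (⁅H, H⁆).relIndex H := by
      rw [h1]; ring
    exact Nat.eq_of_mul_eq_mul_left (Nat.mul_pos hposH' hposC) h3
  have hmain := Cfsg.Agent.Lib.Helper64.PF11.index_le_of_coherent (derM M) hsolv τ R hS hnc
    ((H ⊔ C).subgroupOf M) ((⁅H, H⁆ ⊔ C).subgroupOf M)
    (by
      intro x hx
      rw [Subgroup.mem_subgroupOf] at hx ⊢
      exact hBF hx)
    (by
      intro x hx
      rw [Subgroup.mem_subgroupOf] at hx ⊢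
      exact hFK hx)
    hnil hcomm (by rw [hidxK, hidxB]; exact hbig) H₁ hH₁ hcoh
  rw [hidxF] at hmain
  calc H₁.relIndex (derM M) ≤ 2 * (Nat.card W₁ * C.relIndex U) + 1 := hmain
    _ = 2 * Nat.card W₁ * C.relIndex U + 1 := by ring

end main

end Cfsg.Agent.Lib.Helper97.PF11
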