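import Mathlib
import Cfsg.Prelude.Def_PLocal
import Cfsg.Prelude.Def_LocalEven
import Cfsg.Agent.Lib.Helper97.PStable
import Cfsg.Agent.Lib.Helper97.PStable2
import Cfsg.Agent.Lib.Helper97.Cores
import Cfsg.Agent.Lib.Helper70.FrattiniFaithful

/-!
# `p`-stability in the normalizer form for `p`-by-(abelian `p'`)-by-`p` groups (helper97)

* `exists_normal_of_quadratic_mod`: section version of `exists_normal_of_quadratic`;
* `exists_normal_of_quadratic_pgroup`: version for an arbitrary normal `p`-subgroup `R`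
  (via `R / Φ(R)` and Burnside's theorem on `p'`-automorphisms, `Helper70.mem_centralizer_of_coprime`);
* `isNormalizerPStable_of_isPAbelianP`: the frozen predicate `Cfsg.IsNormalizerPStable`;
* `normal_of_controlsStrongFusion`: if `C_G(O_p(G)) ≤ O_p(G)`, a subgroup `U` normalized by a Sylow
  `p`-subgroup and controlling strong fusion is normal.
-/

set_option autoImplicit false

namespace Cfsg.Agent.Lib.Helper97

open Cfsg
open scoped commutatorElement

universe u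

/-- Section version: `Q / Φ` elementary abelian, `a` quadratic on `Q / Φ`. -/
theorem exists_normal_of_quadratic_mod {Γ : Type u} [Group Γ] [Finite Γ] {p : ℕ} [Fact p.Prime]
    (hp2 : p ≠ 2) (hΓ : IsPAbelianP p Γ) (Q Φ : Subgroup Γ) [hQn : Q.Normal] [hΦn : Φ.Normal]
    (hcomm : ⁅Q, Q⁆ ≤ Φ) (hpow : ∀ x ∈ Q, x ^ p ∈ Φ) (a : Γ)
    (ha : ⁅⁅Q, Subgroup.zpowers a⁆, Subgroup.zpowers a⁆ ≤ Φ) :
    ∃ D : Subgroup Γ, D.Normal ∧ a ∈ D ∧
      ∀ d ∈ D, ∃ k : ℕ, ∀ r ∈ Q, d ^ (p ^ k) * r * (d ^ (p ^ k))⁻¹ * r⁻¹ ∈ Φ := by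
  have hsurj := QuotientGroup.mk'_surjective Φ
  set V' : Subgroup (Γ ⧸ Φ) := Q.map (QuotientGroup.mk' Φ) with hV'
  have hVn : V'.Normal := hQn.map _ hsurj
  have hVel : IsElementaryAbelian p V' := by
    refine ⟨⟨⟨?_⟩⟩, ?_⟩
    · rintro ⟨_, x, hx, rfl⟩ ⟨_, y, hy, rfl⟩
      apply Subtype.ext
      show (QuotientGroup.mk' Φ) x * (QuotientGroup.mk' Φ) y =
        (QuotientGroup.mk' Φ) y * (QuotientGroup.mk' Φ) x
      have h1 : ⁅x, y⁆ ∈ Φ := hcomm (Subgroup.commutator_mem_commutator hx hy)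
      have h2 : (QuotientGroup.mk' Φ) ⁅x, y⁆ = 1 := (QuotientGroup.eq_one_iff _).mpr h1
      rw [map_commutatorElement, commutatorElement_eq_one_iff_commute] at h2
      exact h2.eq
    · rintro _ ⟨x, hx, rfl⟩
      rw [← map_pow]
      exact (QuotientGroup.eq_one_iff _).mpr (hpow x hx)
  have hquad : ⁅⁅V', Subgroup.zpowers ((QuotientGroup.mk' Φ) a)⁆,
      Subgroup.zpowers ((QuotientGroup.mk' Φ) a)⁆ = ⊥ := by
    rw [hV', ← MonoidHom.map_zpowers, ← Subgroup.map_commutator, ← Subgroup.map_commutator,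
      eq_bot_iff]
    calc _ ≤ Φ.map (QuotientGroup.mk' Φ) := Subgroup.map_mono ha
      _ = ⊥ := QuotientGroup.map_mk'_self Φ
  obtain ⟨D', hD'n, haD', hD'⟩ := exists_normal_of_quadratic hp2 _ (Γ ⧸ Φ) (hΓ.quotient Φ) V'
    hVel rfl _ hquad
  refine ⟨D'.comap (QuotientGroup.mk' Φ), hD'n.comap _, haD', ?_⟩
  intro d hd
  obtain ⟨k, hk⟩ := hD' _ hd
  refine ⟨k, fun r hr => ?_⟩
  rw [Subgroup.mem_centralizer_iff] at hk
  have h1 := hk _ (Subgroup.mem_map_of_mem (QuotientGroup.mk' Φ) hr)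
  rw [← QuotientGroup.eq_one_iff]
  have h2 : ((d ^ (p ^ k) * r * (d ^ (p ^ k))⁻¹ * r⁻¹ : Γ) : Γ ⧸ Φ) =
      (QuotientGroup.mk' Φ d) ^ (p ^ k) * (QuotientGroup.mk' Φ r) *
        ((QuotientGroup.mk' Φ d) ^ (p ^ k))⁻¹ * (QuotientGroup.mk' Φ r)⁻¹ := by
    simp
  rw [h2, ← h1]
  group

/-- Version for an arbitrary normal `p`-subgroup. -/
theorem exists_normal_of_quadratic_pgroup {Γ : Type u} [Group Γ] [Finite Γ] {p : ℕ}
    [Fact p.Prime] (hp2 : p ≠ 2) (hΓ : IsPAbelianP p Γ) (R : Subgroup Γ) [hRn : R.Normal]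
    (hR : IsPGroup p R) (a : Γ)
    (ha : ⁅⁅R, Subgroup.zpowers a⁆, Subgroup.zpowers a⁆ = ⊥) :
    ∃ D : Subgroup Γ, D.Normal ∧ a ∈ D ∧
      ∀ d ∈ D, ∃ k : ℕ, d ^ (p ^ k) ∈ Subgroup.centralizer (R : Set Γ) := by
  have hp : p.Prime := Fact.out
  have hΦn : (Cfsg.Agent.Lib.Helper70.frattiniIn R).Normal := inferInstance
  have hcomm : ⁅R, R⁆ ≤ Cfsg.Agent.Lib.Helper70.frattiniIn R := commutator_le_map_frattini hR
  have hpow : ∀ x ∈ R, x ^ p ∈ Cfsg.Agent.Lib.Helper70.frattiniIn R :=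
    fun x hx => pow_prime_mem_map_frattini hR hx
  have ha' : ⁅⁅R, Subgroup.zpowers a⁆, Subgroup.zpowers a⁆ ≤
      Cfsg.Agent.Lib.Helper70.frattiniIn R := by
    rw [ha]; exact bot_le
  obtain ⟨D, hDn, haD, hD⟩ := exists_normal_of_quadratic_mod hp2 hΓ R
    (Cfsg.Agent.Lib.Helper70.frattiniIn R) hcomm hpow a ha'
  refine ⟨D, hDn, haD, ?_⟩
  intro d hd
  obtain ⟨k, hk⟩ := hD d hd
  set y := d ^ (p ^ k) with hy
  have hyT : y ∈ Cfsg.Agent.Lib.Helper70.trivOnFrattiniQuot R :=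
    (Cfsg.Agent.Lib.Helper70.mem_trivOnFrattiniQuot R y).mpr hk
  have ho : orderOf y ≠ 0 := (orderOf_pos y).ne'
  obtain ⟨m, n, hn, hmn⟩ := Nat.exists_eq_pow_mul_and_not_dvd ho p hp.ne_one
  have hzT : y ^ (p ^ m) ∈ Cfsg.Agent.Lib.Helper70.trivOnFrattiniQuot R := pow_mem hyT _
  have hzo : orderOf (y ^ (p ^ m)) ∣ n := by
    apply orderOf_dvd_of_pow_eq_one
    rw [← pow_mul, ← hmn]
    exact pow_orderOf_eq_one y
  have hcop : (orderOf (y ^ (p ^ m))).Coprime p :=
    Nat.Coprime.coprime_dvd_left hzo ((Nat.Prime.coprime_iff_not_dvd hp).mpr hn).symm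
  have hzC := Cfsg.Agent.Lib.Helper70.mem_centralizer_of_coprime R hR _ hzT hcop
  refine ⟨k + m, ?_⟩
  have : d ^ (p ^ (k + m)) = y ^ (p ^ m) := by
    rw [hy, ← pow_mul, pow_add]
  rw [this]
  exact hzC

/-- `p` odd: finite `p`-by-(abelian `p'`)-by-`p` groups are `p`-stable in the normalizer form. -/
theorem isNormalizerPStable_of_isPAbelianP {H : Type u} [Group H] [Finite H] {p : ℕ}
    [Fact p.Prime] (hp2 : p ≠ 2) (hH : IsPAbelianP p H) : IsNormalizerPStable p H := by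
  intro P hP g hg hquad
  have hPN : P ≤ Subgroup.normalizer (P : Set H) := Subgroup.le_normalizer
  have hRn : (P.subgroupOf (Subgroup.normalizer (P : Set H))).Normal :=
    Subgroup.normal_in_normalizer
  have hRp : IsPGroup p ↥(P.subgroupOf (Subgroup.normalizer (P : Set H))) := hP.comap_subtype
  have hq' : ⁅⁅P.subgroupOf (Subgroup.normalizer (P : Set H)),
      Subgroup.zpowers (⟨g, hg⟩ : ↥(Subgroup.normalizer (P : Set H)))⁆,
      Subgroup.zpowers (⟨g, hg⟩ : ↥(Subgroup.normalizer (P : Set H)))⁆ = ⊥ := by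
    rw [← quad_map_iff (Subgroup.normalizer (P : Set H)).subtype
      (Subgroup.normalizer (P : Set H)).subtype_injective, Subgroup.map_subgroupOf_eq_of_le hPN]
    exact hquad
  obtain ⟨D, hDn, haD, hD⟩ := exists_normal_of_quadratic_pgroup hp2
    (hH.subgroup (Subgroup.normalizer (P : Set H)))
    (P.subgroupOf (Subgroup.normalizer (P : Set H))) hRp ⟨g, hg⟩ hq'
  have hsurj := QuotientGroup.mk'_surjective
    ((Subgroup.centralizer (P : Set H)).subgroupOf (Subgroup.normalizer (P : Set H)))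
  have h1 : (D.map (QuotientGroup.mk'
      ((Subgroup.centralizer (P : Set H)).subgroupOf (Subgroup.normalizer (P : Set H))))).Normal :=
    hDn.map _ hsurj
  have h2 : IsPGroup p (D.map (QuotientGroup.mk'
      ((Subgroup.centralizer (P : Set H)).subgroupOf (Subgroup.normalizer (P : Set H))))) := by
    rintro ⟨_, d, hd, rfl⟩
    obtain ⟨k, hk⟩ := hD d hd
    refine ⟨k, Subtype.ext ?_⟩
    rw [Subgroup.coe_pow, Subgroup.coe_one, ← map_pow]
    refine (QuotientGroup.eq_one_iff _).mpr ?_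
    rw [Subgroup.mem_subgroupOf, Subgroup.mem_centralizer_iff]
    intro x hx
    rw [Subgroup.mem_centralizer_iff] at hk
    have := hk ⟨x, hPN hx⟩ (by
      show (⟨x, hPN hx⟩ : ↥(Subgroup.normalizer (P : Set H))) ∈
        P.subgroupOf (Subgroup.normalizer (P : Set H))
      rw [Subgroup.mem_subgroupOf]
      exact hx)
    have h3 := congrArg Subtype.val this
    simpa using h3
  exact le_pCore_of_normal h1 h2 (Subgroup.mem_map_of_mem _ haD)

/-- If `C_G(O_p(G)) ≤ O_p(G)`, a subgroup `U` normalized by a Sylow `p`-subgroup which controls strong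
fusion is normal. -/
theorem normal_of_controlsStrongFusion {G : Type*} [Group G] [Finite G] {p : ℕ} [Fact p.Prime]
    (hc : Subgroup.centralizer (pCore p G : Set G) ≤ pCore p G) (T : Sylow p G) (U : Subgroup G)
    (hTU : (T : Subgroup G) ≤ Subgroup.normalizer (U : Set G))
    (hU : ControlsStrongFusion p U) : U.Normal := by
  obtain ⟨T', -, hctl⟩ := hU
  have hQT' : ((pCore p G : Subgroup G) : Set G) ⊆ ((T' : Subgroup G) : Set G) :=
    fun x hx => pCore_le_sylow' T' hx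
  have hQn : (pCore p G).Normal := inferInstance
  rw [← Subgroup.normalizer_eq_top_iff, eq_top_iff]
  intro g _
  have himg : (fun a => g * a * g⁻¹) '' ((pCore p G : Subgroup G) : Set G) ⊆
      ((T' : Subgroup G) : Set G) := by
    rintro _ ⟨a, ha, rfl⟩
    exact hQT' (hQn.conj_mem a ha g)
  obtain ⟨x, hx, hxa⟩ := (hctl _ hQT').2 g himg
  have hc1 : x⁻¹ * g ∈ Subgroup.centralizer (pCore p G : Set G) := by
    rw [Subgroup.mem_centralizer_iff]
    intro a ha
    have := hxa a ha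
    calc a * (x⁻¹ * g) = x⁻¹ * (x * a * x⁻¹) * g := by group
      _ = x⁻¹ * (g * a * g⁻¹) * g := by rw [this]
      _ = x⁻¹ * g * a := by group
  have h2 : x⁻¹ * g ∈ Subgroup.normalizer (U : Set G) :=
    hTU (pCore_le_sylow' T (hc hc1))
  have : g = x * (x⁻¹ * g) := by group
  rw [this]
  exact mul_mem hx h2

end Cfsg.Agent.Lib.Helper97
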