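import Mathlib
import Cfsg.Agent.Lib.Helper33.SylIn
import Cfsg.Agent.Lib.Helper97.Cores

/-!
# Normalizers and centralizers of `p`-subgroups modulo a normal `p'`-subgroup (helper97)

For a finite group `G`, a normal subgroup `N` of order prime to `p` and a `p`-subgroup `V`:
* `exists_mul_mem_normalizer_of_coprime`: if `g V g⁻¹ ≤ V N` then `n * g ∈ N_G(V)` for some `n ∈ N`;
* `exists_mul_mem_centralizer_of_coprime_normal`: if `[g, v] ∈ N` for all `v ∈ V` then
  `n * g ∈ C_G(V)` for some `n ∈ N`;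
* `normalizer_map_mk_of_coprime`, `centralizer_map_mk_of_coprime`: `N_{G/N}(VN/N) = N_G(V)N/N`,
  `C_{G/N}(VN/N) = C_G(V)N/N`;
* `pPrimeCore_quotient_pPrimeCore`: `O_{p'}(G / O_{p'}(G)) = 1`.
-/

set_option autoImplicit false

namespace Cfsg.Agent.Lib.Helper97

open Cfsg Cfsg.Agent.Lib.Helper33
open scoped Pointwise

variable {G : Type*} [Group G]

theorem inf_eq_bot_of_isPGroup_of_coprime {p : ℕ} [Fact p.Prime] [Finite G] {V N : Subgroup G}
    (hV : IsPGroup p V) (hN : (Nat.card N).Coprime p) : V ⊓ N = ⊥ := by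
  have h1 : IsPGroup p (V ⊓ N : Subgroup G) := hV.to_le inf_le_left
  obtain ⟨k, hk⟩ := (IsPGroup.iff_card.mp h1)
  have h2 : Nat.card (V ⊓ N : Subgroup G) ∣ Nat.card N := Subgroup.card_dvd_of_le inf_le_right
  rw [hk] at h2
  have h3 : (p ^ k).Coprime p := Nat.Coprime.coprime_dvd_left h2 hN
  rcases Nat.eq_zero_or_pos k with hk0 | hk0
  · rw [hk0, pow_zero] at hk
    exact Subgroup.card_eq_one.mp hk
  · exfalso
    have : p ∣ p ^ k := dvd_pow_self p hk0.ne'
    have h4 : p ∣ Nat.gcd (p ^ k) p := Nat.dvd_gcd this dvd_rfl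
    rw [h3] at h4
    exact (Fact.out : p.Prime).one_lt.ne' (Nat.dvd_one.mp h4)

theorem sylIn_sup_of_coprime {p : ℕ} [Fact p.Prime] [Finite G] {V N : Subgroup G} [N.Normal]
    (hV : IsPGroup p V) (hN : (Nat.card N).Coprime p) : SylIn p V (V ⊔ N) := by
  refine ⟨le_sup_left, hV, ?_⟩
  intro hdvd
  have h1 : Nat.card (V ⊔ N : Subgroup G) ∣ Nat.card V * Nat.card N :=
    card_sup_dvd_card_mul_card V N
  have h2 : Nat.card V * V.relIndex (V ⊔ N) = Nat.card (V ⊔ N : Subgroup G) := by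
    rw [Subgroup.relIndex, ← Subgroup.card_mul_index (V.subgroupOf (V ⊔ N))]
    congr 1
    exact (Nat.card_congr (Subgroup.subgroupOfEquivOfLe (le_sup_left : V ≤ V ⊔ N)).toEquiv).symm
  rw [← h2] at h1
  have h3 : V.relIndex (V ⊔ N) ∣ Nat.card N :=
    Nat.dvd_of_mul_dvd_mul_left Nat.card_pos h1
  have h4 : p ∣ Nat.card N := hdvd.trans h3
  have h5 : p ∣ Nat.gcd (Nat.card N) p := Nat.dvd_gcd h4 dvd_rfl
  rw [hN] at h5
  exact (Fact.out : p.Prime).one_lt.ne' (Nat.dvd_one.mp h5)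

/-- If `g V g⁻¹ ≤ V N` with `N` a normal `p'`-subgroup and `V` a `p`-subgroup, then some element
of the coset `N g` normalizes `V`. -/
theorem exists_mul_mem_normalizer_of_coprime {p : ℕ} [Fact p.Prime] [Finite G] {V N : Subgroup G}
    [N.Normal] (hV : IsPGroup p V) (hN : (Nat.card N).Coprime p) {g : G}
    (hg : V.map (MulAut.conj g).toMonoidHom ≤ V ⊔ N) :
    ∃ n ∈ N, n * g ∈ Subgroup.normalizer (V : Set G) := by
  have hS : SylIn p V (V ⊔ N) := sylIn_sup_of_coprime hV hN
  obtain ⟨h, hh, hle⟩ := hS.exists_cj_le (Q := cj g V) hg (isPGroup_cj hV)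
  rw [← cj_mul] at hle
  have hnorm : h * g ∈ Subgroup.normalizer (V : Set G) := by
    rw [mem_normalizer_iff_cj_eq]
    exact Subgroup.eq_of_le_of_card_ge hle (card_cj (h * g) V).ge
  -- decompose `h = v * n`
  have hh' : h ∈ (↑V * ↑N : Set G) := by
    rw [← Subgroup.mul_normal]
    exact hh
  obtain ⟨v, hv, n, hn, rfl⟩ := hh'
  refine ⟨n, hn, ?_⟩
  have hv' : v⁻¹ ∈ Subgroup.normalizer (V : Set G) := Subgroup.le_normalizer (inv_mem hv)
  have := mul_mem hv' hnorm
  have e : v⁻¹ * (v * n * g) = n * g := by group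
  rwa [e] at this

/-- If `[g, v] ∈ N` for all `v ∈ V`, with `N` a normal `p'`-subgroup and `V` a `p`-subgroup,
then some element of the coset `N g` centralizes `V`. -/
theorem exists_mul_mem_centralizer_of_coprime_normal {p : ℕ} [Fact p.Prime] [Finite G]
    {V N : Subgroup G} [hNn : N.Normal] (hV : IsPGroup p V) (hN : (Nat.card N).Coprime p) {g : G}
    (hg : ∀ v ∈ V, g * v * g⁻¹ * v⁻¹ ∈ N) :
    ∃ n ∈ N, n * g ∈ Subgroup.centralizer (V : Set G) := by
  have hle : V.map (MulAut.conj g).toMonoidHom ≤ V ⊔ N := by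
    rintro _ ⟨v, hv, rfl⟩
    have h1 : g * v * g⁻¹ * v⁻¹ ∈ V ⊔ N := Subgroup.mem_sup_right (hg v hv)
    have h2 : v ∈ V ⊔ N := Subgroup.mem_sup_left hv
    have := mul_mem h1 h2
    simpa [MulAut.conj_apply] using this
  obtain ⟨n, hn, hnorm⟩ := exists_mul_mem_normalizer_of_coprime hV hN hle
  refine ⟨n, hn, ?_⟩
  rw [Subgroup.mem_centralizer_iff]
  intro v hv
  have hVN : V ⊓ N = ⊥ := inf_eq_bot_of_isPGroup_of_coprime hV hN
  have h1 : (n * g) * v * (n * g)⁻¹ ∈ V := (Subgroup.mem_normalizer_iff.mp hnorm v).mp hv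
  have h2 : (n * g) * v * (n * g)⁻¹ * v⁻¹ ∈ V := mul_mem h1 (inv_mem hv)
  have h3 : (n * g) * v * (n * g)⁻¹ * v⁻¹ ∈ N := by
    have e : (n * g) * v * (n * g)⁻¹ * v⁻¹ = n * (g * v * g⁻¹ * v⁻¹) * (v * n⁻¹ * v⁻¹) := by group
    rw [e]
    exact mul_mem (mul_mem hn (hg v hv)) (hNn.conj_mem _ (inv_mem hn) v)
  have h4 : (n * g) * v * (n * g)⁻¹ * v⁻¹ ∈ V ⊓ N := ⟨h2, h3⟩
  rw [hVN, Subgroup.mem_bot] at h4
  have h5 : (n * g) * v * (n * g)⁻¹ = v := by
    have := congrArg (· * v) h4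
    simpa using this
  calc v * (n * g) = ((n * g) * v * (n * g)⁻¹) * (n * g) := by rw [h5]
    _ = n * g * v := by group

/-- `N_{G/N}(VN/N)` is the image of `N_G(V)`, for `V` a `p`-subgroup and `N` a normal `p'`-subgroup. -/
theorem normalizer_map_mk_of_coprime {p : ℕ} [Fact p.Prime] [Finite G] {V N : Subgroup G}
    [N.Normal] (hV : IsPGroup p V) (hN : (Nat.card N).Coprime p) :
    Subgroup.normalizer ((V.map (QuotientGroup.mk' N) : Subgroup (G ⧸ N)) : Set (G ⧸ N)) =
      (Subgroup.normalizer (V : Set G)).map (QuotientGroup.mk' N) := by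
  apply le_antisymm
  · intro x hx
    obtain ⟨g, rfl⟩ := QuotientGroup.mk'_surjective N x
    have hle : V.map (MulAut.conj g).toMonoidHom ≤ V ⊔ N := by
      rintro _ ⟨v, hv, rfl⟩
      have h1 : (QuotientGroup.mk' N) g * (QuotientGroup.mk' N) v * ((QuotientGroup.mk' N) g)⁻¹ ∈
          V.map (QuotientGroup.mk' N) :=
        (Subgroup.mem_normalizer_iff.mp hx _).mp (Subgroup.mem_map_of_mem _ hv)
      obtain ⟨w, hw, hwe⟩ := h1
      have h2 : w⁻¹ * (g * v * g⁻¹) ∈ N := by
        rw [← QuotientGroup.eq]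
        simpa using hwe
      have : g * v * g⁻¹ = w * (w⁻¹ * (g * v * g⁻¹)) := by group
      simp only [MulEquiv.coe_toMonoidHom, MulAut.conj_apply]
      rw [this]
      exact mul_mem (Subgroup.mem_sup_left hw) (Subgroup.mem_sup_right h2)
    obtain ⟨n, hn, hnorm⟩ := exists_mul_mem_normalizer_of_coprime hV hN hle
    refine ⟨n * g, hnorm, ?_⟩
    have : (QuotientGroup.mk' N) n = 1 := (QuotientGroup.eq_one_iff n).mpr hn
    rw [map_mul, this, one_mul]
  · exact Subgroup.le_normalizer_map _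

/-- `C_{G/N}(VN/N)` is the image of `C_G(V)`, for `V` a `p`-subgroup and `N` a normal `p'`-subgroup. -/
theorem centralizer_map_mk_of_coprime {p : ℕ} [Fact p.Prime] [Finite G] {V N : Subgroup G}
    [N.Normal] (hV : IsPGroup p V) (hN : (Nat.card N).Coprime p) :
    Subgroup.centralizer ((V.map (QuotientGroup.mk' N) : Subgroup (G ⧸ N)) : Set (G ⧸ N)) =
      (Subgroup.centralizer (V : Set G)).map (QuotientGroup.mk' N) := by
  apply le_antisymm
  · intro x hx
    obtain ⟨g, rfl⟩ := QuotientGroup.mk'_surjective N x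
    have hg : ∀ v ∈ V, g * v * g⁻¹ * v⁻¹ ∈ N := by
      intro v hv
      have h1 := (Subgroup.mem_centralizer_iff.mp hx) ((QuotientGroup.mk' N) v)
        (Subgroup.mem_map_of_mem _ hv)
      rw [← QuotientGroup.eq_one_iff]
      have : ((g * v * g⁻¹ * v⁻¹ : G) : G ⧸ N) =
          (QuotientGroup.mk' N) g * (QuotientGroup.mk' N) v * ((QuotientGroup.mk' N) g)⁻¹ *
            ((QuotientGroup.mk' N) v)⁻¹ := by simp
      rw [this, ← h1]
      group
    obtain ⟨n, hn, hcent⟩ := exists_mul_mem_centralizer_of_coprime_normal hV hN hg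
    refine ⟨n * g, hcent, ?_⟩
    have : (QuotientGroup.mk' N) n = 1 := (QuotientGroup.eq_one_iff n).mpr hn
    rw [map_mul, this, one_mul]
  · rintro _ ⟨c, hc, rfl⟩
    rw [Subgroup.mem_centralizer_iff]
    rintro _ ⟨v, hv, rfl⟩
    rw [← map_mul, ← map_mul, (Subgroup.mem_centralizer_iff.mp hc) v hv]

/-- `O_{p'}(G / O_{p'}(G)) = 1`. -/
theorem pPrimeCore_quotient_pPrimeCore [Finite G] (p : ℕ) :
    pPrimeCore p (G ⧸ pPrimeCore p G) = ⊥ := by
  set N := pPrimeCore p G with hNdef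
  set M := (pPrimeCore p (G ⧸ N)).comap (QuotientGroup.mk' N) with hM
  have hMn : M.Normal := Subgroup.Normal.comap inferInstance _
  have hNM : N ≤ M := by
    intro x hx
    rw [hM, Subgroup.mem_comap]
    have : (QuotientGroup.mk' N) x = 1 := (QuotientGroup.eq_one_iff x).mpr hx
    rw [this]
    exact one_mem _
  have hcard : Nat.card M = Nat.card (pPrimeCore p (G ⧸ N)) * Nat.card N := by
    have h2 : M.map (QuotientGroup.mk' N) = pPrimeCore p (G ⧸ N) :=
      Subgroup.map_comap_eq_self_of_surjective (QuotientGroup.mk'_surjective N) _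
    have h3 : Nat.card (M.map (QuotientGroup.mk' N)) * Nat.card (N.subgroupOf M) = Nat.card M := by
      have := Subgroup.card_eq_card_quotient_mul_card_subgroup (N.subgroupOf M)
      rw [this]
      congr 1
      have e : (M ⧸ N.subgroupOf M) ≃* M.map (QuotientGroup.mk' N) := by
        have := QuotientGroup.quotientKerEquivRange ((QuotientGroup.mk' N).comp M.subtype)
        have hk : ((QuotientGroup.mk' N).comp M.subtype).ker = N.subgroupOf M := by
          ext x
          simp [MonoidHom.mem_ker, Subgroup.mem_subgroupOf]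
        have hr : ((QuotientGroup.mk' N).comp M.subtype).range = M.map (QuotientGroup.mk' N) := by
          rw [MonoidHom.range_comp, Subgroup.range_subtype]
        exact ((QuotientGroup.quotientMulEquivOfEq hk).symm.trans this).trans
          (MulEquiv.subgroupCongr hr)
      exact (Nat.card_congr e.toEquiv).symm
    rw [h2] at h3
    rw [← h3]
    congr 1
    exact Nat.card_congr (Subgroup.subgroupOfEquivOfLe hNM).toEquiv
  have hcop : (Nat.card M).Coprime p := by
    rw [hcard]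
    exact Nat.Coprime.mul_left (card_pPrimeCore_coprime p) (card_pPrimeCore_coprime p)
  have hMN : M ≤ N := le_pPrimeCore_of_normal hMn hcop
  rw [eq_bot_iff]
  intro x hx
  obtain ⟨g, rfl⟩ := QuotientGroup.mk'_surjective N x
  have : g ∈ M := hx
  rw [Subgroup.mem_bot]
  exact (QuotientGroup.eq_one_iff g).mpr (hMN this)

end Cfsg.Agent.Lib.Helper97
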