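import Cfsg.Agent.Lib.Helper97.Puig2
import Cfsg.Agent.Lib.Helper97.Frattini
import Cfsg.Agent.Lib.Helper97.PCoreQuot
import Cfsg.Agent.Lib.Helper97.CoprimeQuot

/-!
# Puig's theorem from the "abelian generation" property (helper97)

`AbGen G p` is the conclusion of statement S1465 (Bender–Glauberman Theorem 6.6/B.?):
for a normal `p`-subgroup `P` of `G`, the subgroup generated by abelian `p`-subgroups normalized by `P`
maps into `O_p(G / C_G(P))`, and lies in `O_p(G)` if `O_{p'}(G) = 1` and `C_{O_p(G)}(P) ≤ P`.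
From it we derive `L_*(S) ≤ L_*(T) ≤ L(T) ≤ L(S)` for `T = O_p(G)` and Puig's theorem `Z(L(S)) ⊴ G`
(for `O_{p'}(G) = 1`), and the factorization `G = O_{p'}(G) N_G(Z(L(S)))`.
-/

set_option autoImplicit false

namespace Cfsg.Agent.Lib.Helper97

open Cfsg

variable {G : Type*} [Group G]

/-- The conclusion of S1465 for the group `G` and the prime `p`. -/
def AbGen (G : Type*) [Group G] (p : ℕ) : Prop :=
  ∀ (P : Subgroup G) [P.Normal], IsPGroup p P → ∀ (S : Set (Subgroup G)),
    (∀ B ∈ S, IsMulCommutative B ∧ IsPGroup p B ∧ P ≤ Subgroup.normalizer (B : Set G)) →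
    (sSup S).map (QuotientGroup.mk' (Subgroup.centralizer (P : Set G))) ≤
        Cfsg.pCore p (G ⧸ Subgroup.centralizer (P : Set G)) ∧
      (Cfsg.pPrimeCore p G = ⊥ → Cfsg.pCore p G ⊓ Subgroup.centralizer (P : Set G) ≤ P →
        sSup S ≤ Cfsg.pCore p G)

/-- An abelian `p`-subgroup normalized by a normal `p`-subgroup `P` with `C_{O_p(G)}(P) ≤ P` lies in
`O_p(G)`. -/
theorem AbGen.le_pCore {p : ℕ} (h : AbGen G p) (hO : pPrimeCore p G = ⊥) {P : Subgroup G}
    (hPn : P.Normal) (hP : IsPGroup p P)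
    (hc : pCore p G ⊓ Subgroup.centralizer (P : Set G) ≤ P) {A : Subgroup G}
    (hAc : IsMulCommutative A) (hAp : IsPGroup p A) (hAn : P ≤ Subgroup.normalizer (A : Set G)) :
    A ≤ pCore p G := by
  have := (h P hP {A} (by
    intro B hB
    rw [Set.mem_singleton_iff] at hB
    subst hB
    exact ⟨hAc, hAp, hAn⟩)).2 hO hc
  rwa [sSup_singleton] at this

/-- Bender–Glauberman Theorem 7.5 / B.?: `L_*(S) ≤ L_*(T) ≤ L(T) ≤ L(S)` for `T = O_p(G)`. -/
theorem pLow_le_pLow_pCore [Finite G] {p : ℕ} [Fact p.Prime] (h : AbGen G p)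
    (hO : pPrimeCore p G = ⊥) (S : Sylow p G) :
    pLow (S : Subgroup G) ≤ pLow (pCore p G) ∧ pLow (pCore p G) ≤ pUp (pCore p G) ∧
      pUp (pCore p G) ≤ pUp (S : Subgroup G) := by
  have hTS : pCore p G ≤ (S : Subgroup G) := pCore_le_sylow' S
  have hTn : (pCore p G).Normal := inferInstance
  have hTp : IsPGroup p (pCore p G) := isPGroup_pCore p G
  have key : ∀ n : ℕ, pSeq (S : Subgroup G) (2 * n) ≤ pSeq (pCore p G) (2 * n) ∧
      pSeq (pCore p G) (2 * n + 1) ≤ pSeq (S : Subgroup G) (2 * n + 1) := by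
    intro n
    induction n with
    | zero => exact ⟨le_rfl, pStep_mono hTS le_rfl⟩
    | succ n ih =>
      have e1 : 2 * (n + 1) = (2 * n + 1) + 1 := by ring
      have h2 : pSeq (S : Subgroup G) (2 * (n + 1)) ≤ pSeq (pCore p G) (2 * (n + 1)) := by
        rw [e1, pSeq_succ, pSeq_succ]
        apply pStep_le_pStep_of_forall _ ih.2
        intro A hAS hAc hAn
        have hPn : (pSeq (pCore p G) (2 * n + 1)).Normal := pSeq_normal hTn _
        have hPp : IsPGroup p (pSeq (pCore p G) (2 * n + 1)) := hTp.to_le (pSeq_le _ _)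
        exact h.le_pCore hO hPn hPp
          (inf_centralizer_pSeq_le (pCore p G) hTp (Nat.succ_pos _)) hAc (S.isPGroup'.to_le hAS)
          (ih.2.trans hAn)
      refine ⟨h2, ?_⟩
      rw [pSeq_succ, pSeq_succ]
      exact pStep_mono hTS h2
  refine ⟨?_, pLow_le_pUp _, ?_⟩
  · exact iSup_le fun n => (key n).1.trans (pSeq_even_le_pLow _ n)
  · exact le_iInf fun n => (pUp_le_pSeq_odd _ n).trans (key n).2

/-- **Puig's theorem**: if `O_{p'}(G) = 1` then `Z(L(S))` is normal in `G`. -/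
theorem zL_normal_of_abGen [Finite G] {p : ℕ} [Fact p.Prime] (h : AbGen G p)
    (hO : pPrimeCore p G = ⊥) (S : Sylow p G) : (zL (S : Subgroup G)).Normal := by
  have hTS : pCore p G ≤ (S : Subgroup G) := pCore_le_sylow' S
  have hTn : (pCore p G).Normal := inferInstance
  have hTp : IsPGroup p (pCore p G) := isPGroup_pCore p G
  have hMn : (pUp (pCore p G)).Normal := pUp_normal hTn
  have hMp : IsPGroup p (pUp (pCore p G)) := hTp.to_le (pUp_le _)
  have hLT : pUp (pCore p G) ≤ pUp (S : Subgroup G) := (pLow_le_pLow_pCore h hO S).2.2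
  have hZTn : (zL (pCore p G)).Normal := zL_normal hTn
  have hZTp : IsPGroup p (zL (pCore p G)) := hTp.to_le (zL_le _)
  -- (b) `Z(L(S)) ≤ Z(L(T))`
  have hb : zL (S : Subgroup G) ≤ zL (pCore p G) := by
    intro x hx
    obtain ⟨hx1, hx2⟩ := Subgroup.mem_inf.mp hx
    have hxS : x ∈ (S : Subgroup G) := pUp_le _ hx1
    have hxc : x ∈ Subgroup.centralizer (pUp (pCore p G) : Set G) :=
      Subgroup.centralizer_le hLT hx2
    have hxT : Subgroup.zpowers x ≤ pCore p G := by
      apply h.le_pCore hO hMn hMp (inf_centralizer_pUp_le (pCore p G) hTp) inferInstance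
      · exact S.isPGroup'.to_le (by rw [Subgroup.zpowers_le]; exact hxS)
      · intro m hm
        have hmx : m * x = x * m := (Subgroup.mem_centralizer_iff.mp hxc m hm)
        have hmc : m ∈ Subgroup.centralizer (Subgroup.zpowers x : Set G) := by
          rw [Subgroup.mem_centralizer_iff]
          intro y hy
          obtain ⟨k, rfl⟩ := Subgroup.mem_zpowers_iff.mp hy
          exact ((Commute.zpow_right (show Commute m x from hmx) k).eq).symm
        exact Subgroup.centralizer_le_normalizer _ hmc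
    have hxT' : x ∈ pCore p G := hxT (Subgroup.mem_zpowers x)
    have hxM : x ∈ pUp (pCore p G) :=
      inf_centralizer_pUp_le (pCore p G) hTp (Subgroup.mem_inf.mpr ⟨hxT', hxc⟩)
    exact Subgroup.mem_inf.mpr ⟨hxM, hxc⟩
  -- (c) `Z(L(T)) ≤ L_*(S)`
  have hc : zL (pCore p G) ≤ pLow (S : Subgroup G) := by
    apply le_pLow_of_normal ((zL_le _).trans hTS) (zL_isMulCommutative _)
    rw [Subgroup.normalizer_eq_top_iff.mpr hZTn]
    exact le_top
  -- (d) `L(S) ≤ K`
  set C := Subgroup.centralizer (zL (pCore p G) : Set G) with hC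
  have hCn : C.Normal := Subgroup.normal_centralizer
  set K : Subgroup G := (pCore p (G ⧸ C)).comap (QuotientGroup.mk' C) with hK
  have hKn : K.Normal := Subgroup.Normal.comap inferInstance _
  have hd : pUp (S : Subgroup G) ≤ K := by
    rw [← pStep_pLow (S : Subgroup G), ← Subgroup.map_le_iff_le_comap]
    refine (h (zL (pCore p G)) hZTp _ ?_).1
    rintro B ⟨hBS, hBc, hBn⟩
    exact ⟨hBc, S.isPGroup'.to_le hBS, hc.trans hBn⟩
  -- (e)
  have he : zL ((S : Subgroup G) ⊓ K) = zL (S : Subgroup G) :=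
    zL_eq_of_le inf_le_left (le_inf (pUp_le _) hd)
  -- (f)
  rw [← Subgroup.normalizer_eq_top_iff, eq_top_iff]
  intro g _
  obtain ⟨m, hm, hmg⟩ := frattini_sylow_inf S K g
  have hm' : (QuotientGroup.mk m : G ⧸ C) ∈ pCore p (G ⧸ C) := hm
  obtain ⟨s, hs, c, hcC, hmsc⟩ := exists_mem_sylow_mk_eq C (pCore p (G ⧸ C))
    (isPGroup_pCore p _) S hm'
  have hCK : C ≤ K := by
    intro c hc
    show (QuotientGroup.mk' C) c ∈ pCore p (G ⧸ C)
    have : (QuotientGroup.mk' C) c = 1 := (QuotientGroup.eq_one_iff c).mpr hc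
    rw [this]
    exact one_mem _
  have hsK : s ∈ K := by
    have : s = m * c⁻¹ := by rw [hmsc]; group
    rw [this]
    exact mul_mem hm (inv_mem (hCK hcC))
  have hs1 : s ∈ Subgroup.normalizer (((S : Subgroup G) ⊓ K : Subgroup G) : Set G) :=
    Subgroup.le_normalizer (Subgroup.mem_inf.mpr ⟨hs, hsK⟩)
  have hcg : c * g ∈ Subgroup.normalizer (((S : Subgroup G) ⊓ K : Subgroup G) : Set G) := by
    have : c * g = s⁻¹ * (m * g) := by rw [hmsc]; group
    rw [this]
    exact mul_mem (inv_mem hs1) hmg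
  have hcg' : c * g ∈ Subgroup.normalizer (zL (S : Subgroup G) : Set G) := by
    rw [← he]
    exact normalizer_le_normalizer_zL _ hcg
  have hc' : c ∈ Subgroup.normalizer (zL (S : Subgroup G) : Set G) := by
    apply Subgroup.centralizer_le_normalizer
    exact Subgroup.centralizer_le hb hcC
  have : g = c⁻¹ * (c * g) := by group
  rw [this]
  exact mul_mem (inv_mem hc') hcg'

/-- **Puig factorization**: `G = O_{p'}(G) N_G(Z(L(S)))`, given the abelian generation property for
`G / O_{p'}(G)`. -/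
theorem pPrimeCore_sup_normalizer_zL [Finite G] {p : ℕ} [Fact p.Prime]
    (h : AbGen (G ⧸ pPrimeCore p G) p) (S : Sylow p G) :
    pPrimeCore p G ⊔ Subgroup.normalizer (zL (S : Subgroup G) : Set G) = ⊤ := by
  have hNcop : (Nat.card (pPrimeCore p G)).Coprime p := card_pPrimeCore_coprime p
  have hsurj := QuotientGroup.mk'_surjective (pPrimeCore p G)
  have hSN : (S : Subgroup G) ⊓ pPrimeCore p G = ⊥ :=
    inf_eq_bot_of_isPGroup_of_coprime S.isPGroup' hNcop
  have hinj : Set.InjOn (QuotientGroup.mk' (pPrimeCore p G)) ((S : Subgroup G) : Set G) := by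
    intro s hs s' hs' hss'
    have h1 : s⁻¹ * s' ∈ pPrimeCore p G := QuotientGroup.eq.mp hss'
    have h2 : s⁻¹ * s' ∈ (S : Subgroup G) ⊓ pPrimeCore p G :=
      Subgroup.mem_inf.mpr ⟨mul_mem (inv_mem hs) hs', h1⟩
    rw [hSN, Subgroup.mem_bot] at h2
    exact inv_mul_eq_one.mp h2
  have h1 : (zL ((S.mapSurjective hsurj : Sylow p (G ⧸ pPrimeCore p G)) :
      Subgroup (G ⧸ pPrimeCore p G))).Normal :=
    zL_normal_of_abGen h (pPrimeCore_quotient_pPrimeCore p) _
  rw [Sylow.coe_mapSurjective, zL_map_of_injOn _ hinj] at h1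
  have hZp : IsPGroup p (zL (S : Subgroup G)) := S.isPGroup'.to_le (zL_le _)
  have h2 := normalizer_map_mk_of_coprime hZp hNcop
  rw [Subgroup.normalizer_eq_top_iff.mpr h1] at h2
  rw [eq_top_iff]
  intro g _
  have hg : (QuotientGroup.mk' (pPrimeCore p G)) g ∈
      (Subgroup.normalizer (zL (S : Subgroup G) : Set G)).map (QuotientGroup.mk' (pPrimeCore p G)) := by
    rw [← h2]; exact Subgroup.mem_top _
  obtain ⟨n, hn, hng⟩ := hg
  have h3 : n⁻¹ * g ∈ pPrimeCore p G := QuotientGroup.eq.mp hng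
  have : g = n * (n⁻¹ * g) := by group
  rw [this]
  exact mul_mem (Subgroup.mem_sup_right hn) (Subgroup.mem_sup_left h3)

end Cfsg.Agent.Lib.Helper97
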