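import Cfsg.Agent.S1465
import Cfsg.Agent.Lib.Helper97.PuigMain

/-!
# The abelian generation property for solvable groups of odd order (from S1465) (helper97)
-/

set_option autoImplicit false

namespace Cfsg.Agent.Lib.Helper97

open Cfsg

theorem abGen_of_odd_solvable {G : Type*} [Group G] [Finite G] [Group.IsSolvable G]
    (hodd : Odd (Nat.card G)) (p : ℕ) [Fact p.Prime] (hp : p ≠ 2) : AbGen G p := by
  intro P _ hP S hS
  exact Cfsg.Agent.S1465.result hodd p hp P hP S hS

theorem odd_card_quotient {G : Type*} [Group G] [Finite G] (hodd : Odd (Nat.card G))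
    (N : Subgroup G) [N.Normal] : Odd (Nat.card (G ⧸ N)) := by
  have h := Subgroup.card_eq_card_quotient_mul_card_subgroup N
  rw [h] at hodd
  exact (Nat.odd_mul.mp hodd).1

end Cfsg.Agent.Lib.Helper97
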