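import Cfsg.Agent.S0005
import Cfsg.Agent.Lib.Helper24.RankTwoGen
import Cfsg.Agent.Lib.Helper24.RankTwoPrelude
import Cfsg.Agent.Lib.Helper54.UqNine4
import Cfsg.Agent.Lib.Helper54.UqEight
import Cfsg.Agent.Lib.Helper50.AlphaCore
import Cfsg.Agent.Lib.Helper23.TypeP

/-!
# Bender–Glauberman Corollary 12.10 (statement S1420), conditional on earlier statements

`N` nilpotent `σ(M)'`-subgroup of `M` is abelian; `E'` is abelian; `N_G(P) ≤ M` for noncyclic
`p`-subgroups `P ≤ M`, `p ∈ σ(M)`; `τ₂(M)`-elements of `M` with a nontrivial fixed point on `M_σ`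
have their centralizer in the unique maximal subgroup `M`.
-/

set_option autoImplicit false

namespace Cfsg.Agent.Lib.Helper97.BGTwelve

open scoped Pointwise
open Cfsg Cfsg.Agent.Lib.Helper54

/-- a finite nilpotent group all of whose Sylow subgroups are abelian is abelian -/
theorem isMulCommutative_of_nilpotent_of_sylow {N : Type*} [Group N] [Finite N]
    (hN : Group.IsNilpotent N)
    (h : ∀ (q : ℕ) [Fact q.Prime] (Q : Sylow q N), IsMulCommutative ↥(Q : Subgroup N)) :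
    IsMulCommutative N := by
  obtain ⟨e⟩ := ((Group.isNilpotent_of_finite_tfae (G := N)).out 0 4).mp hN
  refine ⟨⟨fun a b => ?_⟩⟩
  have h1 : e.symm a * e.symm b = e.symm b * e.symm a := by
    funext q Q
    have : Fact (q : ℕ).Prime := ⟨Nat.prime_of_mem_primeFactors q.2⟩
    exact (h q Q).is_comm.comm _ _
  have h2 := congrArg e h1
  simpa using h2

variable {G : Type*} [Group G]

/-- a `q`-subgroup (`q` odd) of a group of `q`-rank at most one is cyclic -/
theorem isCyclic_of_pRankLE_one [Finite G] {q : ℕ} [Fact q.Prime] (hq2 : q ≠ 2) (Q : Subgroup G)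
    (hQ : IsPGroup q Q) (hr : PRankLE q 1 ↥Q) : IsCyclic Q := by
  by_contra hnc
  obtain ⟨E, hEQ, hEc, hEe, hEcard⟩ := exists_elemAb_sq_of_not_isCyclic hq2 Q hQ hnc
  have hq : q.Prime := Fact.out
  refine not_pRankLE_of_elemAb hEQ hEc hEe ?_ hr
  calc q ^ 1 < q ^ 2 := Nat.pow_lt_pow_right hq.one_lt (by norm_num)
    _ ≤ Nat.card E := hEcard


/-- **BG 12.10(a)**: a nilpotent `σ(M)'`-subgroup of `M` is abelian. -/
theorem nilpotent_sigma'_abelian [Finite G] (hG : IsMinSimpleOddOrder G)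
    (hU : Cfsg.Agent.Lib.Helper50.UniqThree G) (M : Subgroup G) (hM : IsCoatom M)
    (hτ : ∀ (q : ℕ) [Fact q.Prime], q ∈ tau2 M → ∀ P : Sylow q M,
      IsMulCommutative (P : Subgroup M))
    (N : Subgroup G) (hNM : N ≤ M) (hNn : Group.IsNilpotent N)
    (hNσ : ∀ p : ℕ, p.Prime → p ∣ Nat.card N → p ∉ sigma M) : IsMulCommutative N := by
  apply isMulCommutative_of_nilpotent_of_sylow hNn
  intro q _ Q
  have hq : q.Prime := Fact.out
  set Q' : Subgroup G := (Q : Subgroup N).map N.subtype with hQ'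
  have hQ'p : IsPGroup q Q' := Q.isPGroup'.map _
  have hQ'M : Q' ≤ M := (Subgroup.map_subtype_le _).trans hNM
  suffices hc : ∀ a ∈ Q', ∀ b ∈ Q', a * b = b * a by
    refine ⟨⟨?_⟩⟩
    rintro ⟨a, ha⟩ ⟨b, hb⟩
    apply Subtype.ext
    apply Subtype.ext
    exact hc a ⟨a, ha, rfl⟩ b ⟨b, hb, rfl⟩
  by_cases hQ1 : (Q : Subgroup N) = ⊥
  · intro a ha b hb
    obtain ⟨a', ha', rfl⟩ := ha
    obtain ⟨b', hb', rfl⟩ := hb
    have ha'' : a' = 1 := by
      have : a' ∈ (Q : Subgroup N) := ha'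
      rwa [hQ1, Subgroup.mem_bot] at this
    have hb'' : b' = 1 := by
      have : b' ∈ (Q : Subgroup N) := hb'
      rwa [hQ1, Subgroup.mem_bot] at this
    rw [ha'', hb'']
  have hqN : q ∣ Nat.card N :=
    (dvd_card_of_isPGroup_ne_bot Q.isPGroup' hQ1).trans (Subgroup.card_subgroup_dvd_card _)
  have hqσ : q ∉ sigma M := hNσ q hq hqN
  have hq2 : q ≠ 2 :=
    ne_two_of_dvd_of_odd hG.1 (hqN.trans (Subgroup.card_subgroup_dvd_card N))
  by_cases hr1 : PRankLE q 1 ↥M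
  · have hcyc : IsCyclic Q' := isCyclic_of_pRankLE_one hq2 Q' hQ'p (pRankLE_of_le hQ'M hr1)
    intro a ha b hb
    have h := IsCyclic.commGroup.mul_comm (⟨a, ha⟩ : Q') ⟨b, hb⟩
    exact congrArg Subtype.val h
  · by_cases hr2 : PRankLE q 2 ↥M
    · have hqτ : q ∈ tau2 M := ⟨hq, hqσ, hr2, hr1⟩
      obtain ⟨P, hP⟩ := exists_sylow_map_ge hQ'M hQ'p
      have hPc := hτ q hqτ P
      intro a ha b hb
      obtain ⟨a', ha', rfl⟩ := hP ha
      obtain ⟨b', hb', rfl⟩ := hP hb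
      have h := hPc.is_comm.comm ⟨a', ha'⟩ ⟨b', hb'⟩
      have h' : a' * b' = b' * a' := congrArg Subtype.val h
      show (M.subtype a') * (M.subtype b') = (M.subtype b') * (M.subtype a')
      rw [← map_mul, h', map_mul]
    · exact absurd (Cfsg.Agent.Lib.Helper50.alpha_subset_sigma hG hU M hM ⟨hq, hr2⟩) hqσ


/-- an elementary abelian subgroup of order exactly `p ^ 2` in a subgroup of `p`-rank at least two -/
theorem exists_elemAb_sq_of_not_pRankLE_one [Finite G] {p : ℕ} [Fact p.Prime] (H : Subgroup G)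
    (hr : ¬ PRankLE p 1 ↥H) :
    ∃ A : Subgroup G, A ≤ H ∧ IsElementaryAbelian p A ∧ Nat.card A = p ^ 2 := by
  have hp : p.Prime := Fact.out
  unfold PRankLE at hr
  push Not at hr
  obtain ⟨B, hBc, hBe, hBcard⟩ := hr
  have hBp : IsPGroup p B := by
    intro b
    refine ⟨1, ?_⟩
    rw [pow_one]
    apply Subtype.ext
    simpa using hBe b b.2
  obtain ⟨k, hk⟩ := hBp.exists_card_eq
  have hk2 : 2 ≤ k := by
    by_contra h
    have hk1 : k ≤ 1 := by omega
    have : p ^ k ≤ p ^ 1 := Nat.pow_le_pow_right hp.pos hk1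
    omega
  have hdvd : p ^ 2 ∣ Nat.card B := by
    rw [hk]
    exact pow_dvd_pow p hk2
  obtain ⟨K, hK⟩ := Sylow.exists_subgroup_card_pow_prime p hdvd
  refine ⟨(K.map B.subtype).map H.subtype, Subgroup.map_subtype_le _, ⟨?_, ?_⟩, ?_⟩
  · refine ⟨⟨?_⟩⟩
    rintro ⟨_, ⟨_, ⟨x, hx, rfl⟩, rfl⟩⟩ ⟨_, ⟨_, ⟨y, hy, rfl⟩, rfl⟩⟩
    apply Subtype.ext
    have h1 : x * y = y * x := hBc.is_comm.comm x y
    show H.subtype (B.subtype x) * H.subtype (B.subtype y) =
      H.subtype (B.subtype y) * H.subtype (B.subtype x)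
    rw [← map_mul, ← map_mul, h1, map_mul, map_mul]
  · rintro _ ⟨_, ⟨x, hx, rfl⟩, rfl⟩
    rw [← map_pow, ← map_pow]
    have h1 : (x : H) ^ p = 1 := hBe x x.2
    have h2 : x ^ p = 1 := Subtype.ext (by simpa using h1)
    rw [h2, map_one, map_one]
  · rw [Subgroup.card_map_of_injective (Subgroup.subtype_injective _),
      Subgroup.card_map_of_injective (Subgroup.subtype_injective _), hK]

/-- S1417(b) in the form used for 12.10(a): Sylow `q`-subgroups of `M` are abelian, `q ∈ τ₂(M)` -/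
theorem tau2_sylow_abelian [Finite G] (M : Subgroup G)
    (h1417 : ∀ (p : ℕ) [Fact p.Prime], p ∈ tau2 M → ∀ A : Subgroup G,
      (A ≤ M ∧ IsElementaryAbelian p A ∧ Nat.card A = p ^ 2) →
      ∀ P : Sylow p M, IsMulCommutative (P : Subgroup M)) :
    ∀ (q : ℕ) [Fact q.Prime], q ∈ tau2 M → ∀ P : Sylow q M, IsMulCommutative (P : Subgroup M) := by
  intro q _ hq P
  obtain ⟨A, hA⟩ := exists_elemAb_sq_of_not_pRankLE_one M hq.2.2.2
  exact h1417 q hq A hA P

/-- a complement to a normal Hall `π`-subgroup is a `π'`-group -/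
theorem not_dvd_card_of_isComplIn [Finite G] {π : Set ℕ} {E N M : Subgroup G}
    (hE : IsComplIn E N M) (hN : IsPiHallOf π N M) {p : ℕ} (hp : p.Prime) (hpπ : p ∈ π) :
    ¬ p ∣ Nat.card E := by
  have h1 := Cfsg.Agent.Lib.Helper23.card_of_isComplIn hE
  have h2 := card_mul_relIndex hN.1
  have h3 : N.relIndex M = Nat.card E := by
    have : Nat.card N * N.relIndex M = Nat.card N * Nat.card E := by
      rw [h2, h1, mul_comm]
    exact Nat.eq_of_mul_eq_mul_left Nat.card_pos this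
  rw [← h3]
  exact hN.2.2 p hp hpπ

/-- **BG 12.10(b)**: `E'` is abelian. -/
theorem commutator_complement_abelian [Finite G] (hG : IsMinSimpleOddOrder G)
    (hU : Cfsg.Agent.Lib.Helper50.UniqThree G) (M : Subgroup G) (hM : IsCoatom M)
    (hτ : ∀ (q : ℕ) [Fact q.Prime], q ∈ tau2 M → ∀ P : Sylow q M,
      IsMulCommutative (P : Subgroup M))
    (h1350 : IsPiHallOf (sigma M) (sigmaCore M) M)
    (E : Subgroup G) (hE : IsComplIn E (sigmaCore M) M)
    (h1415 : Group.IsNilpotent ↥⁅E, E⁆) : IsMulCommutative ↥⁅E, E⁆ := by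
  have hEE : ⁅E, E⁆ ≤ E := Subgroup.commutator_le_self E
  apply nilpotent_sigma'_abelian hG hU M hM hτ _ (hEE.trans hE.1) h1415
  intro p hp hpd hpσ
  exact not_dvd_card_of_isComplIn hE h1350 hp hpσ (hpd.trans (Subgroup.card_dvd_of_le hEE))

/-- **BG 12.10(c)**: `N_G(P) ≤ M` for a noncyclic `p`-subgroup `P` of `M`, `p ∈ σ(M)`. -/
theorem normalizer_le_of_noncyclic [Finite G] (hG : IsMinSimpleOddOrder G) (M : Subgroup G)
    (h1404 : ∀ (p : ℕ) [Fact p.Prime], p ∈ sigma M → ∀ X : Subgroup G, IsPGroup p X → X ≠ ⊥ →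
      X ≤ M → Subgroup.normalizer (X : Set G) =
        (M ⊓ Subgroup.normalizer (X : Set G)) ⊔ Subgroup.centralizer (X : Set G))
    (h1416 : ∀ (p : ℕ) [Fact p.Prime] (A : Subgroup G),
      (A ≤ M ∧ IsElementaryAbelian p A ∧ Nat.card A = p ^ 2) →
      Subgroup.centralizer (A : Set G) ≤ M)
    (p : ℕ) (P : Subgroup G) (hp : p ∈ sigma M) (hPp : IsPGroup p P) (hPM : P ≤ M)
    (hPnc : ¬ IsCyclic P) : Subgroup.normalizer (P : Set G) ≤ M := by
  have hpp : p.Prime := hp.1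
  have : Fact p.Prime := ⟨hpp⟩
  have hP1 : P ≠ ⊥ := by
    rintro rfl
    exact hPnc inferInstance
  have hp2 : p ≠ 2 := ne_two_of_dvd_of_odd hG.1
    ((dvd_card_of_isPGroup_ne_bot hPp hP1).trans (Subgroup.card_subgroup_dvd_card _))
  have hr1 : ¬ PRankLE p 1 ↥P := fun h => hPnc (isCyclic_of_pRankLE_one hp2 P hPp h)
  obtain ⟨A, hAP, hAe, hAcard⟩ := exists_elemAb_sq_of_not_pRankLE_one P hr1
  have hCA : Subgroup.centralizer (A : Set G) ≤ M := h1416 p A ⟨hAP.trans hPM, hAe, hAcard⟩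
  have hCP : Subgroup.centralizer (P : Set G) ≤ M :=
    (Subgroup.centralizer_le (show (A : Set G) ⊆ P from hAP)).trans hCA
  rw [h1404 p hp P hPp hP1 hPM]
  exact sup_le inf_le_left hCP


/-- a prime `r > p` does not divide `#GL₂(p)`, `p` odd -/
theorem not_dvd_card_GL2 {p r : ℕ} (hp : p.Prime) (hp2 : p ≠ 2) (hr : r.Prime) (hpr : p < r) :
    ¬ r ∣ (p ^ 2 - 1) * (p ^ 2 - p) := by
  obtain ⟨k, rfl⟩ : ∃ k, p = k + 1 := ⟨p - 1, by have := hp.pos; omega⟩
  have hk0 : 0 < k := by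
    rcases Nat.eq_zero_or_pos k with h | h
    · subst h; exact absurd hp (by norm_num)
    · exact h
  have e1 : (k + 1) ^ 2 - 1 = k * (k + 2) := by
    have : (k + 1) ^ 2 = k * (k + 2) + 1 := by ring
    omega
  have e2 : (k + 1) ^ 2 - (k + 1) = (k + 1) * k := by
    have : (k + 1) ^ 2 = (k + 1) * k + (k + 1) := by ring
    omega
  have hk : ¬ r ∣ k := fun h => by
    have := Nat.le_of_dvd hk0 h
    omega
  intro h
  rw [e1, e2] at h
  rcases (Nat.Prime.dvd_mul hr).mp h with h1 | h1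
  · rcases (Nat.Prime.dvd_mul hr).mp h1 with h2 | h2
    · exact hk h2
    · have h3 : r ≤ k + 2 := Nat.le_of_dvd (by omega) h2
      have h4 : r = k + 2 := by omega
      rcases hp.eq_two_or_odd' with h5 | h5
      · exact hp2 h5
      · obtain ⟨j, hj⟩ := h5
        have h6 : 2 ∣ r := ⟨j + 1, by omega⟩
        rcases (Nat.Prime.eq_one_or_self_of_dvd hr 2 h6) with h7 | h7
        · omega
        · omega
  · rcases (Nat.Prime.dvd_mul hr).mp h1 with h2 | h2
    · have := Nat.le_of_dvd (by omega) h2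
      omega
    · exact hk h2

/-- An element `x` normalizing an elementary abelian group `A` of order `p ^ 2` (`p` odd) centralizes `A`
as soon as all prime divisors of its order are at least `p` and the `p`-elements of `⟨x⟩` centralize `A`. -/
theorem centralizes_of_minFac [Finite G] {p : ℕ} [Fact p.Prime] (hp2 : p ≠ 2) (A : Subgroup G)
    (hAe : IsElementaryAbelian p A) (hAcard : Nat.card A = p ^ 2) (x : G)
    (hxA : x ∈ Subgroup.normalizer (A : Set G))
    (hmin : ∀ r : ℕ, r.Prime → r ∣ orderOf x → p ≤ r)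
    (hpart : ∀ u ∈ Subgroup.zpowers x, IsPGroup p (Subgroup.zpowers u) → ∀ a ∈ A, u * a = a * u) :
    ∀ a ∈ A, x * a = a * x := by
  have hp : p.Prime := Fact.out
  have hn0 : orderOf x ≠ 0 := (orderOf_pos x).ne'
  set n := orderOf x with hn
  set c := ordCompl[p] n with hc
  set q := ordProj[p] n with hq
  have hqc : q * c = n := Nat.ordProj_mul_ordCompl_eq_self n p
  -- the `p`-part
  have hu1 : IsPGroup p (Subgroup.zpowers (x ^ c)) := by
    have h1 : (x ^ c) ^ q = 1 := by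
      rw [← pow_mul, mul_comm, hqc, hn, pow_orderOf_eq_one]
    have h2 : orderOf (x ^ c) ∣ p ^ n.factorization p := orderOf_dvd_of_pow_eq_one h1
    obtain ⟨j, -, hj⟩ := (Nat.dvd_prime_pow hp).mp h2
    apply IsPGroup.of_card (n := j)
    rw [Nat.card_zpowers, hj]
  have h1 : ∀ a ∈ A, x ^ c * a = a * x ^ c :=
    hpart _ (Subgroup.pow_mem _ (Subgroup.mem_zpowers x) c) hu1
  -- the `p'`-part
  have hAp : IsPGroup p A := IsPGroup.of_card hAcard
  have hrank : Cfsg.Agent.Lib.Helper24.RankLETwo p A := by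
    intro E hEA _ _
    exact (Subgroup.card_le_of_le hEA).trans_eq hAcard
  have hcop : (orderOf (x ^ q)).Coprime ((p ^ 2 - 1) * (p ^ 2 - p)) := by
    have h3 : (x ^ q) ^ c = 1 := by
      rw [← pow_mul, hqc, hn, pow_orderOf_eq_one]
    apply Nat.Coprime.coprime_dvd_left (orderOf_dvd_of_pow_eq_one h3)
    apply Nat.coprime_of_dvd
    intro r hr hrc
    have hrn : r ∣ n := hrc.trans (Nat.ordCompl_dvd n p)
    have hpr : p ≤ r := hmin r hr hrn
    have hrp : r ≠ p := by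
      rintro rfl
      exact Nat.not_dvd_ordCompl hp hn0 hrc
    exact not_dvd_card_GL2 hp hp2 hr (lt_of_le_of_ne hpr (Ne.symm hrp))
  have h2 : ∀ a ∈ A, x ^ q * a = a * x ^ q := fun a ha =>
    Cfsg.Agent.Lib.Helper24.centralizes_of_rankLETwo_of_coprime_card_GL2 p hp2 (x ^ q) hcop A hAp
      hrank (Subgroup.pow_mem _ hxA q) a ha
  -- Bezout
  have hcop' : Nat.Coprime c q := by
    rw [hq]
    exact Nat.Coprime.pow_right _ (Nat.coprime_ordCompl hp hn0).symm
  obtain ⟨s, t, hst⟩ := (Nat.isCoprime_iff_coprime.mpr hcop')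
  intro a ha
  have hx : x = (x ^ c) ^ s * (x ^ q) ^ t := by
    rw [← zpow_natCast x c, ← zpow_natCast x q, ← zpow_mul, ← zpow_mul, ← zpow_add]
    have : (c : ℤ) * s + (q : ℤ) * t = 1 := by linarith
    rw [this, zpow_one]
  have hc1 : Commute (x ^ c) a := h1 a ha
  have hc2 : Commute (x ^ q) a := h2 a ha
  have : Commute ((x ^ c) ^ s * (x ^ q) ^ t) a := (hc1.zpow_left s).mul_left (hc2.zpow_left t)
  rw [hx]
  exact this


/-- Hall's theorem in the solvable group `M`: a `π'`-subgroup of `M` lies in a complement of the normal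
Hall `π`-subgroup `N`. -/
theorem exists_complIn_ge [Finite G] {π : Set ℕ} {N M K : Subgroup G} (hMs : Group.IsSolvable M)
    (hN : IsPiHallOf π N M) (hKM : K ≤ M)
    (hK : ∀ p : ℕ, p.Prime → p ∣ Nat.card K → p ∉ π) :
    ∃ E₀ : Subgroup G, IsComplIn E₀ N M ∧ K ≤ E₀ := by
  obtain ⟨hNM, hNπ, hNidx⟩ := hN
  set m := N.relIndex M with hm
  set n := Nat.card N with hn
  have hcard : Nat.card M = m * n := by
    rw [mul_comm]
    exact (card_mul_relIndex hNM).symm
  have hmn : m.Coprime n := by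
    apply Nat.coprime_of_dvd
    intro r hr hrm hrn
    exact hNidx r hr (hNπ r hr hrn) hrm
  have hKn : (Nat.card (K.subgroupOf M)).Coprime n := by
    rw [Nat.card_congr (Subgroup.subgroupOfEquivOfLe hKM).toEquiv]
    apply Nat.coprime_of_dvd
    intro r hr hrK hrn
    exact hK r hr hrK (hNπ r hr hrn)
  obtain ⟨H, hHcard, hKH⟩ := Cfsg.Agent.S0005.result (G := ↥M) m n hcard hmn (K.subgroupOf M) hKn
  have hN'card : Nat.card (N.subgroupOf M) = n :=
    Nat.card_congr (Subgroup.subgroupOfEquivOfLe hNM).toEquiv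
  have hcompl : Subgroup.IsComplement' H (N.subgroupOf M) :=
    Subgroup.isComplement'_of_coprime (by rw [hHcard, hN'card, hcard]) (by
      rw [hHcard, hN'card]; exact hmn)
  refine ⟨H.map M.subtype, ⟨Subgroup.map_subtype_le _, hNM, ?_, ?_⟩, ?_⟩
  · apply disjoint_iff.mp
    apply Subgroup.disjoint_of_coprime_natCard
    rw [Subgroup.card_map_of_injective (Subgroup.subtype_injective _), hHcard]
    exact hmn
  · intro g hg
    obtain ⟨⟨⟨a, ha⟩, ⟨b, hb⟩⟩, hab, -⟩ :=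
      (Subgroup.isComplement_iff_existsUnique.mp hcompl) ⟨g, hg⟩
    simp only at hab
    refine ⟨(a : G), ⟨a, ha, rfl⟩, (b : G), Subgroup.mem_subgroupOf.mp hb, ?_⟩
    have := congrArg Subtype.val hab
    simpa using this.symm
  · intro k hk
    exact ⟨⟨k, hKM hk⟩, hKH (by rw [Subgroup.mem_subgroupOf]; exact hk), rfl⟩


/-- a complement to a normal `π`-subgroup has the same `p`-rank as the group, `p ∉ π` -/
theorem not_pRankLE_complement [Finite G] {π : Set ℕ} {E N M : Subgroup G}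
    (hE : IsComplIn E N M) (hNπ : ∀ r : ℕ, r.Prime → r ∣ Nat.card N → r ∈ π) {p : ℕ}
    [Fact p.Prime] (hpπ : p ∉ π) {k : ℕ} (hr : ¬ PRankLE p k ↥M) : ¬ PRankLE p k ↥E := by
  have hp : p.Prime := Fact.out
  intro h
  obtain ⟨S₀⟩ : Nonempty (Sylow p E) := inferInstance
  set S' := (S₀ : Subgroup E).map E.subtype with hS'
  have hS'E : S' ≤ E := Subgroup.map_subtype_le _
  have hpN : ¬ p ∣ Nat.card N := fun hd => hpπ (hNπ p hp hd)
  have hfac : (Nat.card M).factorization p = (Nat.card E).factorization p := by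
    rw [Cfsg.Agent.Lib.Helper23.card_of_isComplIn hE,
      Nat.factorization_mul Nat.card_pos.ne' Nat.card_pos.ne', Finsupp.add_apply,
      Nat.factorization_eq_zero_of_not_dvd hpN, add_zero]
  have hcard : Nat.card S' = p ^ (Nat.card M).factorization p := by
    rw [hfac]
    exact card_map_sylow E S₀
  obtain ⟨P₀, hP₀⟩ := exists_sylow_of_card M S' (hS'E.trans hE.1) hcard
  apply hr
  apply pRankLE_of_sylow_rel M P₀
  rw [hP₀]
  exact pRankLE_of_le hS'E h


/-- **BG 12.10(e)**: a `τ₂(M)`-element `x ≠ 1` of `M` centralizing a non-identity element of `M_σ` has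
`𝓜(C_G(x)) = {M}`. -/
theorem tau2_element_uniq [Finite G] (hG : IsMinSimpleOddOrder G) (M : Subgroup G)
    (hM : IsCoatom M) (h1350 : IsPiHallOf (sigma M) (sigmaCore M) M)
    (hτ : ∀ (q : ℕ) [Fact q.Prime], q ∈ tau2 M → ∀ P : Sylow q M,
      IsMulCommutative (P : Subgroup M))
    (h1417e : ∀ (p : ℕ) [Fact p.Prime], p ∈ tau2 M → ∀ A : Subgroup G,
      (A ≤ M ∧ IsElementaryAbelian p A ∧ Nat.card A = p ^ 2) →
      ∀ Mstar : Subgroup G, IsCoatom Mstar → Mstar ≠ M → A ≤ Mstar → sigmaCore M ⊓ Mstar = ⊥)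
    (h1418a : ∀ E : Subgroup G, IsComplIn E (sigmaCore M) M → ∀ (p : ℕ) [Fact p.Prime],
      p ∈ tau2 M → ∀ A : Subgroup G, (A ≤ E ∧ IsElementaryAbelian p A ∧ Nat.card A = p ^ 2) →
      E ≤ Subgroup.normalizer (A : Set G))
    (x : G) (hxM : x ∈ M) (hx1 : x ≠ 1)
    (hxτ : ∀ p : ℕ, p.Prime → p ∣ orderOf x → p ∈ tau2 M) (hxσ : x ∈ sigmaHat M) :
    Subgroup.centralizer ({x} : Set G) ≤ M ∧
      ∀ L : Subgroup G, IsCoatom L → Subgroup.centralizer ({x} : Set G) ≤ L → L = M := by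
  have hs : IsSimpleGroup G := hG.2.1
  have hnc : ¬ IsMulCommutative G := hG.2.2.1
  have hMs : Group.IsSolvable M := hG.2.2.2 M hM.1
  obtain ⟨-, y, hyσ, hy1, hxy⟩ := hxσ
  have hKM : Subgroup.zpowers x ≤ M := Subgroup.zpowers_le.mpr hxM
  have hK : ∀ p : ℕ, p.Prime → p ∣ Nat.card (Subgroup.zpowers x) → p ∉ sigma M := by
    intro p hp hpd
    rw [Nat.card_zpowers] at hpd
    exact (hxτ p hp hpd).2.1
  obtain ⟨E₀, hE₀, hKE₀⟩ := exists_complIn_ge hMs h1350 hKM hK
  have hxE₀ : x ∈ E₀ := hKE₀ (Subgroup.mem_zpowers x)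
  have hn1 : orderOf x ≠ 1 := fun h => hx1 (orderOf_eq_one_iff.mp h)
  set p := (orderOf x).minFac with hpdef
  have hp : p.Prime := Nat.minFac_prime hn1
  have hpn : p ∣ orderOf x := Nat.minFac_dvd _
  have hpτ : p ∈ tau2 M := hxτ p hp hpn
  have : Fact p.Prime := ⟨hp⟩
  have hp2 : p ≠ 2 := ne_two_of_dvd_of_odd hG.1 (hpn.trans (orderOf_dvd_natCard x))
  have hrE : ¬ PRankLE p 1 ↥E₀ := not_pRankLE_complement hE₀ h1350.2.1 hpτ.2.1 hpτ.2.2.2
  obtain ⟨A, hAE₀, hAe, hAcard⟩ := exists_elemAb_sq_of_not_pRankLE_one E₀ hrE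
  have hAM : A ≤ M := hAE₀.trans hE₀.1
  have hAp : IsPGroup p A := IsPGroup.of_card hAcard
  have hE₀N : E₀ ≤ Subgroup.normalizer (A : Set G) := h1418a E₀ hE₀ p hpτ A ⟨hAE₀, hAe, hAcard⟩
  have hcent : ∀ a ∈ A, x * a = a * x := by
    apply centralizes_of_minFac hp2 A hAe hAcard x (hE₀N hxE₀)
    · intro r hr hrd
      exact Nat.minFac_le_of_dvd hr.two_le hrd
    · intro u hu hup a ha
      have huE₀ : u ∈ E₀ := hKE₀ hu
      have hTp : IsPGroup p (Subgroup.zpowers u ⊔ A : Subgroup G) :=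
        IsPGroup.to_sup_of_normal_right' hup hAp (Subgroup.zpowers_le.mpr (hE₀N huE₀))
      have hTM : Subgroup.zpowers u ⊔ A ≤ M :=
        sup_le (Subgroup.zpowers_le.mpr (hE₀.1 huE₀)) hAM
      obtain ⟨P, hP⟩ := exists_sylow_map_ge hTM hTp
      have hPc := hτ p hpτ P
      obtain ⟨u', hu', rfl⟩ := hP (le_sup_left (a := Subgroup.zpowers u) (Subgroup.mem_zpowers u))
      obtain ⟨a', ha', rfl⟩ := hP (le_sup_right (a := Subgroup.zpowers (M.subtype u')) ha)
      have h := hPc.is_comm.comm ⟨u', hu'⟩ ⟨a', ha'⟩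
      have h' : u' * a' = a' * u' := congrArg Subtype.val h
      rw [← map_mul, h', map_mul]
  have hAC : A ≤ Subgroup.centralizer ({x} : Set G) := by
    intro a ha
    rw [Subgroup.mem_centralizer_singleton_iff]
    exact (hcent a ha).symm
  have hyC : y ∈ Subgroup.centralizer ({x} : Set G) := by
    rw [Subgroup.mem_centralizer_singleton_iff]
    exact hxy.symm
  have huniq : ∀ L : Subgroup G, IsCoatom L → Subgroup.centralizer ({x} : Set G) ≤ L → L = M := by
    intro L hL hCL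
    by_contra hne
    have h1 := h1417e p hpτ A ⟨hAM, hAe, hAcard⟩ L hL hne (hAC.trans hCL)
    have h2 : y ∈ sigmaCore M ⊓ L := ⟨hyσ, hCL hyC⟩
    rw [h1, Subgroup.mem_bot] at h2
    exact hy1 h2
  refine ⟨?_, huniq⟩
  obtain ⟨L, hL, hCL⟩ := exists_isCoatom_ge (centralizer_singleton_ne_top hs hnc hx1)
  rw [← huniq L hL hCL]
  exact hCL


/-- **Statement S1420 (BG Corollary 12.10)** from the statements S1403, S1350, S1404, S1415, S1416,
S1417, S1418 (given as hypotheses for the maximal subgroup `M`). -/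
theorem s1420_of [Finite G] (hG : IsMinSimpleOddOrder G) (M : Subgroup G) (hM : IsCoatom M)
    (E : Subgroup G) (hE : IsComplIn E (sigmaCore M) M)
    (hU : ∀ K : Subgroup G, K ≠ ⊤ → ¬ RankLE 1 K → ¬ RankLE 2 K → InUniqueMaximal K)
    (h1350 : IsPiHallOf (sigma M) (sigmaCore M) M)
    (h1404 : ∀ (p : ℕ) [Fact p.Prime], p ∈ sigma M → ∀ X : Subgroup G, IsPGroup p X → X ≠ ⊥ →
      X ≤ M → Subgroup.normalizer (X : Set G) =
        (M ⊓ Subgroup.normalizer (X : Set G)) ⊔ Subgroup.centralizer (X : Set G))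
    (h1415 : Group.IsNilpotent ↥⁅E, E⁆)
    (h1416 : ∀ (p : ℕ) [Fact p.Prime] (A : Subgroup G),
      (A ≤ M ∧ IsElementaryAbelian p A ∧ Nat.card A = p ^ 2) →
      Subgroup.centralizer (A : Set G) ≤ M)
    (h1417 : ∀ (p : ℕ) [Fact p.Prime], p ∈ tau2 M → ∀ A : Subgroup G,
      (A ≤ M ∧ IsElementaryAbelian p A ∧ Nat.card A = p ^ 2) →
      Group.IsNilpotent (sigmaCore M) ∧
      (∀ P : Sylow p M, IsMulCommutative (P : Subgroup M) ∧
        (A ≤ (P : Subgroup M).map M.subtype →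
          (∀ x ∈ (P : Subgroup M).map M.subtype, x ^ p = 1 ↔ x ∈ A) ∧
          ¬ Subgroup.normalizer ((((P : Subgroup M).map M.subtype : Subgroup G)) : Set G) ≤ M)) ∧
      M ≤ Subgroup.normalizer ((sigmaCore M ⊔ A : Subgroup G) : Set G) ∧
      sigmaCore M ⊓ Subgroup.centralizer (A : Set G) = ⊥ ∧
      (∀ Mstar : Subgroup G, IsCoatom Mstar → Mstar ≠ M → A ≤ Mstar →
        sigmaCore M ⊓ Mstar = ⊥) ∧
      ∃ A₁ : Subgroup G, A₁ ≤ A ∧ Nat.card A₁ = p ∧
        sigmaCore M ⊓ Subgroup.centralizer (A₁ : Set G) = ⊥)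
    (h1418a : ∀ E' : Subgroup G, IsComplIn E' (sigmaCore M) M → ∀ (p : ℕ) [Fact p.Prime],
      p ∈ tau2 M → ∀ A : Subgroup G, (A ≤ E' ∧ IsElementaryAbelian p A ∧ Nat.card A = p ^ 2) →
      E' ≤ Subgroup.normalizer (A : Set G)) :
    (∀ N : Subgroup G, N ≤ M → Group.IsNilpotent N →
        (∀ p : ℕ, p.Prime → p ∣ Nat.card N → p ∉ sigma M) → IsMulCommutative N) ∧
      IsMulCommutative ↥⁅E, E⁆ ∧
      (∀ (p : ℕ) (P : Subgroup G), p ∈ sigma M → IsPGroup p P → P ≤ M → ¬ IsCyclic P →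
        Subgroup.normalizer (P : Set G) ≤ M) ∧
      ∀ x ∈ M, x ≠ 1 → (∀ p : ℕ, p.Prime → p ∣ orderOf x → p ∈ tau2 M) → x ∈ sigmaHat M →
        Subgroup.centralizer ({x} : Set G) ≤ M ∧
          ∀ L : Subgroup G, IsCoatom L → Subgroup.centralizer ({x} : Set G) ≤ L → L = M := by
  have hτ : ∀ (q : ℕ) [Fact q.Prime], q ∈ tau2 M → ∀ P : Sylow q M,
      IsMulCommutative (P : Subgroup M) :=
    tau2_sylow_abelian M (fun p _ hp A hA P => ((h1417 p hp A hA).2.1 P).1)
  refine ⟨?_, ?_, ?_, ?_⟩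
  · intro N hNM hNn hNσ
    exact nilpotent_sigma'_abelian hG hU M hM hτ N hNM hNn hNσ
  · exact commutator_complement_abelian hG hU M hM hτ h1350 E hE h1415
  · intro p P hp hPp hPM hPnc
    exact normalizer_le_of_noncyclic hG M h1404 h1416 p P hp hPp hPM hPnc
  · intro x hxM hx1 hxτ hxσ
    exact tau2_element_uniq hG M hM h1350 hτ
      (fun p _ hp A hA => (h1417 p hp A hA).2.2.2.2.1) h1418a x hxM hx1 hxτ hxσ

end Cfsg.Agent.Lib.Helper97.BGTwelve
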