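import Cfsg.Agent.Lib.Helper97.BGThirteenA
import Cfsg.Agent.Lib.Helper97.BGTwelveCor
import Cfsg.Agent.Lib.Helper22.Solvable

/-!
# Bender–Glauberman Lemma 13.9 (statement S1427), conditional on S1417(a) and S1418

A cyclic Sylow subgroup `S` of a complement `E` of `M_σ` in `M` acts in a prime manner on `M_σ`.
-/

set_option autoImplicit false

namespace Cfsg.Agent.Lib.Helper97.BGThirteen

open scoped Pointwise
open Cfsg Cfsg.Agent.Lib.Helper54 Cfsg.Agent.Lib.Helper97.BGTwelve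
open Cfsg.Agent.Lib.Helper34 (UniquenessThm)

variable {G : Type*} [Group G]

/-- hypothesis: clause (a) of S1417 (BG 12.5(a)): `M_σ` is nilpotent when `τ₂(M) ≠ ∅` -/
def H1417a (G : Type*) [Group G] : Prop :=
  ∀ L : Subgroup G, IsCoatom L → ∀ (q : ℕ) [Fact q.Prime], q ∈ tau2 L → ∀ A : Subgroup G,
    (A ≤ L ∧ IsElementaryAbelian q A ∧ Nat.card A = q ^ 2) → Group.IsNilpotent (sigmaCore L)

/-- hypothesis: two clauses of S1418 (BG 12.6): `A ⊴ E` and `N_G(A) ≰ M` -/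
def H1418 (G : Type*) [Group G] : Prop :=
  ∀ L : Subgroup G, IsCoatom L → ∀ E' : Subgroup G, IsComplIn E' (sigmaCore L) L →
    ∀ (q : ℕ) [Fact q.Prime], q ∈ tau2 L → ∀ A : Subgroup G,
      (A ≤ E' ∧ IsElementaryAbelian q A ∧ Nat.card A = q ^ 2) →
        E' ≤ Subgroup.normalizer (A : Set G) ∧ ¬ Subgroup.normalizer (A : Set G) ≤ L

/-- a cyclic group has `p`-rank at most one -/
theorem pRankLE_one_of_isCyclic {Z : Type*} [Group Z] [Finite Z] [IsCyclic Z] (p : ℕ)
    [Fact p.Prime] : PRankLE p 1 Z := by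
  have hp : p.Prime := Fact.out
  intro A _ hA
  obtain ⟨g, hg⟩ := (inferInstance : IsCyclic A).exists_generator
  have h1 : Nat.card A = orderOf g := (orderOf_eq_card_of_forall_mem_zpowers hg).symm
  have h2 : g ^ p = 1 := by
    apply Subtype.ext
    have := hA (g : Z) g.2
    simpa using this
  rw [h1, pow_one]
  exact Nat.le_of_dvd hp.pos (orderOf_dvd_of_pow_eq_one h2)

/-- If `A` is elementary abelian of order `q ^ 2` and `N_G(A) ≤ L`, then `q ∈ σ(L)`. -/
theorem mem_sigma_of_normalizer_elemAb_le [Finite G] (hG : IsMinSimpleOddOrder G)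
    (hU : UniquenessThm G) (h1418 : H1418 G) (L : Subgroup G) (hL : IsCoatom L) (q : ℕ)
    [Fact q.Prime] (A : Subgroup G) (hAe : IsElementaryAbelian q A) (hAc : Nat.card A = q ^ 2)
    (hN : Subgroup.normalizer (A : Set G) ≤ L) : q ∈ sigma L := by
  have hq : q.Prime := Fact.out
  have hAq : IsPGroup q A := Cfsg.Agent.Lib.Helper34.isPGroup_of_isElementaryAbelian hAe
  have hA1 : A ≠ ⊥ := by
    intro h
    rw [h, Subgroup.card_bot] at hAc
    have := Nat.one_lt_pow (n := 2) (by norm_num) hq.one_lt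
    omega
  rcases mem_sigma_or_tau2_of_normalizer_le hG hU L hL q A hAq hA1 hN with h | h
  · exact h
  · exfalso
    have hAL : A ≤ L := Subgroup.le_normalizer.trans hN
    have hApi : ∀ r : ℕ, r.Prime → r ∣ Nat.card A → r ∉ sigma L := by
      intro r hr hrd
      rw [hAc] at hrd
      have := (Nat.prime_dvd_prime_iff_eq hr hq).mp (hr.dvd_of_dvd_pow hrd)
      rw [this]
      exact h.2.1
    obtain ⟨E₀, hE₀, hAE₀⟩ := exists_complIn_ge (hG.2.2.2 L hL.1)
      (sigmaCore_hall_of hG hU L hL).1 hAL hApi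
    exact (h1418 L hL E₀ hE₀ q h A ⟨hAE₀, hAe, hAc⟩).2 hN

/-- `M`, `Mo` maximal and not conjugate, `r ∉ σ(M)`, `r ∈ σ(Mo) ∪ τ₂(Mo)`, `C ≤ M_σ`, `R` an `r`-group
normalizing `C`, `C R ≤ Mo`.  Then `R` centralizes `C`. -/
theorem comm_of_sigma_or_tau2 [Finite G] (hG : IsMinSimpleOddOrder G) (hU : UniquenessThm G)
    (h1417 : H1417a G) (h1418 : H1418 G) (M Mo : Subgroup G) (hM : IsCoatom M)
    (hMo : IsCoatom Mo) (hnc : ∀ g : G, MulAut.conj g • M ≠ Mo) (r : ℕ) [Fact r.Prime]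
    (hrM : r ∉ sigma M) (hrMo : r ∈ sigma Mo ∨ r ∈ tau2 Mo) (C R : Subgroup G)
    (hCK : C ≤ sigmaCore M) (hRr : IsPGroup r R) (hRC : R ≤ Subgroup.normalizer (C : Set G))
    (hCMo : C ≤ Mo) (hRMo : R ≤ Mo) : ∀ c ∈ C, ∀ s ∈ R, s * c = c * s := by
  have hr : r.Prime := Fact.out
  rcases hrMo with hσ | hτ
  · exact comm_of_mem_sigma hG hU M Mo hM hMo r hrM hσ C R hCK hRr hRC hCMo hRMo
  · obtain ⟨A, hA⟩ := exists_elemAb_sq_of_not_pRankLE_one Mo hτ.2.2.2
    have hnil := h1417 Mo hMo r hτ A hA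
    have hnc' : ∀ g : G, MulAut.conj g • Mo ≠ M := by
      intro g hg
      apply hnc g⁻¹
      rw [← hg, ← mul_smul, ← map_mul, inv_mul_cancel, map_one, one_smul]
    have hdisj := ((sigma_disjoint hG hU Mo M hMo hM hnc').2 hnil).1
    have hDMo : C ⊔ R ≤ Mo := sup_le hCMo hRMo
    have hDpi : ∀ q : ℕ, q.Prime → q ∣ Nat.card (C ⊔ R : Subgroup G) → q ∉ sigma Mo := by
      intro q hq hqd
      have h1 := hqd.trans (Cfsg.Agent.Lib.Helper22.card_sup_dvd_mul_of_le_normalizer hRC)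
      rcases (Nat.Prime.dvd_mul hq).mp h1 with h | h
      · intro hqMo
        exact hdisj q hqMo (sigmaCore_isPi M q hq (h.trans (Subgroup.card_dvd_of_le hCK)))
      · obtain ⟨k, hk⟩ := IsPGroup.iff_card.mp hRr
        rw [hk] at h
        have := (Nat.prime_dvd_prime_iff_eq hq hr).mp (hq.dvd_of_dvd_pow h)
        rw [this]
        exact hτ.2.1
    obtain ⟨Eo, hEo, hDEo⟩ := exists_complIn_ge (hG.2.2.2 Mo hMo.1)
      (sigmaCore_hall_of hG hU Mo hMo).1 hDMo hDpi
    have hrk : ¬ PRankLE r 1 ↥Eo :=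
      not_pRankLE_complement hEo (sigmaCore_isPi Mo) hτ.2.1 hτ.2.2.2
    obtain ⟨Ao, hAoE, hAoe, hAoc⟩ := exists_elemAb_sq_of_not_pRankLE_one Eo hrk
    obtain ⟨hEN, -⟩ := h1418 Mo hMo Eo hEo r hτ Ao ⟨hAoE, hAoe, hAoc⟩
    have hAoq : IsPGroup r Ao := Cfsg.Agent.Lib.Helper34.isPGroup_of_isElementaryAbelian hAoe
    have hAo1 : Ao ≠ ⊥ := by
      intro h
      rw [h, Subgroup.card_bot] at hAoc
      have := Nat.one_lt_pow (n := 2) (by norm_num) hr.one_lt
      omega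
    have hAoT : Ao ≠ ⊤ := ne_top_of_isPGroup hG.2.1 hG.2.2.1 hAoq
    obtain ⟨L, hL, hNL⟩ := exists_isCoatom_ge (normalizer_ne_top_of_simple hG.2.1 hAo1 hAoT)
    have hrL : r ∈ sigma L :=
      mem_sigma_of_normalizer_elemAb_le hG hU h1418 L hL r Ao hAoe hAoc hNL
    exact comm_of_mem_sigma hG hU M L hM hL r hrM hrL C R hCK hRr hRC
      ((le_sup_left.trans hDEo).trans (hEN.trans hNL))
      ((le_sup_right.trans hDEo).trans (hEN.trans hNL))

/-- **Bender–Glauberman 13.9** (statement S1427) from S1403, S1417(a), S1418. -/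
theorem s1427_of [Finite G] (hG : IsMinSimpleOddOrder G) (hU : UniquenessThm G)
    (h1417 : H1417a G) (h1418 : H1418 G) (M : Subgroup G) (hM : IsCoatom M) (E : Subgroup G)
    (hE : IsComplIn E (sigmaCore M) M) (p : ℕ) [Fact p.Prime] (S : Sylow p E)
    (hS1 : (S : Subgroup E) ≠ ⊥) (hSc : IsCyclic (S : Subgroup E)) :
    ∀ x ∈ (S : Subgroup E).map E.subtype, x ≠ 1 →
      sigmaCore M ⊓ Subgroup.centralizer ({x} : Set G) =
        sigmaCore M ⊓ Subgroup.centralizer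
          (((S : Subgroup E).map E.subtype : Subgroup G) : Set G) := by
  have hp : p.Prime := Fact.out
  set S' := (S : Subgroup E).map E.subtype with hS'
  have hS'E : S' ≤ E := Subgroup.map_subtype_le _
  have hS'M : S' ≤ M := hS'E.trans hE.1
  have hS'p : IsPGroup p S' := S.2.map _
  have hS'comm : ∀ a ∈ S', ∀ b ∈ S', a * b = b * a := by
    rintro _ ⟨a, ha, rfl⟩ _ ⟨b, hb, rfl⟩
    let _ := IsCyclic.commGroup (α := ↥(S : Subgroup E))
    have h1 : (⟨a, ha⟩ : ↥(S : Subgroup E)) * ⟨b, hb⟩ = ⟨b, hb⟩ * ⟨a, ha⟩ := mul_comm _ _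
    have h2 := congrArg (fun t : ↥(S : Subgroup E) => E.subtype (t : E)) h1
    simpa using h2
  have h1350 := (sigmaCore_hall_of hG hU M hM).1
  have hpE : p ∣ Nat.card E := by
    have h1 : p ∣ Nat.card (S : Subgroup E) :=
      Cfsg.Agent.Lib.Helper34.dvd_card_of_isPGroup_ne_bot S.2 hS1
    exact h1.trans (Subgroup.card_subgroup_dvd_card _)
  have hpσ : p ∉ sigma M := fun h => not_dvd_card_of_isComplIn hE h1350 hp h hpE
  have hr1 : PRankLE p 1 ↥M := by
    by_contra h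
    apply not_pRankLE_complement hE (sigmaCore_isPi M) hpσ h
    apply pRankLE_of_sylow S
    have := hSc
    exact pRankLE_one_of_isCyclic p
  have hpM : p ∣ Nat.card M := hpE.trans (Subgroup.card_dvd_of_le hE.1)
  have hτ : p ∈ tau1 M ∨ p ∈ tau3 M := by
    by_cases h : p ∣ Nat.card ↥⁅M, M⁆
    · right; exact ⟨hp, hpσ, h, hr1⟩
    · left; exact ⟨hp, hpσ, hpM, h, hr1⟩
  intro x hx hx1
  apply le_antisymm
  swap
  · exact inf_le_inf_left _ (Subgroup.centralizer_le (Set.singleton_subset_iff.mpr hx))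
  -- the subgroup `X` of order `p` of `⟨x⟩`
  have hxo : p ∣ orderOf x := by
    obtain ⟨k, hk⟩ := (IsPGroup.iff_orderOf.mp hS'p) ⟨x, hx⟩
    rw [Subgroup.orderOf_mk] at hk
    rw [hk]
    have : k ≠ 0 := by
      rintro rfl
      rw [pow_zero, orderOf_eq_one_iff] at hk
      exact hx1 hk
    exact dvd_pow_self p this
  set y := x ^ (orderOf x / p) with hy
  have hyo : orderOf y = p := orderOf_pow_orderOf_div (orderOf_pos x).ne' hxo
  set X := Subgroup.zpowers y with hX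
  have hXc : Nat.card X = p := by rw [Nat.card_zpowers, hyo]
  have hyS : y ∈ S' := S'.pow_mem hx _
  have hXS : X ≤ S' := (Subgroup.zpowers_le).mpr hyS
  have hXp : IsPGroup p X := hS'p.to_le hXS
  have hX1 : X ≠ ⊥ := by
    intro h
    rw [h, Subgroup.card_bot] at hXc
    exact hp.one_lt.ne hXc
  have hXT : X ≠ ⊤ := ne_top_of_isPGroup hG.2.1 hG.2.2.1 hXp
  obtain ⟨Mo, hMo, hNMo⟩ := exists_isCoatom_ge (normalizer_ne_top_of_simple hG.2.1 hX1 hXT)
  have hnc := not_conj_of_normalizer_le hG hU M Mo hM p X hXp hX1 (hXS.trans hS'M) hNMo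
    (Or.inr hτ)
  have hpMo := mem_sigma_or_tau2_of_normalizer_le hG hU Mo hMo p X hXp hX1 hNMo
  set C := sigmaCore M ⊓ Subgroup.centralizer (X : Set G) with hC
  have hS'cX : S' ≤ Subgroup.centralizer (X : Set G) := by
    intro s hs
    rw [Subgroup.mem_centralizer_iff]
    intro t ht
    exact hS'comm t (hXS ht) s hs
  have hS'C : S' ≤ Subgroup.normalizer (C : Set G) :=
    le_normalizer_inf (hS'M.trans (le_normalizer_sigmaCore M))
      (hS'cX.trans Subgroup.le_normalizer)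
  have hCMo : C ≤ Mo := inf_le_right.trans ((Subgroup.centralizer_le_normalizer _).trans hNMo)
  have hS'Mo : S' ≤ Mo := (hS'cX.trans (Subgroup.centralizer_le_normalizer _)).trans hNMo
  have key := comm_of_sigma_or_tau2 hG hU h1417 h1418 M Mo hM hMo hnc p hpσ hpMo C S'
    inf_le_left hS'p hS'C hCMo hS'Mo
  intro c hc
  obtain ⟨hcK, hcx⟩ := Subgroup.mem_inf.mp hc
  refine Subgroup.mem_inf.mpr ⟨hcK, ?_⟩
  have hcC : c ∈ C := by
    refine Subgroup.mem_inf.mpr ⟨hcK, ?_⟩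
    rw [Subgroup.mem_centralizer_iff]
    intro t ht
    have hxc : Commute x c := Subgroup.mem_centralizer_iff.mp hcx x rfl
    obtain ⟨k, rfl⟩ := Subgroup.mem_zpowers_iff.mp ht
    exact ((hxc.pow_left _).zpow_left k).eq
  rw [Subgroup.mem_centralizer_iff]
  intro s hs
  exact key c hcC s hs

end Cfsg.Agent.Lib.Helper97.BGThirteen
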