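import Mathlib
import Cfsg.Prelude.Def_OddOrderLocal
import Cfsg.Agent.Lib.Helper30.BGSplit
import Cfsg.Agent.Lib.Helper24.BetaCore
import Cfsg.Agent.Lib.Helper62.PiHall
import Cfsg.Agent.Lib.Helper48.Coprime
import Cfsg.Agent.Lib.Helper68.HallNPC
import Cfsg.Agent.Lib.Helper97.BGTwelveCor
import Cfsg.Agent.Lib.Helper50.Lemma141
import Cfsg.Agent.Lib.Helper52.NilpSub
import Cfsg.Agent.Lib.Helper54.UqRank
import Cfsg.Agent.Lib.Helper30.BGSigmaE
import Cfsg.Agent.Lib.Helper1.Complements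
import Cfsg.Agent.S1350
import Cfsg.Agent.S1403
import Cfsg.Agent.S1414
import Cfsg.Agent.S1415
import Cfsg.Agent.S1417
import Cfsg.Agent.S1418
import Cfsg.Agent.S1423
import Cfsg.Agent.S1427

/-!
# Bender–Glauberman Lemma 13.6 (helper97)

`M` maximal in a minimal simple group of odd order, `E` a complement of `M_σ`, `p ∈ τ₁(M)`,
`P ≤ E` of order `p`, `X ≤ C_{M_σ}(P)` of prime order `q`.  Then `q ∈ β(M)` or `X ≤ (M_σ)'`, so that
Corollary 12.14 (`S1423`) applies: `𝓜(C_G(X)) = {M}` and `𝓜(S) = {M}` for `S ∈ Syl_q(M_σ)`.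

* `τ₂(M) ≠ ∅`, `q ∉ β(M)`: no such `X` exists (`B = C_B(P) × [B,P]` for `B ≤ E` of type `(t,t)`,
  `[B,P] ≤ O_{q'}(M')` centralizes the normal Sylow `q`-subgroup of `M_σ`, `C_B(P)` centralizes `X`
  by `S1428`, and `C_{M_σ}(B) = 1`).
* `τ₂(M) = ∅`, `q ∉ β(M)`: in `M / O_{q'}(M')` the image of `E` is the image of `E₁`, and
  `C_S(E₁) ≤ S'` for the image `S` of `M'`.
-/

set_option autoImplicit false

namespace Cfsg.Agent.Lib.Helper97.BGThirteenSix

open Cfsg
open scoped commutatorElement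

section Abstract

variable {Y : Type*} [Group Y] [Finite Y]

/-- Abstract core of the `τ₂(M) = ∅` case: `N ⊴ Y` a `q'`-group containing the `q'`-elements of `Y'`,
`S` a Sylow `q`-subgroup inside `Y'`, `F` a `q'`-subgroup with `Y = F Y'`.  Then `C_S(F) ≤ S'`. -/
theorem inf_centralizer_le_commutator_sylow [Group.IsSolvable Y] {q : ℕ} [hq : Fact q.Prime]
    (N : Subgroup Y) [hNn : N.Normal] (hNq : (Nat.card N).Coprime q)
    (hN : ∀ x ∈ commutator Y, (orderOf x).Coprime q → x ∈ N)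
    (S : Sylow q Y) (hSD : (S : Subgroup Y) ≤ commutator Y)
    (F : Subgroup Y) (hFq : (Nat.card F).Coprime q)
    (hprod : ∀ y : Y, ∃ f ∈ F, ∃ d ∈ commutator Y, y = f * d) :
    (S : Subgroup Y) ⊓ Subgroup.centralizer (F : Set Y) ≤ ⁅(S : Subgroup Y), (S : Subgroup Y)⁆ := by
  classical
  let π : Y →* Y ⧸ N := QuotientGroup.mk' N
  have hπs : Function.Surjective π := QuotientGroup.mk'_surjective N
  set A : Subgroup (Y ⧸ N) := (commutator Y).map π with hA
  set B : Subgroup (Y ⧸ N) := F.map π with hB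
  have hAn : A.Normal := Subgroup.Normal.map inferInstance π hπs
  -- `A` is a `q`-group
  have hAq : IsPGroup q A := by
    rintro ⟨a, ha⟩
    obtain ⟨d, hd, rfl⟩ := ha
    have hod : orderOf d ≠ 0 := (orderOf_pos d).ne'
    obtain ⟨k, m, hm, hdm⟩ := Nat.exists_eq_pow_mul_and_not_dvd hod q hq.out.ne_one
    refine ⟨k, ?_⟩
    apply Subtype.ext
    show (π d) ^ q ^ k = 1
    rw [← map_pow]
    have hmem : d ^ q ^ k ∈ N := by
      apply hN _ (Subgroup.pow_mem _ hd _)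
      have h1 : orderOf (d ^ q ^ k) = m := by
        rw [orderOf_pow_of_dvd (pow_ne_zero _ hq.out.ne_zero) (hdm ▸ dvd_mul_right _ _), hdm,
          Nat.mul_div_cancel_left _ (pow_pos hq.out.pos _)]
      rw [h1]
      exact ((Nat.Prime.coprime_iff_not_dvd hq.out).mpr hm).symm
    exact (QuotientGroup.eq_one_iff _).mpr hmem
  have hcardB : Nat.card B ∣ Nat.card F := Subgroup.card_map_dvd F π
  have hcop : (Nat.card B).Coprime (Nat.card A) := by
    obtain ⟨n, hn⟩ := IsPGroup.iff_card.mp hAq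
    rw [hn]
    exact Nat.Coprime.pow_right n (Nat.Coprime.coprime_dvd_left hcardB hFq)
  have hAB : A ⊓ B = ⊥ := (Subgroup.disjoint_of_coprime_natCard hcop.symm).eq_bot
  have hprod' : ∀ m : Y ⧸ N, ∃ e ∈ B, ∃ a ∈ A, m = e * a := by
    intro m
    obtain ⟨y, rfl⟩ := hπs m
    obtain ⟨f, hf, d, hd, rfl⟩ := hprod y
    exact ⟨π f, ⟨f, hf, rfl⟩, π d, ⟨d, hd, rfl⟩, map_mul π f d⟩
  have hA' : A ≤ commutator (Y ⧸ N) := by
    rw [hA, commutator_def, commutator_def, Subgroup.map_commutator]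
    exact Subgroup.commutator_mono le_top le_top
  have key := Cfsg.Agent.Lib.Helper30.BGSplit.inf_centralizer_le_commutator A B hAB hprod' hA' hcop
  -- `A` is the image of `S`
  have hAS : A = (S : Subgroup Y).map π := by
    apply le_antisymm
    · have := hAq.le_sylow_of_normal (S.mapSurjective hπs)
      rwa [Sylow.coe_mapSurjective] at this
    · exact Subgroup.map_mono hSD
  intro x hx
  obtain ⟨hxS, hxF⟩ := Subgroup.mem_inf.mp hx
  have h1 : π x ∈ A ⊓ Subgroup.centralizer (B : Set (Y ⧸ N)) := by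
    refine Subgroup.mem_inf.mpr ⟨⟨x, hSD hxS, rfl⟩, ?_⟩
    rw [Subgroup.mem_centralizer_iff]
    rintro _ ⟨f, hf, rfl⟩
    rw [← map_mul, ← map_mul, Subgroup.mem_centralizer_iff.mp hxF f hf]
  have h2 := key h1
  rw [hAS, ← Subgroup.map_commutator] at h2
  obtain ⟨c, hc, hcx⟩ := h2
  have hcS : c ∈ (S : Subgroup Y) := Subgroup.commutator_le_self _ hc
  have h3 : c⁻¹ * x ∈ N := by
    rw [← QuotientGroup.eq_one_iff]
    show π (c⁻¹ * x) = 1
    rw [map_mul, map_inv, hcx, inv_mul_cancel]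
  have h4 : c⁻¹ * x ∈ N ⊓ (S : Subgroup Y) := ⟨h3, Subgroup.mul_mem _ (Subgroup.inv_mem _ hcS) hxS⟩
  have h5 : N ⊓ (S : Subgroup Y) = ⊥ := by
    apply (Subgroup.disjoint_of_coprime_natCard ?_).eq_bot
    obtain ⟨n, hn⟩ := IsPGroup.iff_card.mp S.isPGroup'
    rw [hn]
    exact Nat.Coprime.pow_right n hNq
  rw [h5, Subgroup.mem_bot] at h4
  have : x = c := by
    have := congrArg (fun z => c * z) h4
    simpa using this
  rw [this]; exact hc

end Abstract

section Main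

variable {G : Type*} [Group G]

/-- The literal statement of `S1428` (BG Theorem 13.4) for a fixed `G`, without `hG`. -/
def Stmt1428 (G : Type*) [Group G] : Prop :=
  ∀ (M : Subgroup G), IsCoatom M → ∀ (E : Subgroup G), IsComplIn E (sigmaCore M) M →
    ∀ (p : ℕ), p ∈ tau1 M → ∀ (P : Subgroup G), P ≤ E → Nat.card P = p →
    ∀ (R : Subgroup G), R ≤ E ⊓ Subgroup.centralizer (P : Set G) → (Nat.card R).Prime →
      sigmaCore M ⊓ Subgroup.centralizer (P : Set G) ≤ sigmaCore M ⊓ Subgroup.centralizer (R : Set G)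

variable [Finite G]

omit [Finite G] in
theorem ne_two_of_dvd_card (hG : IsMinSimpleOddOrder G) {r : ℕ} {K : Subgroup G}
    (hr : r ∣ Nat.card K) : r ≠ 2 := by
  rintro rfl
  have h1 : 2 ∣ Nat.card G := hr.trans (Subgroup.card_subgroup_dvd_card K)
  exact (Nat.not_even_iff_odd.mpr hG.1) (even_iff_two_dvd.mpr h1)

/-- From `S1414`: for `q ∉ β(M)` a normal `q'`-subgroup of `M` containing the `q'`-elements of `M'`. -/
theorem exists_normal_qprime (hG : IsMinSimpleOddOrder G) (M : Subgroup G) (hM : IsCoatom M)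
    (q : ℕ) [Fact q.Prime] (hqM : q ∣ Nat.card M) (hqβ : q ∉ beta M) :
    ∃ N : Subgroup ↥M, N.Normal ∧ (Nat.card N).Coprime q ∧
      ∀ x ∈ commutator ↥M, (orderOf x).Coprime q → x ∈ N := by
  have h14 := ((Cfsg.Agent.S1414.result hG M hM).2.2.2.2 q Fact.out hqM hqβ).1
  let e1 : ↥(commutator ↥M) ≃* ↥((commutator ↥M).map M.subtype) :=
    (commutator ↥M).equivMapOfInjective M.subtype M.subtype_injective
  let e2 : ↥((commutator ↥M).map M.subtype) ≃* ↥⁅M, M⁆ :=
    MulEquiv.subgroupCongr (Subgroup.map_subtype_commutator M)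
  have h14' : HasNormalPComplement q ↥(commutator ↥M) :=
    Cfsg.Agent.Lib.Helper68.hasNormalPComplement_of_mulEquiv (e1.trans e2).symm h14
  exact Cfsg.Agent.Lib.Helper24.exists_normal_of_npc q (commutator ↥M) h14'

/-- **BG 13.5** (the part needed): `C_{M_σ}(P)` centralizes the Hall `τ₁(M)`-subgroup `E₁ ≥ P` of `E`. -/
theorem le_centralizer_hall_tau1 (hG : IsMinSimpleOddOrder G) (h1428 : Stmt1428 G)
    (M : Subgroup G) (hM : IsCoatom M) (E : Subgroup G) (hE : IsComplIn E (sigmaCore M) M)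
    (p : ℕ) (hp : p ∈ tau1 M) (P : Subgroup G) (hP : Nat.card P = p)
    (E₁ : Subgroup G) (hE₁ : IsPiHallOf (tau1 M) E₁ E) (hPE₁ : P ≤ E₁) :
    sigmaCore M ⊓ Subgroup.centralizer (P : Set G) ≤ Subgroup.centralizer (E₁ : Set G) := by
  intro x hx
  have hcyc : IsCyclic ↥E₁ := (Cfsg.Agent.S1415.result hG M hM E hE).2.1 E₁ hE₁
  have hcomm : ∀ a ∈ E₁, ∀ b ∈ E₁, a * b = b * a := by
    intro a ha b hb
    obtain ⟨g, hg⟩ := hcyc.exists_generator
    obtain ⟨m, hm⟩ := Subgroup.mem_zpowers_iff.mp (hg ⟨a, ha⟩)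
    obtain ⟨n, hn⟩ := Subgroup.mem_zpowers_iff.mp (hg ⟨b, hb⟩)
    have h1 : (⟨a, ha⟩ : ↥E₁) * ⟨b, hb⟩ = ⟨b, hb⟩ * ⟨a, ha⟩ := by
      rw [← hm, ← hn, ← zpow_add, ← zpow_add, add_comm]
    exact congrArg Subtype.val h1
  have key : E₁ ≤ Subgroup.centralizer ({x} : Set G) := by
    apply Cfsg.Agent.Lib.Helper52.le_of_forall_primePow_order_mem
    intro g hg r k hr hord
    by_cases hk : k = 0
    · have h1 : g = 1 := by
        rw [← orderOf_eq_one_iff, hord, hk, pow_zero]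
      rw [h1]; exact Subgroup.one_mem _
    have : Fact r.Prime := ⟨hr⟩
    have hkpos : 0 < k := Nat.pos_of_ne_zero hk
    have hrdvd : r ∣ Nat.card E₁ := by
      have h1 : orderOf g ∣ Nat.card E₁ := by
        have := orderOf_dvd_natCard (⟨g, hg⟩ : ↥E₁)
        rwa [Subgroup.orderOf_mk] at this
      exact (hord ▸ dvd_pow_self r hk).trans h1
    have hrτ : r ∈ tau1 M := hE₁.2.1 r hr hrdvd
    have hr1 : PRankLE r 1 ↥M := hrτ.2.2.2.2
    have hr2 : r ≠ 2 := ne_two_of_dvd_card hG hrdvd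
    have hgE : g ∈ E := hE₁.1 hg
    set g' : ↥E := ⟨g, hgE⟩ with hg'
    have hZ : IsPGroup r (Subgroup.zpowers g') := by
      apply IsPGroup.of_card (n := k)
      rw [Nat.card_zpowers, hg', Subgroup.orderOf_mk, hord]
    obtain ⟨T, hT⟩ := hZ.exists_le_sylow
    have hTr : PRankLE r 1 ↥(T : Subgroup ↥E) :=
      Cfsg.Agent.Lib.Helper54.pRankLE_of_injective
        ((Subgroup.inclusion hE.1).comp (T : Subgroup ↥E).subtype)
        ((Subgroup.inclusion_injective hE.1).comp (T : Subgroup ↥E).subtype_injective) hr1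
    have hTcyc : IsCyclic (T : Subgroup ↥E) :=
      Cfsg.Agent.Lib.Helper97.BGTwelve.isCyclic_of_pRankLE_one hr2 (T : Subgroup ↥E) T.isPGroup' hTr
    have hg1 : g ≠ 1 := by
      intro h1
      rw [h1, orderOf_one] at hord
      have := Nat.one_lt_pow hk hr.one_lt
      omega
    have hg'T : g' ∈ (T : Subgroup ↥E) := hT (Subgroup.mem_zpowers g')
    have hT1 : (T : Subgroup ↥E) ≠ ⊥ := by
      intro h0
      rw [h0, Subgroup.mem_bot] at hg'T
      exact hg1 (congrArg Subtype.val hg'T)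
    have h27 := Cfsg.Agent.S1427.result hG M hM E hE r T hT1 hTcyc
    have hgT : g ∈ (T : Subgroup ↥E).map E.subtype := ⟨g', hg'T, rfl⟩
    set g₀ : G := g ^ r ^ (k - 1) with hg₀
    have hg₀T : g₀ ∈ (T : Subgroup ↥E).map E.subtype := Subgroup.pow_mem _ hgT _
    have hord₀ : orderOf g₀ = r := by
      rw [hg₀, orderOf_pow_of_dvd (pow_ne_zero _ hr.ne_zero)
        (hord ▸ pow_dvd_pow r (Nat.sub_le k 1)), hord, Nat.pow_div (Nat.sub_le k 1) hr.pos]
      have : k - (k - 1) = 1 := by omega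
      rw [this, pow_one]
    have hg₀1 : g₀ ≠ 1 := by
      intro h1
      rw [h1, orderOf_one] at hord₀
      exact hr.one_lt.ne hord₀
    have hg₀E₁ : g₀ ∈ E₁ := Subgroup.pow_mem _ hg _
    have hRE : Subgroup.zpowers g₀ ≤ E ⊓ Subgroup.centralizer (P : Set G) := by
      rw [Subgroup.zpowers_le]
      refine Subgroup.mem_inf.mpr ⟨hE₁.1 hg₀E₁, ?_⟩
      rw [Subgroup.mem_centralizer_iff]
      intro y hy
      exact hcomm y (hPE₁ hy) g₀ hg₀E₁
    have hRc : (Nat.card (Subgroup.zpowers g₀)).Prime := by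
      rw [Nat.card_zpowers, hord₀]; exact hr
    have h28 := h1428 M hM E hE p hp P (hPE₁.trans hE₁.1) hP (Subgroup.zpowers g₀) hRE hRc hx
    obtain ⟨hxσ, hxR⟩ := Subgroup.mem_inf.mp h28
    have hx0 : x ∈ sigmaCore M ⊓ Subgroup.centralizer ({g₀} : Set G) := by
      refine Subgroup.mem_inf.mpr ⟨hxσ, ?_⟩
      rw [Subgroup.mem_centralizer_iff]
      intro y hy
      rw [Set.mem_singleton_iff] at hy
      rw [hy]
      exact Subgroup.mem_centralizer_iff.mp hxR g₀ (Subgroup.mem_zpowers g₀)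
    rw [h27 g₀ hg₀T hg₀1, ← h27 g hgT hg1] at hx0
    obtain ⟨-, hxg⟩ := Subgroup.mem_inf.mp hx0
    rw [Subgroup.mem_centralizer_iff]
    intro y hy
    rw [Set.mem_singleton_iff] at hy
    rw [hy]
    exact (Subgroup.mem_centralizer_iff.mp hxg g rfl).symm
  rw [Subgroup.mem_centralizer_iff]
  intro e he
  exact (Subgroup.mem_centralizer_iff.mp (key he) x rfl).symm

/-- **Case `τ₂(M) ≠ ∅`**: for `q ∉ β(M)` no element of order `q` of `M_σ` centralizes `P`. -/
theorem false_of_tau2 (hG : IsMinSimpleOddOrder G) (h1428 : Stmt1428 G)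
    (M : Subgroup G) (hM : IsCoatom M) (E : Subgroup G) (hE : IsComplIn E (sigmaCore M) M)
    (p : ℕ) (hp : p ∈ tau1 M) (P : Subgroup G) (hPE : P ≤ E) (hP : Nat.card P = p)
    (t : ℕ) [Fact t.Prime] (ht : t ∈ tau2 M) (q : ℕ) [Fact q.Prime] (hqβ : q ∉ beta M)
    (x : G) (hx : x ∈ sigmaCore M ⊓ Subgroup.centralizer (P : Set G)) (hxq : orderOf x = q) :
    False := by
  have hqp : q.Prime := Fact.out
  have htp : t.Prime := Fact.out
  have hpp : p.Prime := hp.1
  have : Fact p.Prime := ⟨hpp⟩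
  have hHall := (Cfsg.Agent.S1350.result hG M hM).1
  obtain ⟨hxσ, hxP⟩ := Subgroup.mem_inf.mp hx
  have hσM : sigmaCore M ≤ M := Cfsg.Agent.Lib.Helper54.piCoreOf_le _ _
  have hxM : x ∈ M := hσM hxσ
  have hqd : q ∣ Nat.card (sigmaCore M) := by
    have := orderOf_dvd_natCard (⟨x, hxσ⟩ : ↥(sigmaCore M))
    rwa [Subgroup.orderOf_mk, hxq] at this
  have hqσ : q ∈ sigma M := Cfsg.Agent.Lib.Helper54.piCoreOf_isPi (sigma M) M q hqp hqd
  have hqM : q ∣ Nat.card M := hqd.trans (Subgroup.card_dvd_of_le hσM)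
  obtain ⟨N, hNn, hNq, hN⟩ := exists_normal_qprime hG M hM q hqM hqβ
  have htq : t ≠ q := fun h => ht.2.1 (h ▸ hqσ)
  have htp' : t ≠ p := fun h => ht.2.2.2 (h ▸ hp.2.2.2.2)
  obtain ⟨B, hBE, hBe, hBc⟩ :=
    Cfsg.Agent.Lib.Helper97.BGTwelve.exists_elemAb_sq_of_not_pRankLE_one E
      (Cfsg.Agent.Lib.Helper97.BGTwelve.not_pRankLE_complement hE hHall.2.1 ht.2.1 ht.2.2.2)
  have h17 := Cfsg.Agent.S1417.result hG M hM t ht B ⟨hBE.trans hE.1, hBe, hBc⟩
  have hnil := h17.1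
  have hCB := h17.2.2.2.1
  have h18 : E ≤ Subgroup.normalizer (B : Set G) :=
    (Cfsg.Agent.S1418.result hG M hM E hE t ht B ⟨hBE, hBe, hBc⟩).1.1
  have hPp : IsPGroup p P := IsPGroup.of_card (n := 1) (by rw [hP, pow_one])
  have hKp : ¬ p ∣ Nat.card B := by
    rw [hBc]
    intro h
    exact htp' ((Nat.prime_dvd_prime_iff_eq hpp htp).mp (hpp.dvd_of_dvd_pow h)).symm
  have hPB : P ≤ Subgroup.normalizer (B : Set G) := hPE.trans h18
  have hPM : P ≤ M := hPE.trans hE.1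
  have hBM : B ≤ M := hBE.trans hE.1
  have hxB : x ∈ Subgroup.centralizer (B : Set G) := by
    rw [Subgroup.mem_centralizer_iff]
    intro b hb
    obtain ⟨c, hc, w, hw, rfl⟩ :=
      Cfsg.Agent.Lib.Helper48.exists_centralizer_mul_commutator hPp hKp hPB hb
    obtain ⟨hcB, hcP⟩ := Subgroup.mem_inf.mp hc
    -- `x` commutes with `c`
    have hxc : c * x = x * c := by
      by_cases hc1 : c = 1
      · rw [hc1, one_mul, mul_one]
      have hoc : orderOf c = t := orderOf_eq_prime (hBe.2 c hcB) hc1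
      have hRE : Subgroup.zpowers c ≤ E ⊓ Subgroup.centralizer (P : Set G) := by
        rw [Subgroup.zpowers_le]
        exact Subgroup.mem_inf.mpr ⟨hBE hcB, hcP⟩
      have hRc : (Nat.card (Subgroup.zpowers c)).Prime := by
        rw [Nat.card_zpowers, hoc]; exact htp
      have h28 := h1428 M hM E hE p hp P hPE hP (Subgroup.zpowers c) hRE hRc hx
      exact Subgroup.mem_centralizer_iff.mp (Subgroup.mem_inf.mp h28).2 c (Subgroup.mem_zpowers c)
    -- `x` commutes with `w`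
    have hxw : w * x = x * w := by
      have hwB : w ∈ B := Cfsg.Agent.Lib.Helper48.commutator_le_of_le_normalizer hPB hw
      have hwM : w ∈ M := hBM hwB
      have hwD : w ∈ ⁅M, M⁆ := Subgroup.commutator_mono hBM hPM hw
      have hwo : (orderOf w).Coprime q := by
        have h1 : orderOf w ∣ t := orderOf_dvd_of_pow_eq_one (hBe.2 w hwB)
        exact Nat.Coprime.coprime_dvd_left h1 ((Nat.coprime_primes htp hqp).mpr htq)
      have hw'D : (⟨w, hwM⟩ : ↥M) ∈ commutator ↥M := by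
        rw [← Subgroup.map_subtype_commutator] at hwD
        obtain ⟨y, hy, hyw⟩ := hwD
        have : y = ⟨w, hwM⟩ := Subtype.ext hyw
        rwa [← this]
      have hw'N : (⟨w, hwM⟩ : ↥M) ∈ N := by
        apply hN _ hw'D
        rw [Subgroup.orderOf_mk]; exact hwo
      set z : G := w * x * w⁻¹ * x⁻¹ with hz
      have hz'N : (⟨w, hwM⟩ : ↥M) * (⟨x, hxM⟩ * (⟨w, hwM⟩ : ↥M)⁻¹ * (⟨x, hxM⟩ : ↥M)⁻¹) ∈ N :=
        N.mul_mem hw'N (hNn.conj_mem _ (N.inv_mem hw'N) _)
      have hzo : (orderOf z).Coprime (orderOf x) := by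
        have h1 := orderOf_dvd_natCard
          (⟨_, hz'N⟩ : ↥N)
        rw [Subgroup.orderOf_mk, ← Subgroup.orderOf_coe] at h1
        have h2 : ((⟨w, hwM⟩ : ↥M) * (⟨x, hxM⟩ * (⟨w, hwM⟩ : ↥M)⁻¹ * (⟨x, hxM⟩ : ↥M)⁻¹) : ↥M).1
            = z := by
          rw [hz]; simp [mul_assoc]
        rw [h2] at h1
        rw [hxq]
        exact Nat.Coprime.coprime_dvd_left h1 hNq
      have hzσ : z ∈ sigmaCore M := by
        rw [hz]
        exact Subgroup.mul_mem _ (Cfsg.Agent.Lib.Helper50.conj_mem_sigmaCore hwM hxσ)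
          (Subgroup.inv_mem _ hxσ)
      have hzx : z * x = x * z :=
        Cfsg.Agent.Lib.Helper52.comm_of_coprime_of_mem_nilpotent (sigmaCore M) hnil hzσ hxσ hzo
      have h3 : w * x * w⁻¹ = z * x := by rw [hz]; group
      have h4 : (w * x * w⁻¹) ^ q = 1 := by
        rw [conj_pow, ← hxq, pow_orderOf_eq_one]; group
      have h5 : z ^ q = 1 := by
        rw [h3, (show Commute z x from hzx).mul_pow, ← hxq, pow_orderOf_eq_one, mul_one] at h4
        rwa [hxq] at h4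
      have h6 : orderOf z ∣ q := orderOf_dvd_of_pow_eq_one h5
      have h7 : orderOf z = 1 := by
        rw [hxq] at hzo
        exact Nat.Coprime.eq_one_of_dvd hzo h6
      have h8 : z = 1 := orderOf_eq_one_iff.mp h7
      have : w * x * w⁻¹ = x := by rw [h3, h8, one_mul]
      calc w * x = w * x * w⁻¹ * w := by group
        _ = x * w := by rw [this]
    rw [mul_assoc, hxw, ← mul_assoc, hxc, mul_assoc]
  have h9 : x ∈ sigmaCore M ⊓ Subgroup.centralizer (B : Set G) := Subgroup.mem_inf.mpr ⟨hxσ, hxB⟩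
  rw [hCB, Subgroup.mem_bot] at h9
  rw [h9, orderOf_one] at hxq
  exact hqp.one_lt.ne hxq

omit [Finite G] in
theorem mem_commutator_of_val_mem {M : Subgroup G} (y : ↥M) (h : (y : G) ∈ ⁅M, M⁆) :
    y ∈ commutator ↥M := by
  rw [← Subgroup.map_subtype_commutator] at h
  obtain ⟨y', hy', hyy⟩ := h
  have : y' = y := Subtype.ext hyy
  rwa [← this]

/-- **Case `τ₂(M) = ∅`**: `C_{M_σ}(P)`-elements of order `q ∉ β(M)` lie in `(M_σ)'`. -/
theorem le_commutator_of_tau2_empty (hG : IsMinSimpleOddOrder G) (h1428 : Stmt1428 G)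
    (M : Subgroup G) (hM : IsCoatom M) (E : Subgroup G) (hE : IsComplIn E (sigmaCore M) M)
    (hτ₂ : ∀ t : ℕ, t ∉ tau2 M)
    (p : ℕ) (hp : p ∈ tau1 M) (P : Subgroup G) (hPE : P ≤ E) (hP : Nat.card P = p)
    (q : ℕ) [Fact q.Prime] (hqβ : q ∉ beta M) (X : Subgroup G) (hXq : Nat.card X = q)
    (hX : X ≤ sigmaCore M ⊓ Subgroup.centralizer (P : Set G)) :
    X ≤ ⁅sigmaCore M, sigmaCore M⁆ := by
  classical
  have hqp : q.Prime := Fact.out
  have hpp : p.Prime := hp.1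
  have hHall := (Cfsg.Agent.S1350.result hG M hM).1
  have hU3 : Cfsg.Agent.Lib.Helper50.UniqThree G :=
    fun K hK h1 h2 => Cfsg.Agent.S1403.result hG K hK h1 (Or.inl h2)
  have hsolvM : Group.IsSolvable ↥M := hG.2.2.2 M hM.1
  have hsolvE : Group.IsSolvable ↥E :=
    Group.isSolvable_of_isSolvable_injective (f := Subgroup.inclusion hE.1) (Subgroup.inclusion_injective hE.1)
  have hσM : sigmaCore M ≤ M := Cfsg.Agent.Lib.Helper54.piCoreOf_le _ _
  have hXσ : X ≤ sigmaCore M := hX.trans inf_le_left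
  have hXM : X ≤ M := hXσ.trans hσM
  have hqd : q ∣ Nat.card (sigmaCore M) := hXq ▸ Subgroup.card_dvd_of_le hXσ
  have hqσ : q ∈ sigma M := Cfsg.Agent.Lib.Helper54.piCoreOf_isPi (sigma M) M q hqp hqd
  have hqM : q ∣ Nat.card M := hqd.trans (Subgroup.card_dvd_of_le hσM)
  have hqE : ¬ q ∣ Nat.card E :=
    Cfsg.Agent.Lib.Helper97.BGTwelve.not_dvd_card_of_isComplIn hE hHall hqp hqσ
  obtain ⟨N, hNn, hNq, hN⟩ := exists_normal_qprime hG M hM q hqM hqβ
  -- the Hall subgroups `E₁ ≥ P` and `E₃`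
  obtain ⟨E₁, hE₁, hPE₁⟩ := Cfsg.Agent.Lib.Helper62.isPiHallOf_dom (π := tau1 M) hsolvE hPE
    (by
      intro r hr hrd
      rw [hP] at hrd
      rw [(Nat.prime_dvd_prime_iff_eq hr hpp).mp hrd]; exact hp)
  obtain ⟨E₃, hE₃⟩ := Cfsg.Agent.Lib.Helper62.exists_isPiHallOf (tau3 M) E hsolvE
  have hE₃' : E₃ ≤ ⁅E, E⁆ := ((Cfsg.Agent.S1415.result hG M hM E hE).2.2 E₃ hE₃).2.1
  have hE₃D : E₃ ≤ ⁅M, M⁆ := hE₃'.trans (Subgroup.commutator_mono hE.1 hE.1)
  have hcent := le_centralizer_hall_tau1 hG h1428 M hM E hE p hp P hP E₁ hE₁ hPE₁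
  -- `E = E₁ E₃`
  have hEsup : E ≤ E₁ ⊔ E₃ := by
    rw [← Subgroup.relIndex_eq_one]
    by_contra hne
    obtain ⟨r, hr, hrd⟩ := Nat.exists_prime_and_dvd hne
    have hrE : r ∣ Nat.card E := hrd.trans (Subgroup.relIndex_dvd_card _ _)
    have hrM : r ∣ Nat.card M := hrE.trans (Subgroup.card_dvd_of_le hE.1)
    have hrσ : r ∉ sigma M := fun h =>
      Cfsg.Agent.Lib.Helper97.BGTwelve.not_dvd_card_of_isComplIn hE hHall hr h hrE
    have hr2 : PRankLE r 2 ↥M := by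
      by_contra h
      exact hrσ (Cfsg.Agent.Lib.Helper50.alpha_subset_sigma hG hU3 M hM ⟨hr, h⟩)
    have hr1 : PRankLE r 1 ↥M := by
      by_contra h
      exact hτ₂ r ⟨hr, hrσ, hr2, h⟩
    by_cases hrD : r ∣ Nat.card ↥⁅M, M⁆
    · exact hE₃.2.2 r hr ⟨hr, hrσ, hrD, hr1⟩
        (hrd.trans (Subgroup.relIndex_dvd_of_le_left E le_sup_right))
    · exact hE₁.2.2 r hr ⟨hr, hrσ, hrM, hrD, hr1⟩
        (hrd.trans (Subgroup.relIndex_dvd_of_le_left E le_sup_left))
  -- a Sylow `q`-subgroup of `M` containing `X`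
  have hX'q : IsPGroup q (X.subgroupOf M) := by
    apply IsPGroup.of_card (n := 1)
    rw [Cfsg.Agent.Lib.Helper1.card_subgroupOf_of_le hXM, hXq, pow_one]
  obtain ⟨S, hS⟩ := hX'q.exists_le_sylow
  have hSD : (S : Subgroup ↥M) ≤ commutator ↥M := by
    have h1 := Cfsg.Agent.Lib.Helper50.sylow_le_commutator_of_mem_sigma hG hU3 M hM q hqσ S
    rw [← Subgroup.map_subtype_commutator] at h1
    exact (Subgroup.map_le_map_iff_of_injective M.subtype_injective).mp h1
  have hσD : sigmaCore M ≤ ⁅M, M⁆ :=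
    Cfsg.Agent.Lib.Helper30.BGSigmaE.sigmaCore_le_commutator M
      (fun r _ hr T => Cfsg.Agent.Lib.Helper50.sylow_le_commutator_of_mem_sigma hG hU3 M hM r hr T)
  set F : Subgroup ↥M := E₁.subgroupOf M with hF
  have hE₁M : E₁ ≤ M := hE₁.1.trans hE.1
  have hFq : (Nat.card F).Coprime q := by
    rw [hF, Cfsg.Agent.Lib.Helper1.card_subgroupOf_of_le hE₁M]
    apply Nat.Coprime.symm
    rw [Nat.Prime.coprime_iff_not_dvd hqp]
    exact fun h => hqE (h.trans (Subgroup.card_dvd_of_le hE₁.1))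
  have hsup : F ⊔ commutator ↥M = ⊤ := by
    rw [eq_top_iff]
    intro y _
    obtain ⟨a, ha, b, hb, hm⟩ := hE.2.2.2 y y.2
    have hy : y = ⟨a, hE.1 ha⟩ * ⟨b, hσM hb⟩ := Subtype.ext hm
    rw [hy]
    apply Subgroup.mul_mem
    · have h1 : (⟨a, hE.1 ha⟩ : ↥M) ∈ (E₁ ⊔ E₃).subgroupOf M := Subgroup.mem_subgroupOf.mpr (hEsup ha)
      rw [Subgroup.subgroupOf_sup hE₁M (hE₃.1.trans hE.1)] at h1
      have hle : E₃.subgroupOf M ≤ commutator ↥M := fun z hz =>
        mem_commutator_of_val_mem z (hE₃D (Subgroup.mem_subgroupOf.mp hz))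
      exact (sup_le_sup_left hle F) h1
    · exact Subgroup.mem_sup_right (mem_commutator_of_val_mem _ (hσD hb))
  have hprod : ∀ y : ↥M, ∃ f ∈ F, ∃ d ∈ commutator ↥M, y = f * d := by
    intro y
    have hy : y ∈ F ⊔ commutator ↥M := by rw [hsup]; exact Subgroup.mem_top y
    obtain ⟨f, hf, d, hd, hfd⟩ := Subgroup.mem_sup_of_normal_right.mp hy
    exact ⟨f, hf, d, hd, hfd.symm⟩
  have key := inf_centralizer_le_commutator_sylow N hNq hN S hSD F hFq hprod
  -- `S ≤ M_σ`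
  have hidx : ¬ q ∣ (piCore (sigma M) ↥M).index := by
    have h1 := hHall.2.2 q hqp hqσ
    have h2 : (sigmaCore M).subgroupOf M = piCore (sigma M) ↥M :=
      Subgroup.comap_map_eq_self_of_injective M.subtype_injective _
    rwa [Subgroup.relIndex, h2] at h1
  have hSσ : (S : Subgroup ↥M) ≤ piCore (sigma M) ↥M := by
    intro y hy
    apply Cfsg.Agent.Lib.Helper68.mem_of_coprime_index
    obtain ⟨k, hk⟩ := (S.isPGroup' ⟨y, hy⟩)
    have h1 : y ^ q ^ k = 1 := by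
      have := congrArg Subtype.val hk
      simpa using this
    have h2 : orderOf y ∣ q ^ k := orderOf_dvd_of_pow_eq_one h1
    apply Nat.Coprime.coprime_dvd_right h2
    apply Nat.Coprime.pow_right
    apply Nat.Coprime.symm
    exact (Nat.Prime.coprime_iff_not_dvd hqp).mpr hidx
  intro x hxX
  have hxM : x ∈ M := hXM hxX
  have hx'S : (⟨x, hxM⟩ : ↥M) ∈ (S : Subgroup ↥M) := hS (Subgroup.mem_subgroupOf.mpr hxX)
  have hx'F : (⟨x, hxM⟩ : ↥M) ∈ Subgroup.centralizer (F : Set ↥M) := by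
    rw [Subgroup.mem_centralizer_iff]
    intro f hf
    apply Subtype.ext
    have := hcent (hX hxX)
    exact Subgroup.mem_centralizer_iff.mp this (f : G) (Subgroup.mem_subgroupOf.mp hf)
  have h1 := key (Subgroup.mem_inf.mpr ⟨hx'S, hx'F⟩)
  have h2 : (⟨x, hxM⟩ : ↥M) ∈ ⁅piCore (sigma M) ↥M, piCore (sigma M) ↥M⁆ :=
    Subgroup.commutator_mono hSσ hSσ h1
  have h3 : sigmaCore M = (piCore (sigma M) ↥M).map M.subtype := rfl
  rw [h3, ← Subgroup.map_commutator]
  exact ⟨⟨x, hxM⟩, h2, rfl⟩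

/-- **BG 13.6, key step**: `q ∈ β(M)` or `X ≤ (M_σ)'`. -/
theorem mem_beta_or_le_commutator (hG : IsMinSimpleOddOrder G) (h1428 : Stmt1428 G)
    (M : Subgroup G) (hM : IsCoatom M) (E : Subgroup G) (hE : IsComplIn E (sigmaCore M) M)
    (p : ℕ) (hp : p ∈ tau1 M) (P : Subgroup G) (hPE : P ≤ E) (hP : Nat.card P = p)
    (q : ℕ) [Fact q.Prime] (X : Subgroup G) (hXq : Nat.card X = q)
    (hX : X ≤ sigmaCore M ⊓ Subgroup.centralizer (P : Set G)) :
    q ∈ beta M ∨ X ≤ ⁅sigmaCore M, sigmaCore M⁆ := by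
  have hqp : q.Prime := Fact.out
  by_cases hqβ : q ∈ beta M
  · exact Or.inl hqβ
  right
  by_cases hτ : ∃ t, t ∈ tau2 M
  · obtain ⟨t, ht⟩ := hτ
    exfalso
    have : Fact t.Prime := ⟨ht.1⟩
    have hX1 : X ≠ ⊥ := by
      intro h0
      rw [h0, Subgroup.card_bot] at hXq
      exact hqp.one_lt.ne hXq
    obtain ⟨x, hx1⟩ := (Subgroup.ne_bot_iff_exists_ne_one).mp hX1
    have hxo : orderOf (x : G) = q := by
      have h1 : orderOf (x : G) ∣ q := by
        have := orderOf_dvd_natCard x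
        rwa [← Subgroup.orderOf_coe, hXq] at this
      rcases (Nat.dvd_prime hqp).mp h1 with h | h
      · exact absurd (Subtype.ext (orderOf_eq_one_iff.mp h)) hx1
      · exact h
    exact false_of_tau2 hG h1428 M hM E hE p hp P hPE hP t ht q hqβ x (hX x.2) hxo
  · push Not at hτ
    exact le_commutator_of_tau2_empty hG h1428 M hM E hE hτ p hp P hPE hP q hqβ X hXq hX

/-- **BG Lemma 13.6**: for `p ∈ τ₁(M)`, `P ≤ E` of order `p` and `X ≤ C_{M_σ}(P)` of prime order `q`: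
`𝓜(C_G(X)) = {M}`, and every Sylow `q`-subgroup of `M_σ` lies in `M` only. -/
theorem h6_of (hG : IsMinSimpleOddOrder G) (h1428 : Stmt1428 G)
    (M : Subgroup G) (hM : IsCoatom M) (E : Subgroup G) (hE : IsComplIn E (sigmaCore M) M)
    (p : ℕ) (hp : p ∈ tau1 M) (P : Subgroup G) (hPE : P ≤ E) (hP : Nat.card P = p)
    (q : ℕ) [Fact q.Prime] (X : Subgroup G) (hXq : Nat.card X = q)
    (hX : X ≤ sigmaCore M ⊓ Subgroup.centralizer (P : Set G)) :
    (Subgroup.centralizer (X : Set G) ≤ M ∧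
        ∀ L : Subgroup G, IsCoatom L → Subgroup.centralizer (X : Set G) ≤ L → L = M) ∧
      ∀ S : Sylow q ↥(sigmaCore M),
        InUniqueMaximal ((S : Subgroup ↥(sigmaCore M)).map (sigmaCore M).subtype) ∧
          (S : Subgroup ↥(sigmaCore M)).map (sigmaCore M).subtype ≤ M := by
  have hqp : q.Prime := Fact.out
  have h := mem_beta_or_le_commutator hG h1428 M hM E hE p hp P hPE hP q X hXq hX
  have hσM : sigmaCore M ≤ M := Cfsg.Agent.Lib.Helper54.piCoreOf_le _ _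
  have hXσ : X ≤ sigmaCore M := hX.trans inf_le_left
  have hqd : q ∣ Nat.card (sigmaCore M) := hXq ▸ Subgroup.card_dvd_of_le hXσ
  have hqσ : q ∈ sigma M := Cfsg.Agent.Lib.Helper54.piCoreOf_isPi (sigma M) M q hqp hqd
  obtain ⟨S₀⟩ : Nonempty (Sylow q ↥(sigmaCore M)) := inferInstance
  exact ⟨(Cfsg.Agent.S1423.result hG M hM q hqσ X (hXσ.trans hσM) hXq S₀ h).1,
    fun S => (Cfsg.Agent.S1423.result hG M hM q hqσ X (hXσ.trans hσM) hXq S h).2⟩

end Main

end Cfsg.Agent.Lib.Helper97.BGThirteenSix
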