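import Mathlib
import Cfsg.Agent.Lib.Helper24.Omega
import Cfsg.Agent.Lib.Helper21.PrimeAction1
import Cfsg.Agent.Lib.Helper70.BG36Basic
import Cfsg.Agent.S0022

/-!
# A Shult-type lemma for `p`-groups with cyclic centralizer of `R`

`S₁` a `q`-group, `R` of prime order `r` normalizing `S₁` with `S₁ = [S₁, R]`, `S₁ R` acting on the
`p`-group `T` (`p, q, r` distinct, `p, q` odd).  If `C_T(R)` is cyclic and `S₁` centralizes
`Ω₁(C_T(R))`, then `S₁` centralizes `T`.  (Lemma F'' in the proof of Bender–Glauberman 13.4.)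
-/

set_option autoImplicit false

namespace Cfsg.Agent.Lib.Helper97.ShultCyclic

open scoped commutatorElement
open Cfsg.Agent.Lib.Helper24

variable {G : Type*} [Group G]

/-- if the `q`-group `S₁` normalizes the `p`-group `T` and centralizes `[T, S₁]`, it centralizes `T` -/
theorem le_centralizer_of_commutator_le {p q : ℕ} [Fact p.Prime] [Fact q.Prime] (hpq : p ≠ q)
    (T S₁ : Subgroup G) (hT : IsPGroup p T) (hS₁ : IsPGroup q S₁)
    (hST : S₁ ≤ Subgroup.normalizer (T : Set G))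
    (h : ⁅T, S₁⁆ ≤ Subgroup.centralizer (S₁ : Set G)) : T ≤ Subgroup.centralizer (S₁ : Set G) := by
  have hp : p.Prime := Fact.out
  have hq : q.Prime := Fact.out
  intro x hx
  rw [Subgroup.mem_centralizer_iff]
  intro a ha
  have hcop : (orderOf a).Coprime p := by
    obtain ⟨k, hk⟩ := (IsPGroup.iff_orderOf.mp hS₁) ⟨a, ha⟩
    rw [Subgroup.orderOf_mk] at hk
    rw [hk]
    exact Nat.Coprime.pow_left k ((Nat.coprime_primes hq hp).mpr (Ne.symm hpq))
  apply centralizes_of_centralizes_comm p a hcop T hT (hST ha) _ x hx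
  intro y hy
  have hy' : y ∈ ⁅T, S₁⁆ :=
    Subgroup.commutator_mono le_rfl (Subgroup.zpowers_le.mpr ha) hy
  exact Subgroup.mem_centralizer_iff.mp (h hy') a ha

/-- three subgroups lemma: if `S₁` centralizes `frat p T` and `T = [T, S₁]` then `frat p T` is
central in `T` -/
theorem frat_central (p : ℕ) (T S₁ : Subgroup G)
    (hΦ : frat p T ≤ Subgroup.centralizer (S₁ : Set G)) (hTS : T ≤ ⁅T, S₁⁆) :
    ∀ x ∈ T, ∀ c ∈ frat p T, c * x = x * c := by
  have hzc : S₁ ≤ Subgroup.centralizer ((frat p T : Subgroup G) : Set G) := by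
    intro s hs
    rw [Subgroup.mem_centralizer_iff]
    intro c hc
    exact (Subgroup.mem_centralizer_iff.mp (hΦ hc) s hs).symm
  have h1 : ⁅⁅S₁, frat p T⁆, T⁆ = ⊥ := by
    rw [Subgroup.commutator_eq_bot_iff_le_centralizer.mpr hzc, Subgroup.commutator_bot_left]
  have h2 : ⁅⁅frat p T, T⁆, S₁⁆ = ⊥ := by
    rw [eq_bot_iff]
    have hle1 : ⁅frat p T, T⁆ ≤ frat p T :=
      le_trans (Subgroup.commutator_mono (frat_le p T) le_rfl) (comm_le_frat p T)
    have hle2 : ⁅⁅frat p T, T⁆, S₁⁆ ≤ ⁅S₁, frat p T⁆ := by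
      rw [Subgroup.commutator_comm S₁]
      exact Subgroup.commutator_mono hle1 le_rfl
    rw [Subgroup.commutator_eq_bot_iff_le_centralizer.mpr hzc] at hle2
    exact hle2
  have h3 := Subgroup.commutator_commutator_eq_bot_of_rotate h1 h2
  rw [Subgroup.commutator_eq_bot_iff_le_centralizer] at h3
  intro x hx c hc
  exact Subgroup.mem_centralizer_iff.mp (h3 (hTS hx)) c hc

/-- if moreover `p` is odd, then `T` has exponent `p` -/
theorem pow_eq_one_of_frat_central {p : ℕ} [hp : Fact p.Prime] (hp2 : p ≠ 2) (T S₁ : Subgroup G)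
    (hST : S₁ ≤ Subgroup.normalizer (T : Set G))
    (hΦ : frat p T ≤ Subgroup.centralizer (S₁ : Set G)) (hTS : T ≤ ⁅T, S₁⁆) :
    ∀ x ∈ T, x ^ p = 1 := by
  have hcen := frat_central p T S₁ hΦ hTS
  let Ω : Subgroup G :=
    { carrier := {x | x ∈ T ∧ x ^ p = 1}
      one_mem' := ⟨T.one_mem, one_pow _⟩
      mul_mem' := by
        rintro a b ⟨ha, hap⟩ ⟨hb, hbp⟩
        refine ⟨T.mul_mem ha hb, ?_⟩
        rw [mul_pow_of_frat_central p hp2 T hcen a b ha hb, hap, hbp, one_mul]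
      inv_mem' := by
        rintro a ⟨ha, hap⟩
        exact ⟨T.inv_mem ha, by rw [inv_pow, hap, inv_one]⟩ }
  have hle : ⁅T, S₁⁆ ≤ Ω := by
    rw [Subgroup.commutator_le]
    intro t ht s hs
    have hsts : s * t⁻¹ * s⁻¹ ∈ T := (Subgroup.mem_normalizer_iff.mp (hST hs) t⁻¹).mp (T.inv_mem ht)
    have e : ⁅t, s⁆ = t * (s * t⁻¹ * s⁻¹) := by rw [commutatorElement_def]; group
    refine ⟨by rw [e]; exact T.mul_mem ht hsts, ?_⟩
    rw [e, mul_pow_of_frat_central p hp2 T hcen _ _ ht hsts, conj_pow, inv_pow]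
    have hc : s * (t ^ p)⁻¹ = (t ^ p)⁻¹ * s := by
      have h1 := Subgroup.mem_centralizer_iff.mp (hΦ (pow_mem_frat p T ht)) s hs
      -- h1 : s * t ^ p = t ^ p * s
      calc s * (t ^ p)⁻¹ = (t ^ p)⁻¹ * (t ^ p * s) * (t ^ p)⁻¹ := by group
        _ = (t ^ p)⁻¹ * (s * t ^ p) * (t ^ p)⁻¹ := by rw [h1]
        _ = (t ^ p)⁻¹ * s := by group
    rw [hc]
    group
  intro x hx
  exact (hle (hTS hx)).2

/-- transfer of `H ≤ ⁅H, K⁆` to a subgroup `N` containing `H` and `K` -/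
theorem subgroupOf_le_commutator {H K N : Subgroup G} (hHN : H ≤ N) (hKN : K ≤ N)
    (h : H ≤ ⁅H, K⁆) : H.subgroupOf N ≤ ⁅H.subgroupOf N, K.subgroupOf N⁆ := by
  intro x hx
  have hx' : (x : G) ∈ ⁅H, K⁆ := h (Subgroup.mem_subgroupOf.mp hx)
  have e : (⁅H.subgroupOf N, K.subgroupOf N⁆).map N.subtype = ⁅H, K⁆ := by
    rw [Subgroup.map_commutator, Subgroup.map_subgroupOf_eq_of_le hHN,
      Subgroup.map_subgroupOf_eq_of_le hKN]
  rw [← e] at hx'
  obtain ⟨y, hy, hyx⟩ := hx'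
  have : y = x := Subtype.ext hyx
  rwa [← this]

/-- The quotient step: in `T / frat p T` the group `R` has a nontrivial fixed point (Shult), and
`S₁` has none. -/
theorem quotient_facts [Finite G] {p q r : ℕ} [hp : Fact p.Prime] [hq : Fact q.Prime]
    [hr : Fact r.Prime] (hq2 : q ≠ 2) (hpq : p ≠ q) (hpr : p ≠ r) (hqr : q ≠ r)
    (T S₁ R : Subgroup G) (hT : IsPGroup p T) (hT1 : T ≠ ⊥) (hS₁ : IsPGroup q S₁)
    (hR : Nat.card R = r) (hRS : R ≤ Subgroup.normalizer (S₁ : Set G))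
    (hST : S₁ ≤ Subgroup.normalizer (T : Set G)) (hRT : R ≤ Subgroup.normalizer (T : Set G))
    (hgen : S₁ ≤ ⁅S₁, R⁆) (hTS : T ≤ ⁅T, S₁⁆) :
    (∃ c ∈ T ⊓ Subgroup.centralizer (R : Set G), c ∉ frat p T) ∧
      T ⊓ Subgroup.centralizer (S₁ : Set G) ≤ frat p T := by
  classical
  set N := Subgroup.normalizer (T : Set G) with hN
  have hTN : T ≤ N := Subgroup.le_normalizer
  have hΦN : N ≤ Subgroup.normalizer ((frat p T : Subgroup G) : Set G) :=
    normalizer_le_normalizer_frat p T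
  have hΦT : frat p T ≤ T := frat_le p T
  set T' := T.subgroupOf N with hT'
  set S' := S₁.subgroupOf N with hS'
  set R' := R.subgroupOf N with hR'
  set Φ' := (frat p T).subgroupOf N with hΦ'
  have hT'n : T'.Normal := Subgroup.normal_in_normalizer
  have hΦ'n : Φ'.Normal := Subgroup.normal_subgroupOf_of_le_normalizer hΦN
  set ρ := QuotientGroup.mk' Φ' with hρ
  have hρs : Function.Surjective ρ := QuotientGroup.mk'_surjective _
  have hρ1 : ∀ g : ↥N, ρ g = 1 ↔ (g : G) ∈ frat p T := by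
    intro g
    rw [← MonoidHom.mem_ker, QuotientGroup.ker_mk']
    exact Subgroup.mem_subgroupOf
  set P := T'.map ρ with hP
  set Q := S'.map ρ with hQ
  set X := R'.map ρ with hX
  have hPn : P.Normal := Subgroup.Normal.map hT'n ρ hρs
  have hT'p : IsPGroup p T' := hT.comap_subtype
  have hS'q : IsPGroup q S' := hS₁.comap_subtype
  have hPp : IsPGroup p P := hT'p.map ρ
  have hQq : IsPGroup q Q := hS'q.map ρ
  have hR'card : Nat.card R' = r := by
    rw [← hR]
    exact Nat.card_congr (Subgroup.subgroupOfEquivOfLe hRT).toEquiv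
  -- `X` has order `r`
  have hXr : Nat.card X = r := by
    have hdvd : Nat.card X ∣ r := by
      have := Subgroup.card_map_dvd (H := R') ρ
      rwa [hR'card] at this
    rcases (Nat.dvd_prime hr.out).mp hdvd with h1 | h1
    · exfalso
      have hbot : X = ⊥ := Subgroup.card_eq_one.mp h1
      have hRT' : R ≤ T := by
        intro x hx
        apply hΦT
        have hx' : (⟨x, hRT hx⟩ : ↥N) ∈ R' := Subgroup.mem_subgroupOf.mpr hx
        have : ρ ⟨x, hRT hx⟩ ∈ X := Subgroup.mem_map_of_mem ρ hx'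
        rw [hbot, Subgroup.mem_bot, hρ1] at this
        exact this
      have hRp : IsPGroup p R := hT.to_le hRT'
      obtain ⟨k, hk⟩ := IsPGroup.iff_card.mp hRp
      rw [hR] at hk
      have : r ∣ p ^ k := by rw [← hk]
      have := (Nat.prime_dvd_prime_iff_eq hr.out hp.out).mp (hr.out.dvd_of_dvd_pow this)
      exact hpr this.symm
    · exact h1
  have hR'S' : R' ≤ Subgroup.normalizer (S' : Set ↥N) := by
    intro x hx
    rw [Subgroup.mem_normalizer_iff]
    intro h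
    have := Subgroup.mem_normalizer_iff.mp (hRS (Subgroup.mem_subgroupOf.mp hx)) (h : G)
    exact this
  have hXQ : X ≤ Subgroup.normalizer (Q : Set (↥N ⧸ Φ')) :=
    (Subgroup.map_mono hR'S').trans (Subgroup.le_normalizer_map ρ)
  have hPab : ∀ a ∈ P, ∀ b ∈ P, a * b = b * a := by
    rintro _ ⟨a, ha, rfl⟩ _ ⟨b, hb, rfl⟩
    rw [← map_mul, ← map_mul]
    show ((a * b : ↥N) : ↥N ⧸ Φ') = ((b * a : ↥N) : ↥N ⧸ Φ')
    rw [QuotientGroup.eq]
    show (((a * b)⁻¹ * (b * a) : ↥N) : G) ∈ frat p T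
    have ha' : (a : G) ∈ T := Subgroup.mem_subgroupOf.mp ha
    have hb' : (b : G) ∈ T := Subgroup.mem_subgroupOf.mp hb
    have e : (((a * b)⁻¹ * (b * a) : ↥N) : G) = ⁅(b : G)⁻¹, (a : G)⁻¹⁆ := by
      rw [commutatorElement_def]
      simp only [Subgroup.coe_mul, Subgroup.coe_inv]
      group
    rw [e]
    exact comm_mem_frat p T (T.inv_mem hb') (T.inv_mem ha')
  have hPtop : Subgroup.normalizer (P : Set (↥N ⧸ Φ')) = ⊤ := Subgroup.normalizer_eq_top _
  have hcopQP : (Nat.card Q).Coprime (Nat.card P) := by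
    obtain ⟨a, ha⟩ := IsPGroup.iff_card.mp hQq
    obtain ⟨b, hb⟩ := IsPGroup.iff_card.mp hPp
    rw [ha, hb]
    exact Nat.Coprime.pow a b ((Nat.coprime_primes hq.out hp.out).mpr (Ne.symm hpq))
  have hT'comm : T' ≤ ⁅T', S'⁆ := subgroupOf_le_commutator hTN hST hTS
  have hS'comm : S' ≤ ⁅S', R'⁆ := subgroupOf_le_commutator hST hRT hgen
  have hPcomm : P ≤ ⁅P, Q⁆ := by
    rw [hP, hQ, ← Subgroup.map_commutator]
    exact Subgroup.map_mono hT'comm
  have hQcomm : Q ≤ ⁅Q, X⁆ := by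
    rw [hQ, hX, ← Subgroup.map_commutator]
    exact Subgroup.map_mono hS'comm
  have hPQ : P ⊓ Subgroup.centralizer (Q : Set (↥N ⧸ Φ')) = ⊥ := by
    have h1 := Cfsg.Agent.Lib.Helper70.BG36.commutator_inf_centralizer_eq_bot P Q hPab
      (by rw [hPtop]; exact le_top) hcopQP
    rw [eq_bot_iff, ← h1]
    exact inf_le_inf_right _ hPcomm
  have hmemΦ : ∀ t : G, ∀ ht : t ∈ T, ρ ⟨t, hTN ht⟩ = 1 → t ∈ frat p T := by
    intro t ht h
    exact (hρ1 _).mp h
  constructor
  · by_contra hcon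
    push Not at hcon
    -- no fixed points of `X` on `P`
    have hPX : P ⊓ Subgroup.centralizer (X : Set (↥N ⧸ Φ')) = ⊥ := by
      rw [eq_bot_iff]
      rintro _ ⟨⟨t, ht, rfl⟩, hcent⟩
      rw [Subgroup.mem_bot, hρ1]
      have ht' : (t : G) ∈ T := Subgroup.mem_subgroupOf.mp ht
      have hRp : IsPGroup r R := IsPGroup.of_card (n := 1) (by rw [hR, pow_one])
      have hcop : (Nat.card R).Coprime (Nat.card T) := by
        obtain ⟨k, hk⟩ := IsPGroup.iff_card.mp hT
        rw [hR, hk]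
        exact Nat.Coprime.pow_right k ((Nat.coprime_primes hr.out hp.out).mpr (Ne.symm hpr))
      have hRsolv : Group.IsSolvable R := by
        have : Group.IsNilpotent R := hRp.isNilpotent
        infer_instance
      obtain ⟨c, hc, htc⟩ := Cfsg.Agent.S0022.result R T hRT hcop (Or.inl hRsolv) (frat p T) hΦT
        (le_normalizer_frat p T) (hRT.trans hΦN) (t : G) ht' (by
          intro a ha
          have ha' : (⟨a, hRT ha⟩ : ↥N) ∈ R' := Subgroup.mem_subgroupOf.mpr ha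
          have h1 := Subgroup.mem_centralizer_iff.mp hcent (ρ ⟨a, hRT ha⟩)
            (Subgroup.mem_map_of_mem ρ ha')
          -- h1 : ρ a * ρ t = ρ t * ρ a
          have h2 : ρ (⟨a, hRT ha⟩ * t * ⟨a, hRT ha⟩⁻¹ * t⁻¹) = 1 := by
            rw [map_mul, map_mul, map_mul, map_inv, map_inv, h1]
            group
          exact (hρ1 _).mp h2)
      have hcΦ := hcon c hc
      have : (t : G) = c * ((t : G)⁻¹ * c)⁻¹ := by group
      rw [this]
      exact (frat p T).mul_mem hcΦ ((frat p T).inv_mem htc)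
    have hsh := Cfsg.Agent.Lib.Helper21.comm_mem_centralizer_of_shult hpq hpr hqr hq2 P Q X hPp hQq
      hXr hXQ hPX
    have hQXc : ⁅Q, X⁆ ≤ Subgroup.centralizer (P : Set (↥N ⧸ Φ')) := by
      rw [Subgroup.commutator_le]
      intro g hg x hx
      have := hsh x hx g⁻¹ (Q.inv_mem hg)
      have e : ⁅g, x⁆ = (g⁻¹)⁻¹ * (x * g⁻¹ * x⁻¹) := by rw [commutatorElement_def]; group
      rw [e]
      exact this
    have hQc : Q ≤ Subgroup.centralizer (P : Set (↥N ⧸ Φ')) := hQcomm.trans hQXc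
    have hPbot : P = ⊥ := by
      rw [eq_bot_iff]
      refine hPcomm.trans ?_
      rw [Subgroup.commutator_comm, Subgroup.commutator_eq_bot_iff_le_centralizer.mpr hQc]
    apply frat_ne p T hT hT1
    apply le_antisymm hΦT
    intro t ht
    apply hmemΦ t ht
    have : ρ ⟨t, hTN ht⟩ ∈ P := Subgroup.mem_map_of_mem ρ (Subgroup.mem_subgroupOf.mpr ht)
    rw [hPbot, Subgroup.mem_bot] at this
    exact this
  · intro c hc
    obtain ⟨hcT, hcS⟩ := Subgroup.mem_inf.mp hc
    apply hmemΦ c hcT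
    have h1 : ρ ⟨c, hTN hcT⟩ ∈ P := Subgroup.mem_map_of_mem ρ (Subgroup.mem_subgroupOf.mpr hcT)
    have h2 : ρ ⟨c, hTN hcT⟩ ∈ Subgroup.centralizer (Q : Set (↥N ⧸ Φ')) := by
      rw [Subgroup.mem_centralizer_iff]
      rintro _ ⟨s, hs, rfl⟩
      rw [← map_mul, ← map_mul]
      congr 1
      apply Subtype.ext
      exact Subgroup.mem_centralizer_iff.mp hcS (s : G) (Subgroup.mem_subgroupOf.mp hs)
    have : ρ ⟨c, hTN hcT⟩ ∈ P ⊓ Subgroup.centralizer (Q : Set (↥N ⧸ Φ')) := ⟨h1, h2⟩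
    rw [hPQ, Subgroup.mem_bot] at this
    exact this

theorem isCyclic_of_le' {A B : Subgroup G} (h : A ≤ B) (hB : IsCyclic B) : IsCyclic A := by
  have : IsCyclic (A.subgroupOf B) := Subgroup.isCyclic _
  exact isCyclic_of_surjective (Subgroup.subgroupOfEquivOfLe h).toMonoidHom
    (Subgroup.subgroupOfEquivOfLe h).surjective

theorem le_normalizer_commutator {A H K : Subgroup G}
    (hH : A ≤ Subgroup.normalizer (H : Set G)) (hK : A ≤ Subgroup.normalizer (K : Set G)) :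
    A ≤ Subgroup.normalizer ((⁅H, K⁆ : Subgroup G) : Set G) := by
  intro a ha
  have h1 := hH ha
  have h2 := hK ha
  rw [Subgroup.mem_normalizer_iff_map_conj_eq] at h1 h2 ⊢
  rw [Subgroup.map_commutator, h1, h2]

theorem centralizes_aux [Finite G] {p q r : ℕ} [hp : Fact p.Prime] [hq : Fact q.Prime]
    [hr : Fact r.Prime] (hp2 : p ≠ 2) (hq2 : q ≠ 2) (hpq : p ≠ q) (hpr : p ≠ r) (hqr : q ≠ r)
    (S₁ R : Subgroup G) (hS₁ : IsPGroup q S₁) (hR : Nat.card R = r)
    (hRS : R ≤ Subgroup.normalizer (S₁ : Set G)) (hgen : S₁ ≤ ⁅S₁, R⁆) :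
    ∀ (n : ℕ) (T : Subgroup G), Nat.card T ≤ n → IsPGroup p T →
      S₁ ≤ Subgroup.normalizer (T : Set G) → R ≤ Subgroup.normalizer (T : Set G) →
      IsCyclic ↥(T ⊓ Subgroup.centralizer (R : Set G)) →
      (∀ x ∈ T ⊓ Subgroup.centralizer (R : Set G), x ^ p = 1 →
        x ∈ Subgroup.centralizer (S₁ : Set G)) →
      T ≤ Subgroup.centralizer (S₁ : Set G) := by
  intro n
  induction n with
  | zero =>
    intro T hcard
    have := Nat.card_pos (α := T)
    omega
  | succ n ih =>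
    intro T hcard hT hST hRT hcyc hΩ
    by_cases hbot : T = ⊥
    · rw [hbot]; exact bot_le
    have hDT : ⁅T, S₁⁆ ≤ T := Subgroup.le_normalizer_iff_commutator_le_left.mp hST
    have hsub : ∀ T' : Subgroup G, T' ≤ T → T' ≠ T →
        S₁ ≤ Subgroup.normalizer (T' : Set G) → R ≤ Subgroup.normalizer (T' : Set G) →
        T' ≤ Subgroup.centralizer (S₁ : Set G) := by
      intro T' hle hne hS' hR'
      have hc : Nat.card T' ≤ n := by
        have := card_lt_of_le_of_ne hle hne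
        omega
      have hle' : T' ⊓ Subgroup.centralizer (R : Set G) ≤ T ⊓ Subgroup.centralizer (R : Set G) :=
        inf_le_inf_right _ hle
      exact ih T' hc (hT.to_le hle) hS' hR' (isCyclic_of_le' hle' hcyc)
        (fun x hx hxp => hΩ x (hle' hx) hxp)
    by_cases hD : ⁅T, S₁⁆ = T
    · exfalso
      have hTS : T ≤ ⁅T, S₁⁆ := hD.ge
      have hΦ : frat p T ≤ Subgroup.centralizer (S₁ : Set G) :=
        hsub (frat p T) (frat_le p T) (frat_ne p T hT hbot)
          (hST.trans (normalizer_le_normalizer_frat p T))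
          (hRT.trans (normalizer_le_normalizer_frat p T))
      have hexp := pow_eq_one_of_frat_central hp2 T S₁ hST hΦ hTS
      obtain ⟨⟨c, hc, hcΦ⟩, hle⟩ := quotient_facts hq2 hpq hpr hqr T S₁ R hT hbot hS₁ hR hRS hST hRT
        hgen hTS
      have hcT : c ∈ T := (Subgroup.mem_inf.mp hc).1
      have hcS : c ∈ Subgroup.centralizer (S₁ : Set G) := hΩ c hc (hexp c hcT)
      exact hcΦ (hle (Subgroup.mem_inf.mpr ⟨hcT, hcS⟩))
    · have hDc : ⁅T, S₁⁆ ≤ Subgroup.centralizer (S₁ : Set G) :=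
        hsub _ hDT hD (Subgroup.normalizer_commutator_ge_right T S₁)
          (le_normalizer_commutator hRT hRS)
      exact le_centralizer_of_commutator_le hpq T S₁ hT hS₁ hST hDc

/-- **Lemma F''.** `S₁` a `q`-group, `R` of prime order `r` normalizing `S₁`, `S₁ = [S₁, R]`; `S₁` and
`R` normalize the `p`-group `T`; `p, q, r` distinct, `p, q` odd.  If `C_T(R)` is cyclic and `S₁`
centralizes the elements of order dividing `p` of `C_T(R)`, then `S₁` centralizes `T`. -/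
theorem centralizes_of_cyclic_centralizer [Finite G] {p q r : ℕ} [Fact p.Prime] [Fact q.Prime]
    [Fact r.Prime] (hp2 : p ≠ 2) (hq2 : q ≠ 2) (hpq : p ≠ q) (hpr : p ≠ r) (hqr : q ≠ r)
    (T S₁ R : Subgroup G) (hT : IsPGroup p T) (hS₁ : IsPGroup q S₁) (hR : Nat.card R = r)
    (hRS : R ≤ Subgroup.normalizer (S₁ : Set G)) (hST : S₁ ≤ Subgroup.normalizer (T : Set G))
    (hRT : R ≤ Subgroup.normalizer (T : Set G)) (hgen : S₁ ≤ ⁅S₁, R⁆)
    (hcyc : IsCyclic ↥(T ⊓ Subgroup.centralizer (R : Set G)))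
    (hΩ : ∀ x ∈ T ⊓ Subgroup.centralizer (R : Set G), x ^ p = 1 →
      x ∈ Subgroup.centralizer (S₁ : Set G)) :
    T ≤ Subgroup.centralizer (S₁ : Set G) :=
  centralizes_aux hp2 hq2 hpq hpr hqr S₁ R hS₁ hR hRS hgen _ T le_rfl hT hST hRT hcyc hΩ

/-- variant with `S₁ = [S₁, R]` stated through subgroups closed under the commutators
`s⁻¹ (x s x⁻¹)` -/
theorem centralizes_of_cyclic_centralizer' [Finite G] {p q r : ℕ} [Fact p.Prime] [Fact q.Prime]
    [Fact r.Prime] (hp2 : p ≠ 2) (hq2 : q ≠ 2) (hpq : p ≠ q) (hpr : p ≠ r) (hqr : q ≠ r)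
    (T S₁ R : Subgroup G) (hT : IsPGroup p T) (hS₁ : IsPGroup q S₁) (hR : Nat.card R = r)
    (hRS : R ≤ Subgroup.normalizer (S₁ : Set G)) (hST : S₁ ≤ Subgroup.normalizer (T : Set G))
    (hRT : R ≤ Subgroup.normalizer (T : Set G))
    (hgen : ∀ K : Subgroup G, (∀ s ∈ S₁, ∀ x ∈ R, s⁻¹ * (x * s * x⁻¹) ∈ K) → K ≤ S₁ → S₁ ≤ K)
    (hcyc : IsCyclic ↥(T ⊓ Subgroup.centralizer (R : Set G)))
    (hΩ : ∀ x ∈ T ⊓ Subgroup.centralizer (R : Set G), x ^ p = 1 →
      x ∈ Subgroup.centralizer (S₁ : Set G)) :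
    T ≤ Subgroup.centralizer (S₁ : Set G) := by
  apply centralizes_of_cyclic_centralizer hp2 hq2 hpq hpr hqr T S₁ R hT hS₁ hR hRS hST hRT _ hcyc hΩ
  apply hgen
  · intro s hs x hx
    have e : s⁻¹ * (x * s * x⁻¹) = ⁅s⁻¹, x⁆ := by rw [commutatorElement_def]; group
    rw [e]
    exact Subgroup.commutator_mem_commutator (S₁.inv_mem hs) hx
  · exact Subgroup.le_normalizer_iff_commutator_le_left.mp hRS

end Cfsg.Agent.Lib.Helper97.ShultCyclic
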