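import Cfsg.Agent.Lib.Helper97.BGFifteenThreeA
import Cfsg.Agent.Lib.Helper97.BGTwelveCor
import Cfsg.Agent.Lib.Helper54.BGFourteenThree
import Cfsg.Agent.Lib.Helper54.BGElevenA
import Cfsg.Agent.Lib.Helper55.BGThirteenG
import Cfsg.Agent.Lib.Helper30.BGSigmaE
import Cfsg.Agent.Lib.Helper21.BGTwelveK
import Cfsg.Agent.S1417
import Cfsg.Agent.S1418
import Cfsg.Agent.S1419

/-!
# B&G Lemma 15.3(a) (`cent_Hall_sigma_sdprod`), conditional on Theorem 14.2  (helper97)

`H ≠ 1` a Hall subgroup of `M_σ`.  Then `C_M(H) = C_{M_σ}(H) X` with `X` a cyclic `τ₂(M)`-group.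
-/

set_option autoImplicit false

namespace Cfsg.Agent.Lib.Helper97.BGFifteenThree

open Cfsg Pointwise

variable {G : Type*} [Group G]

/-- A Hall subgroup `H` of `N` with `p ∣ |H|` contains a Sylow `p`-subgroup of `N`. -/
theorem exists_sylow_map_le [Finite G] {N H : Subgroup G} (hHN : H ≤ N)
    (hcop : (Nat.card H).Coprime (H.relIndex N)) {p : ℕ} [hp : Fact p.Prime]
    (hpH : p ∣ Nat.card H) : ∃ S : Sylow p ↥N, (S : Subgroup N).map N.subtype ≤ H := by
  let T : Sylow p H := default
  set T' : Subgroup G := (T : Subgroup H).map H.subtype with hT'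
  have hT'H : T' ≤ H := Subgroup.map_subtype_le _
  have hcardT' : Nat.card T' = p ^ (Nat.card H).factorization p := by
    rw [hT', Subgroup.card_map_of_injective H.subtype_injective]
    exact T.card_eq_multiplicity
  have hcardN : Nat.card H * H.relIndex N = Nat.card N :=
    Cfsg.Agent.Lib.Helper54.card_mul_relIndex hHN
  have hpr : ¬ p ∣ H.relIndex N := by
    intro h
    have := Nat.dvd_gcd hpH h
    rw [hcop] at this
    exact hp.out.one_lt.ne' (Nat.dvd_one.mp this)
  have hr0 : H.relIndex N ≠ 0 := by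
    intro h
    rw [h, mul_zero] at hcardN
    exact (Nat.card_pos (α := N)).ne' hcardN.symm
  have hfac : (Nat.card N).factorization p = (Nat.card H).factorization p := by
    rw [← hcardN, Nat.factorization_mul Nat.card_pos.ne' hr0]
    simp [Nat.factorization_eq_zero_of_not_dvd hpr]
  have hcard'' : Nat.card (T'.subgroupOf N) = p ^ (Nat.card N).factorization p := by
    rw [Cfsg.Agent.Lib.Helper1.card_subgroupOf_of_le (hT'H.trans hHN), hcardT', hfac]
  refine ⟨Sylow.ofCard (T'.subgroupOf N) hcard'', ?_⟩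
  rw [Sylow.coe_ofCard, Subgroup.map_subgroupOf_eq_of_le (hT'H.trans hHN)]
  exact hT'H

/-- In the abelian case, the Sylow `q`-subgroup of a complement `E` (for `q ∈ τ₂(M)`) is a normal
abelian Sylow subgroup of `G` contained in `E`. -/
theorem exists_normal_abelian_sylow [Finite G] (hG : IsMinSimpleOddOrder G) (M : Subgroup G)
    (hM : IsCoatom M) (E : Subgroup G) (hE : IsComplIn E (sigmaCore M) M) (q : ℕ) [Fact q.Prime]
    (hq : q ∈ tau2 M) (hab : ∃ S : Sylow q G, IsMulCommutative (S : Subgroup G)) :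
    ∃ S : Sylow q G, IsMulCommutative (S : Subgroup G) ∧ (S : Subgroup G) ≤ E ∧
      E ≤ Subgroup.normalizer ((S : Subgroup G) : Set G) := by
  have hr1 : ¬ PRankLE q 1 ↥E :=
    Cfsg.Agent.Lib.Helper97.BGTwelve.not_pRankLE_complement hE
      (Cfsg.Agent.Lib.Helper54.sigmaCore_isPi M) hq.2.1 hq.2.2.2
  obtain ⟨A, hAE, hAe, hAc⟩ :=
    Cfsg.Agent.Lib.Helper97.BGTwelve.exists_elemAb_sq_of_not_pRankLE_one E hr1
  have hAq : IsPGroup q A := by
    intro a
    refine ⟨1, ?_⟩
    rw [pow_one]
    apply Subtype.ext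
    simpa using hAe.2 a a.2
  obtain ⟨S, hAS⟩ := hAq.exists_le_sylow
  have hSc := Cfsg.Agent.Lib.Helper55.BGThirteen.sylow_comm_of_exists hab S
  obtain ⟨hSE, -, hNS, -⟩ := Cfsg.Agent.Lib.Helper55.BGThirteen.ab_structure hG M hM E hE q hq A
    ⟨hAE, hAe, hAc⟩ S hSc hAS
  obtain ⟨⟨hEN, -⟩, -, -⟩ := Cfsg.Agent.S1418.result hG M hM E hE q hq A ⟨hAE, hAe, hAc⟩
  exact ⟨S, hSc, hSE, hEN.trans hNS⟩

open Cfsg.Agent.Lib.Helper54 in
/-- **B&G Lemma 15.3(a)**, conditional on Theorem 14.2. -/
theorem cent_hall_of [Finite G] (hG : IsMinSimpleOddOrder G) (h30 : Stmt1430 G) (h31 : Stmt1431 G)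
    (M : Subgroup G) (hM : IsCoatom M) (H : Subgroup G) (hH : H ≤ sigmaCore M) (hH1 : H ≠ ⊥)
    (hHall : (Nat.card H).Coprime (H.relIndex (sigmaCore M))) :
    ∃ X : Subgroup G, IsCyclic X ∧ (∀ p : ℕ, p.Prime → p ∣ Nat.card X → p ∈ tau2 M) ∧
      M ⊓ Subgroup.centralizer (H : Set G) =
        (sigmaCore M ⊓ Subgroup.centralizer (H : Set G)) ⊔ X := by
  have hU := Cfsg.Agent.Lib.Helper21.uniquenessThm_of hG
  have hHallσ : IsPiHallOf (sigma M) (sigmaCore M) M := (sigmaCore_hall_of hG hU M hM).1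
  have hMs : Group.IsSolvable M := hG.2.2.2 M hM.1
  have hσM : sigmaCore M ≤ M := sigmaCore_le M
  set C : Subgroup G := M ⊓ Subgroup.centralizer (H : Set G) with hC
  set Cσ : Subgroup G := sigmaCore M ⊓ Subgroup.centralizer (H : Set G) with hCσ
  have hCσC : Cσ ≤ C := inf_le_inf_right _ hσM
  have hCM : C ≤ M := inf_le_left
  have hCs : Group.IsSolvable C :=
    Group.isSolvable_of_isSolvable_injective (Subgroup.inclusion_injective hCM)
  -- `Cσ` is a Hall `σ(M)`-subgroup of `C`
  have hCσeq : Cσ = sigmaCore M ⊓ C := by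
    rw [hCσ, hC, ← inf_assoc, inf_of_le_left hσM]
  have hCσHall : IsPiHallOf (sigma M) Cσ C := by
    refine ⟨hCσC, ?_, ?_⟩
    · intro p hp hd
      exact sigmaCore_isPi M p hp (hd.trans (Subgroup.card_dvd_of_le inf_le_left))
    · intro p hp hpσ hd
      rw [hCσeq, Subgroup.inf_relIndex_right] at hd
      have h1 : (sigmaCore M).relIndex C ∣ (sigmaCore M).relIndex M := by
        have : ((sigmaCore M).subgroupOf M).Normal :=
          (Subgroup.normal_subgroupOf_iff_le_normalizer hσM).mpr (le_normalizer_sigmaCore M)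
        have h2 := Subgroup.relIndex_dvd_index_of_normal ((sigmaCore M).subgroupOf M)
          (C.subgroupOf M)
        rwa [Subgroup.relIndex_subgroupOf hCM] at h2
      exact hHallσ.2.2 p hp hpσ (hd.trans h1)
  obtain ⟨X, hXcomp, -⟩ := Cfsg.Agent.Lib.Helper97.BGTwelve.exists_complIn_ge (K := ⊥) hCs hCσHall
    bot_le (by
      intro p hp hd
      rw [Subgroup.card_bot] at hd
      exact absurd (Nat.dvd_one.mp hd) hp.one_lt.ne')
  obtain ⟨hXC, -, hXdisj, hXfact⟩ := hXcomp
  have hXM : X ≤ M := hXC.trans hCM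
  have hXcH : X ≤ Subgroup.centralizer (H : Set G) := hXC.trans inf_le_right
  have hXσ : ∀ p : ℕ, p.Prime → p ∣ Nat.card X → p ∉ sigma M := by
    intro p hp hd hpσ
    have h1 := Cfsg.Agent.Lib.Helper30.BGSigmaE.relIndex_eq_card_of_isComplIn
      (⟨hXC, hCσC, hXdisj, hXfact⟩ : IsComplIn X Cσ C)
    rw [← h1] at hd
    exact hCσHall.2.2 p hp hpσ hd
  have hCeq : C = Cσ ⊔ X := by
    apply le_antisymm
    · intro c hc
      obtain ⟨a, ha, b, hb, hab⟩ := hXfact c hc
      rw [hab]
      exact (Cσ ⊔ X).mul_mem ((le_sup_right : X ≤ Cσ ⊔ X) ha) ((le_sup_left : Cσ ≤ Cσ ⊔ X) hb)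
    · exact sup_le hCσC hXC
  -- a nonidentity element of `H`
  obtain ⟨h₀, hh₀H, hh₀1⟩ : ∃ h₀ : G, h₀ ∈ H ∧ h₀ ≠ 1 := by
    obtain ⟨a, ha⟩ := Subgroup.ne_bot_iff_exists_ne_one.mp hH1
    exact ⟨(a : G), a.2, fun h => ha (Subtype.ext h)⟩
  -- every prime of `X` is in `τ₂(M)`
  have hXτ : ∀ p : ℕ, p.Prime → p ∣ Nat.card X → p ∈ tau2 M := by
    intro p hp hd
    have : Fact p.Prime := ⟨hp⟩
    obtain ⟨x', hx'⟩ := exists_prime_orderOf_dvd_card' (G := X) p hd
    have hx'o : orderOf (x' : G) = p := by rw [Subgroup.orderOf_coe, hx']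
    have hx'1 : (x' : G) ≠ 1 := by
      intro h
      rw [h, orderOf_one] at hx'o
      exact hp.one_lt.ne hx'o
    have hcomm : ∀ h ∈ H, (x' : G) * h = h * x' := by
      intro h hh
      exact ((Subgroup.mem_centralizer_iff.mp (hXcH x'.2)) h hh).symm
    rcases mem_kappa_or_tau2_of_dvd_orderOf hG M hM (hH hh₀H) hh₀1 (hXM x'.2)
        (hcomm h₀ hh₀H) hp (by rw [hx'o]) (hXσ p hp hd) with hκ | hτ
    · exfalso
      obtain ⟨K, hK, hx'K, hK1⟩ := exists_kappaHall_mem hG M hM (hXM x'.2) hκ hx'o
      have hstar := (h30 M hM K hK hK1).1 (x' : G) hx'K hx'1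
      have hHK : H ≤ sigmaCore M ⊓ Subgroup.centralizer (K : Set G) := by
        rw [← hstar]
        intro h hh
        refine ⟨hH hh, ?_⟩
        show h ∈ Subgroup.centralizer ({(x' : G)} : Set G)
        rw [Subgroup.mem_centralizer_iff]
        intro z hz
        rw [Set.mem_singleton_iff] at hz
        rw [hz]
        exact hcomm h hh
      have hHc1 : Nat.card H ≠ 1 := fun h => hH1 (Subgroup.card_eq_one.mp h)
      obtain ⟨p', hp', hp'H⟩ := Nat.exists_prime_and_dvd hHc1
      have : Fact p'.Prime := ⟨hp'⟩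
      obtain ⟨S, hS⟩ := exists_sylow_map_le hH hHall hp'H
      have h3 := (h31 M hM K hK hK1).2.2.1 p' hp'
        (hp'H.trans (Subgroup.card_dvd_of_le hHK)) S
      exact h3.2.2 (hS.trans hHK)
    · exact hτ
  -- a complement `E` of `M_σ` containing `X`
  obtain ⟨E, hE, hXE⟩ := Cfsg.Agent.Lib.Helper97.BGTwelve.exists_complIn_ge hMs hHallσ hXM hXσ
  have hodd2 : ∀ q : ℕ, q ∣ Nat.card X → q ≠ 2 := by
    rintro q hq rfl
    have h2 : 2 ∣ Nat.card G := hq.trans (Subgroup.card_subgroup_dvd_card X)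
    exact (Nat.not_even_iff_odd.mpr hG.1) (even_iff_two_dvd.mpr h2)
  -- Sylow subgroups of `X` are cyclic
  have hZ : IsZGroup X := by
    refine ⟨fun q hq P => ?_⟩
    have : Fact q.Prime := ⟨hq⟩
    by_cases hqX : q ∣ Nat.card X
    · have hq2 : q ≠ 2 := hodd2 q hqX
      have hqτ := hXτ q hq hqX
      set P' : Subgroup G := (P : Subgroup X).map X.subtype with hP'
      have hP'X : P' ≤ X := Subgroup.map_subtype_le _
      have hP'q : IsPGroup q P' := P.isPGroup'.map _
      have hcyc : IsCyclic P' := by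
        by_contra hnc
        have hr1 : ¬ PRankLE q 1 ↥P' := fun hr =>
          hnc (Cfsg.Agent.Lib.Helper97.BGTwelve.isCyclic_of_pRankLE_one hq2 P' hP'q hr)
        obtain ⟨A, hAP, hAe, hAc⟩ :=
          Cfsg.Agent.Lib.Helper97.BGTwelve.exists_elemAb_sq_of_not_pRankLE_one P' hr1
        have hAM : A ≤ M := (hAP.trans hP'X).trans hXM
        obtain ⟨-, -, -, hd, -, -⟩ := Cfsg.Agent.S1417.result hG M hM q hqτ A ⟨hAM, hAe, hAc⟩
        have : H ≤ sigmaCore M ⊓ Subgroup.centralizer (A : Set G) := by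
          intro h hh
          refine ⟨hH hh, ?_⟩
          show h ∈ Subgroup.centralizer (A : Set G)
          rw [Subgroup.mem_centralizer_iff]
          intro a ha
          exact ((Subgroup.mem_centralizer_iff.mp (hXcH (hP'X (hAP ha)))) h hh).symm
        rw [hd] at this
        exact hH1 (eq_bot_iff.mpr this)
      have e : ↥P' ≃* ↥(P : Subgroup X) :=
        ((P : Subgroup X).equivMapOfInjective X.subtype X.subtype_injective).symm
      exact isCyclic_of_surjective e.toMonoidHom e.surjective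
    · have hP1 : Nat.card (P : Subgroup X) = 1 := by
        obtain ⟨k, hk⟩ := P.isPGroup'.exists_card_eq
        rcases Nat.eq_zero_or_pos k with h0 | h0
        · rw [hk, h0, pow_zero]
        · exfalso
          apply hqX
          have h1 : q ∣ Nat.card (P : Subgroup X) := by
            rw [hk]; exact dvd_pow_self q h0.ne'
          exact h1.trans (Subgroup.card_subgroup_dvd_card _)
      have : Subsingleton (P : Subgroup X) := (Nat.card_eq_one_iff_unique.mp hP1).1
      exact isCyclic_of_subsingleton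
  -- `X` is nilpotent
  have hXnil : Group.IsNilpotent X := by
    by_cases hNA : ∃ r : ℕ, r.Prime ∧ r ∣ Nat.card X ∧ ∀ S : Sylow r G,
        ¬ IsMulCommutative (S : Subgroup G)
    · obtain ⟨r, hr, hrX, hS⟩ := hNA
      have : Fact r.Prime := ⟨hr⟩
      have hrτ := hXτ r hr hrX
      have hr1 : ¬ PRankLE r 1 ↥E :=
        Cfsg.Agent.Lib.Helper97.BGTwelve.not_pRankLE_complement hE (sigmaCore_isPi M)
          hrτ.2.1 hrτ.2.2.2
      obtain ⟨A, hAE, hAe, hAc⟩ :=
        Cfsg.Agent.Lib.Helper97.BGTwelve.exists_elemAb_sq_of_not_pRankLE_one E hr1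
      obtain ⟨hτeq, -, -⟩ := Cfsg.Agent.S1419.result hG M hM E hE r hrτ hS A ⟨hAE, hAe, hAc⟩
      have hXr : IsPGroup r X := by
        have hX0 : Nat.card X ≠ 0 := Nat.card_pos.ne'
        have : ∀ {p : ℕ}, p.Prime → p ∣ Nat.card X → p = r := by
          intro p hp hd
          have := hXτ p hp hd
          rw [hτeq] at this
          exact this
        have h2 := Nat.eq_prime_pow_of_unique_prime_dvd hX0 this
        exact IsPGroup.of_card h2
      exact hXr.isNilpotent
    · push Not at hNA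
      have hab : ∀ r : ℕ, r.Prime → r ∣ Nat.card X → ∃ S : Sylow r G,
          IsMulCommutative (S : Subgroup G) := hNA
      -- elements of prime power order of `X` commute
      have hpp : ∀ a ∈ X, ∀ b ∈ X, ∀ q i r j : ℕ, q.Prime → r.Prime → orderOf a = q ^ i →
          orderOf b = r ^ j → a * b = b * a := by
        intro a ha b hb q i r j hq hr hao hbo
        rcases Nat.eq_zero_or_pos i with hi | hi
        · rw [hi, pow_zero, orderOf_eq_one_iff] at hao
          rw [hao, one_mul, mul_one]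
        rcases Nat.eq_zero_or_pos j with hj | hj
        · rw [hj, pow_zero, orderOf_eq_one_iff] at hbo
          rw [hbo, one_mul, mul_one]
        have : Fact q.Prime := ⟨hq⟩
        have : Fact r.Prime := ⟨hr⟩
        have hqX : q ∣ Nat.card X := by
          have h1 : q ∣ orderOf a := by rw [hao]; exact dvd_pow_self q hi.ne'
          have h2 : orderOf a ∣ Nat.card X := by
            have := orderOf_dvd_natCard (⟨a, ha⟩ : X)
            rwa [Subgroup.orderOf_mk] at this
          exact h1.trans h2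
        have hrX : r ∣ Nat.card X := by
          have h1 : r ∣ orderOf b := by rw [hbo]; exact dvd_pow_self r hj.ne'
          have h2 : orderOf b ∣ Nat.card X := by
            have := orderOf_dvd_natCard (⟨b, hb⟩ : X)
            rwa [Subgroup.orderOf_mk] at this
          exact h1.trans h2
        obtain ⟨Sq, hSqc, hSqE, hESq⟩ := exists_normal_abelian_sylow hG M hM E hE q
          (hXτ q hq hqX) (hab q hq hqX)
        have haq : a ^ q ^ i = 1 := by rw [← hao]; exact pow_orderOf_eq_one a
        have hbr : b ^ r ^ j = 1 := by rw [← hbo]; exact pow_orderOf_eq_one b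
        have haS : a ∈ (Sq : Subgroup G) :=
          Cfsg.Agent.Lib.Helper55.BGThirteen.mem_sylow_of_mem_normalizer Sq (hESq (hXE ha)) haq
        by_cases hqr : q = r
        · subst hqr
          have hbS : b ∈ (Sq : Subgroup G) :=
            Cfsg.Agent.Lib.Helper55.BGThirteen.mem_sylow_of_mem_normalizer Sq (hESq (hXE hb)) hbr
          exact congrArg Subtype.val (hSqc.is_comm.comm ⟨a, haS⟩ ⟨b, hbS⟩)
        · obtain ⟨Sr, hSrc, hSrE, hESr⟩ := exists_normal_abelian_sylow hG M hM E hE r
            (hXτ r hr hrX) (hab r hr hrX)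
          have hbS : b ∈ (Sr : Subgroup G) :=
            Cfsg.Agent.Lib.Helper55.BGThirteen.mem_sylow_of_mem_normalizer Sr (hESr (hXE hb)) hbr
          have h1 : a * b * a⁻¹ * b⁻¹ ∈ (Sq : Subgroup G) := by
            have h2 : b * a⁻¹ * b⁻¹ ∈ (Sq : Subgroup G) :=
              ((Subgroup.mem_normalizer_iff.mp (hESq (hXE hb))) a⁻¹).mp
                ((Sq : Subgroup G).inv_mem haS)
            have h3 : a * b * a⁻¹ * b⁻¹ = a * (b * a⁻¹ * b⁻¹) := by group
            rw [h3]
            exact (Sq : Subgroup G).mul_mem haS h2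
          have h2 : a * b * a⁻¹ * b⁻¹ ∈ (Sr : Subgroup G) := by
            have h3 : a * b * a⁻¹ ∈ (Sr : Subgroup G) :=
              ((Subgroup.mem_normalizer_iff.mp (hESr (hXE ha))) b).mp hbS
            exact (Sr : Subgroup G).mul_mem h3 ((Sr : Subgroup G).inv_mem hbS)
          have hcop : (Nat.card (Sq : Subgroup G)).Coprime (Nat.card (Sr : Subgroup G)) := by
            obtain ⟨k, hk⟩ := Sq.isPGroup'.exists_card_eq
            obtain ⟨l, hl⟩ := Sr.isPGroup'.exists_card_eq
            rw [hk, hl]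
            exact Nat.Coprime.pow k l ((Nat.coprime_primes hq hr).mpr hqr)
          have hdisj : (Sq : Subgroup G) ⊓ (Sr : Subgroup G) = ⊥ :=
            (Subgroup.disjoint_of_coprime_natCard hcop).eq_bot
          have h3 : a * b * a⁻¹ * b⁻¹ = 1 := by
            have : a * b * a⁻¹ * b⁻¹ ∈ (Sq : Subgroup G) ⊓ (Sr : Subgroup G) := ⟨h1, h2⟩
            rwa [hdisj, Subgroup.mem_bot] at this
          have h4 := congrArg (· * b * a) h3
          simpa [mul_assoc] using h4
      -- stage 1: every element of `X` commutes with the elements of prime power order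
      have hst1 : ∀ b ∈ X, ∀ r j : ℕ, r.Prime → orderOf b = r ^ j →
          X ≤ Subgroup.centralizer ({b} : Set G) := by
        intro b hb r j hr hbo
        apply Cfsg.Agent.Lib.Helper52.le_of_forall_primePow_order_mem
        intro a ha q i hq hao
        rw [Subgroup.mem_centralizer_singleton_iff]
        exact hpp a ha b hb q i r j hq hr hao hbo
      have hcomm : ∀ a ∈ X, ∀ b ∈ X, a * b = b * a := by
        intro a ha b hb
        have : X ≤ Subgroup.centralizer ({a} : Set G) := by
          apply Cfsg.Agent.Lib.Helper52.le_of_forall_primePow_order_mem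
          intro c hc r j hr hco
          rw [Subgroup.mem_centralizer_singleton_iff]
          have h1 := hst1 c hc r j hr hco ha
          rw [Subgroup.mem_centralizer_singleton_iff] at h1
          exact h1.symm
        have h2 := this hb
        rw [Subgroup.mem_centralizer_singleton_iff] at h2
        exact h2.symm
      have : IsMulCommutative X := ⟨⟨fun a b => Subtype.ext (hcomm a a.2 b b.2)⟩⟩
      let _ : CommGroup X := { (inferInstance : Group X) with mul_comm := this.is_comm.comm }
      exact CommGroup.isNilpotent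
  have := hZ
  have := hXnil
  exact ⟨X, inferInstance, hXτ, hCeq⟩

end Cfsg.Agent.Lib.Helper97.BGFifteenThree
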