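import Mathlib
import Cfsg.Prelude.Def_Solvable
import Cfsg.Agent.Lib.Helper97.Cores

/-!
# `O_p` of subnormal subgroups (helper97)
-/

set_option autoImplicit false

namespace Cfsg.Agent.Lib.Helper97

open Cfsg

variable {G : Type*} [Group G]

/-- `O_p(K) ≤ O_p(L)` (inside `G`) when `K ≤ L` and `K` is normal in `L`. -/
theorem map_pCore_le_map_pCore_of_normal (p : ℕ) {K L : Subgroup G} (hKL : K ≤ L)
    (hN : (K.subgroupOf L).Normal) :
    (pCore p K).map K.subtype ≤ (pCore p L).map L.subtype := by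
  have h1 := map_pCore_le_of_normal p (K.subgroupOf L)
  have h2 := pCore_map_equiv (Subgroup.subgroupOfEquivOfLe hKL) p
  rintro _ ⟨x, hx, rfl⟩
  rw [← h2] at hx
  obtain ⟨y, hy, rfl⟩ := hx
  have hy' : (K.subgroupOf L).subtype y ∈ pCore p L := h1 ⟨y, hy, rfl⟩
  exact ⟨(K.subgroupOf L).subtype y, hy', rfl⟩

/-- `O_p(K) ≤ O_p(G)` for `K` subnormal in `G`. -/
theorem map_pCore_le_of_isSubnormal (p : ℕ) {K : Subgroup G} (hK : K.IsSubnormal) :
    (pCore p K).map K.subtype ≤ pCore p G := by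
  induction hK with
  | top =>
    rintro _ ⟨x, hx, rfl⟩
    have := pCore_map_equiv (Subgroup.topEquiv : (⊤ : Subgroup G) ≃* G) p
    rw [← this]
    exact ⟨x, hx, rfl⟩
  | step K L hKL _ hN ih =>
    exact (map_pCore_le_map_pCore_of_normal p hKL hN).trans ih

/-- A normal `p`-subgroup `T` of `D` lies in `O_p(D)`. -/
theorem le_map_pCore_of_normal_subgroupOf {p : ℕ} {T D : Subgroup G} (hTD : T ≤ D)
    (hN : (T.subgroupOf D).Normal) (hT : IsPGroup p T) : T ≤ (pCore p D).map D.subtype := by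
  have hp : IsPGroup p (T.subgroupOf D) :=
    hT.of_equiv (Subgroup.subgroupOfEquivOfLe hTD).symm
  have hle := le_pCore_of_normal hN hp
  intro t ht
  exact ⟨⟨t, hTD ht⟩, hle (by simpa [Subgroup.mem_subgroupOf] using ht), rfl⟩

/-- `O_p(D) ≤ O_p(H)` (inside `G`) when `D ≤ H` is subnormal in `H`. -/
theorem map_pCore_le_map_pCore_of_isSubnormal (p : ℕ) {D H : Subgroup G} (hDH : D ≤ H)
    (hS : (D.subgroupOf H).IsSubnormal) :
    (pCore p D).map D.subtype ≤ (pCore p H).map H.subtype := by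
  have h1 := map_pCore_le_of_isSubnormal p hS
  have h2 := pCore_map_equiv (Subgroup.subgroupOfEquivOfLe hDH) p
  rintro _ ⟨x, hx, rfl⟩
  rw [← h2] at hx
  obtain ⟨y, hy, rfl⟩ := hx
  have hy' : (D.subgroupOf H).subtype y ∈ pCore p H := h1 ⟨y, hy, rfl⟩
  exact ⟨(D.subgroupOf H).subtype y, hy', rfl⟩

/-- A subnormal `p`-subgroup lies in `O_p(G)`. -/
theorem le_pCore_of_isSubnormal {p : ℕ} {T : Subgroup G} (hT : T.IsSubnormal) (hp : IsPGroup p T) :
    T ≤ pCore p G := by
  have h1 := map_pCore_le_of_isSubnormal p hT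
  have h2 : pCore p T = ⊤ := by
    apply le_antisymm le_top
    exact le_pCore_of_normal inferInstance (hp.to_subgroup _)
  rw [h2, ← MonoidHom.range_eq_map, Subgroup.range_subtype] at h1
  exact h1

end Cfsg.Agent.Lib.Helper97
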