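import Mathlib
import Cfsg.Agent.Lib.Helper64.PFElevenDefs
import Cfsg.Agent.Lib.Helper26.ZSpan
import Cfsg.Agent.Lib.Helper26.IrrFactsInst
import Cfsg.Agent.Lib.Helper25.CharBasic
import Cfsg.Agent.Lib.Helper25.Dual
import Cfsg.Agent.Lib.Helper74.PFTwelveA
import Cfsg.Agent.Lib.Helper60.PFCycB2a

/-!
# PROJECT PF, Peterfalvi section 11 (end game): module [E-CONS] (helper97)

`exists_E_of`: the construction of the generalized character `E := τ(g μ₀ - ξ₀) + τ₁ ξ₀` from the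
facts of the modules [DOM], [GAL-A], [GAL-B] (taken as hypotheses); `exists_E` (file
`PFElevenEConsMain.lean`) plugs in the landed modules.
-/

set_option autoImplicit false
set_option linter.unusedSectionVars false

namespace Cfsg.Agent.Lib.Helper97.PF11

open Cfsg Cfsg.Agent.Lib.Helper24.PFCyc Cfsg.Agent.Lib.Helper4.PF Cfsg.Agent.Lib.Helper64.PF11
open Cfsg.Agent.Lib.Helper26

universe u

variable {G : Type u} [Group G] [Fintype G] {M W₁ U W₂ : Subgroup G} [Fintype M]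
  {mu : WChar W₁ W₂ → (↥M → ℂ)} {dl : WChar W₁ W₂ → ℂ} {η : WChar W₁ W₂ → (G → ℂ)}
  {d : ℕ} {δ : ℂ} {n : ℤ}

/-- the Dade map commutes with complex scalars -/
theorem tauM_smul (M : Subgroup G) (c : ℂ) (α : ↥M → ℂ) :
    tauM M (c • α) = c • tauM M α := by
  funext g
  unfold tauM dadeIsometry
  simp only [Pi.smul_apply]
  split_ifs <;> simp

theorem tauM_sub (M : Subgroup G) (α β : ↥M → ℂ) :
    tauM M (α - β) = tauM M α - tauM M β :=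
  Cfsg.Agent.Lib.Helper74.PF12.dade_sub _ _ _ α β

theorem tauM_add (M : Subgroup G) (α β : ↥M → ℂ) :
    tauM M (α + β) = tauM M α + tauM M β :=
  Cfsg.Agent.Lib.Helper74.PF12.dade_add _ _ _ α β

/-- the Dade map commutes with field automorphisms -/
theorem tauM_gal (M : Subgroup G) (σ : ℂ ≃+* ℂ) (α : ↥M → ℂ) :
    tauM M (fun m => σ (α m)) = fun g => σ (tauM M α g) := by
  funext g
  unfold tauM dadeIsometry
  split_ifs <;> simp


/-- a nontrivial character of `W` trivial on `W₁` -/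
theorem exists_psi (hW : IsSelfNormalizingCyclic W₁ W₂) :
    ∃ ψ : WChar W₁ W₂, TrivOn W₁ ψ ∧ ψ ≠ 1 := by
  classical
  have : Fintype ↥(W₁ ⊔ W₂) := Fintype.ofFinite _
  have hc : ∀ a b : ↥(W₁ ⊔ W₂), a * b = b * a := by
    have hcyc : IsCyclic ↥(W₁ ⊔ W₂) := hW.2.2.2.2.1
    intro a b
    exact (IsCyclic.isMulCommutative (α := ↥(W₁ ⊔ W₂))).is_comm.comm a b
  obtain ⟨x, hx, hx1⟩ : ∃ x ∈ W₂, x ≠ 1 := by
    by_contra hcon
    push Not at hcon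
    exact hW.2.1 ((Subgroup.eq_bot_iff_forall _).2 hcon)
  have hxW : x ∈ W₁ ⊔ W₂ := Subgroup.mem_sup_right hx
  have hxn : (⟨x, hxW⟩ : ↥(W₁ ⊔ W₂)) ∉ W₁.subgroupOf (W₁ ⊔ W₂) := by
    intro h
    have h1 : x ∈ W₁ := Subgroup.mem_subgroupOf.mp h
    have h2 : x ∈ W₁ ⊓ W₂ := ⟨h1, hx⟩
    rw [hW.2.2.1, Subgroup.mem_bot] at h2
    exact hx1 h2
  obtain ⟨ψ, hψ, hψx⟩ := Cfsg.Agent.Lib.Helper25.exists_hom_ne_one hc
    (W₁.subgroupOf (W₁ ⊔ W₂)) ⟨x, hxW⟩ hxn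
  refine ⟨ψ, fun w hw => hψ w (Subgroup.mem_subgroupOf.mpr hw), ?_⟩
  rintro rfl
  exact hψx rfl

/-- the sum of the characters of `W` trivial on `W₂`, at an element outside `W₂`, is `0` -/
theorem sum_trivSet_apply (hW : IsSelfNormalizingCyclic W₁ W₂) (w : ↥(W₁ ⊔ W₂))
    (hw : (w : G) ∉ W₂) :
    ∑ φ ∈ trivSet W₁ W₂ W₂, ((φ w : ℂˣ) : ℂ) = 0 := by
  classical
  have : Fintype ↥(W₁ ⊔ W₂) := Fintype.ofFinite _
  have hc : ∀ a b : ↥(W₁ ⊔ W₂), a * b = b * a := by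
    have hcyc : IsCyclic ↥(W₁ ⊔ W₂) := hW.2.2.2.2.1
    intro a b
    exact (IsCyclic.isMulCommutative (α := ↥(W₁ ⊔ W₂))).is_comm.comm a b
  have h2 : trivSet W₁ W₂ W₂ =
      Cfsg.Agent.Lib.Helper25.dualOf (W₂.subgroupOf (W₁ ⊔ W₂)) := by
    ext ω
    rw [mem_trivSet, Cfsg.Agent.Lib.Helper25.mem_dualOf]
    constructor
    · intro h n hn
      exact h n (Subgroup.mem_subgroupOf.mp hn)
    · intro h w hw
      exact h w (Subgroup.mem_subgroupOf.mpr hw)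
  rw [h2, Cfsg.Agent.Lib.Helper25.sum_dualOf hc, if_neg]
  intro h
  exact hw (Subgroup.mem_subgroupOf.mp h)


/-- `⟨etaSum η ψ, 1_G⟩ = 0` for `ψ ≠ 1` trivial on `W₁` -/
theorem etaSum_inner_one (hW : IsSelfNormalizingCyclic W₁ W₂) (hη : IsCyclicTIFamily W₁ W₂ η)
    (ψ : WChar W₁ W₂) (hψ : TrivOn W₁ ψ) (hψ1 : ψ ≠ 1) :
    classInner (etaSum η ψ) (fun _ => 1) = 0 := by
  unfold etaSum
  rw [Cfsg.Agent.Lib.Helper25.classInner_sum_left]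
  apply Finset.sum_eq_zero
  intro φ hφ
  rw [← hη.map_one, hη.orthonormal, if_neg]
  intro h
  apply hψ1
  have hφ' : TrivOn W₂ φ := mem_trivSet.mp hφ
  apply Cfsg.Agent.Lib.Helper60.PFCycB.wchar_ext hW
  · intro w hw
    rw [hψ w hw]; rfl
  · intro w hw
    have h1 : (φ * ψ) w = 1 := by rw [h]; rfl
    rw [MonoidHom.mul_apply, hφ' w hw, one_mul] at h1
    rw [h1]; rfl


/-- `etaSum η ψ` vanishes on `W \ (W₁ ∪ W₂)` -/
theorem etaSum_apply_W (hW : IsSelfNormalizingCyclic W₁ W₂) (hη : IsCyclicTIFamily W₁ W₂ η)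
    (ψ : WChar W₁ W₂) (w : ↥(W₁ ⊔ W₂)) (hw1 : (w : G) ∉ W₁) (hw2 : (w : G) ∉ W₂) :
    etaSum η ψ (w : G) = 0 := by
  unfold etaSum
  rw [Finset.sum_apply]
  have h1 : ∀ φ ∈ trivSet W₁ W₂ W₂, η (φ * ψ) (w : G) = ((φ w : ℂˣ) : ℂ) * ((ψ w : ℂˣ) : ℂ) := by
    intro φ _
    rw [hη.eq_on (φ * ψ) w hw1 hw2, MonoidHom.mul_apply, Units.val_mul]
  rw [Finset.sum_congr rfl h1, ← Finset.sum_mul, sum_trivSet_apply hW w hw2, zero_mul]


/-- Module [E-CONS] from the facts of [DOM] (`hiso`, `hin`) and [GAL-B] (`hmg`, `heg`). -/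
theorem exists_E_of (F : Frame M W₁ U W₂ mu dl η d δ n)
    (hiso : IsLinearIsometryOn (zspanOn (calS0 M mu) {1}ᶜ) (tauM M) ∧
      (∀ α ∈ zspanOn (calS0 M mu) ({1}ᶜ : Set ↥M), tauM M α 1 = 0) ∧
      (∀ α ∈ zspanOn (calS0 M mu) ({1}ᶜ : Set ↥M),
        classInner (tauM M α) (fun _ => 1) = classInner α (fun _ => 1)) ∧
      (∀ α ∈ zspanOn (calS0 M mu) ({1}ᶜ : Set ↥M), ∀ w : ↥(W₁ ⊔ W₂),
        (w : G) ∉ W₁ → (w : G) ∉ W₂ → tauM M α (w : G) = 0))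
    (hin : classInner (muSum mu 1) (muSum mu 1) = (Nat.card W₁ : ℂ) ∧
      classInner (muSum mu 1) (fun _ => 1) = 1 ∧ muSum mu 1 1 = (Nat.card W₁ : ℂ) ∧
      (∀ ξ ∈ calS M, classInner (muSum mu 1) ξ = 0 ∧ classInner ξ (muSum mu 1) = 0 ∧
        classInner ξ (fun _ => 1) = 0 ∧ IsCharacter ↥M ξ) ∧
      (∀ ξ ∈ calS M, ∀ ξ' ∈ calS M, ξ ≠ ξ' → classInner ξ ξ' = 0) ∧
      (∀ ξ ∈ calS M, IsIrrCharacter ↥M ξ → classInner ξ ξ = 1) ∧
      (∀ ψ : WChar W₁ W₂, TrivOn W₁ ψ → ψ ≠ 1 →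
        classInner (muSum mu ψ) (muSum mu ψ) = (Nat.card W₁ : ℂ) ∧
        muSum mu ψ 1 = ((Nat.card W₁ * d : ℕ) : ℂ)))
    (hmg : ∀ (σ : ℂ ≃+* ℂ) (ω : WChar W₁ W₂),
      muSum mu (galChar σ ω) = fun m => σ (muSum mu ω m))
    (heg : ∀ (σ : ℂ ≃+* ℂ) (ω : WChar W₁ W₂),
      etaSum η (galChar σ ω) = fun x => σ (etaSum η ω x))
    (Z : Set (↥M → ℂ)) (hZ : Z ⊆ calS M)
    (hμZ : ∀ ψ : WChar W₁ W₂, TrivOn W₁ ψ → ψ ≠ 1 → muSum mu ψ ∈ Z)
    (τ₁ : (↥M → ℂ) → (G → ℂ)) (hτ₁ : IsLinearIsometryOn (zspan Z) τ₁)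
    (hext : ∀ α ∈ zspanOn Z ({1}ᶜ : Set ↥M), τ₁ α = tauM M α)
    (hτ₁μ : ∀ ψ : WChar W₁ W₂, TrivOn W₁ ψ → ψ ≠ 1 → τ₁ (muSum mu ψ) = δ • etaSum η ψ)
    (g : ℕ) (hg : 0 < g) (a : (↥M → ℂ) → ℕ)
    (ha : ∀ ξ ∈ Z, ξ 1 = ((Nat.card W₁ * g * a ξ : ℕ) : ℂ))
    (ξ₀ : ↥M → ℂ) (hξ₀ : ξ₀ ∈ Z) (ha₀ : a ξ₀ = 1) :
    ∃ E : G → ℂ, IsGeneralizedCharacter G E ∧
      (∀ ξ ∈ Z, tauM M (((g * a ξ : ℕ) : ℂ) • muSum mu 1 - ξ) = ((a ξ : ℕ) : ℂ) • E - τ₁ ξ) ∧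
      classInner E (fun _ => 1) = (g : ℂ) ∧
      (∀ w : ↥(W₁ ⊔ W₂), (w : G) ∉ W₁ → (w : G) ∉ W₂ → E (w : G) = 0) ∧
      (∀ σ : ℂ ≃+* ℂ, (fun x => σ (E x)) = E) := by
  classical
  have hW := F.hP.selfNormalizing
  obtain ⟨hisoL, -, hisoOne, hisoW⟩ := hiso
  obtain ⟨-, hμ₀one, hμ₀deg, hcal, -, -, hψfacts⟩ := hin
  have hq0 : (Nat.card W₁ : ℂ) ≠ 0 := Nat.cast_ne_zero.mpr Nat.card_pos.ne'
  have hg0 : (g : ℂ) ≠ 0 := Nat.cast_ne_zero.mpr hg.ne'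
  have hZ0 : Z ⊆ calS0 M mu := fun ξ hξ => Set.mem_insert_of_mem _ (hZ hξ)
  have hμ₀mem : muSum mu 1 ∈ calS0 M mu := Set.mem_insert _ _
  -- the domain
  have hdom : ∀ ξ ∈ Z, ((g * a ξ : ℕ) : ℂ) • muSum mu 1 - ξ ∈
      zspanOn (calS0 M mu) ({1}ᶜ : Set ↥M) := by
    intro ξ hξ
    apply mem_zspanOn_compl_one.2
    refine ⟨zspan_sub (zspan_natCast_smul _ (subset_zspan _ hμ₀mem))
      (subset_zspan _ (hZ0 hξ)), ?_⟩
    simp only [Pi.sub_apply, Pi.smul_apply, smul_eq_mul]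
    rw [hμ₀deg, ha ξ hξ]
    push_cast
    ring
  -- the generalized character `E`
  set E : G → ℂ := tauM M ((g : ℂ) • muSum mu 1 - ξ₀) + τ₁ ξ₀ with hE
  have hdom₀ : (g : ℂ) • muSum mu 1 - ξ₀ ∈ zspanOn (calS0 M mu) ({1}ᶜ : Set ↥M) := by
    have := hdom ξ₀ hξ₀
    rwa [ha₀, mul_one] at this
  -- (★)
  have hstar : ∀ ξ ∈ Z, tauM M (((g * a ξ : ℕ) : ℂ) • muSum mu 1 - ξ) =
      ((a ξ : ℕ) : ℂ) • E - τ₁ ξ := by
    intro ξ hξ
    have hβmem : ξ - ((a ξ : ℕ) : ℂ) • ξ₀ ∈ zspanOn Z ({1}ᶜ : Set ↥M) := by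
      apply mem_zspanOn_compl_one.2
      refine ⟨zspan_sub (subset_zspan _ hξ) (zspan_natCast_smul _ (subset_zspan _ hξ₀)), ?_⟩
      simp only [Pi.sub_apply, Pi.smul_apply, smul_eq_mul]
      rw [ha ξ hξ, ha ξ₀ hξ₀, ha₀]
      push_cast
      ring
    have h1 : τ₁ (ξ - ((a ξ : ℕ) : ℂ) • ξ₀) = τ₁ ξ - ((a ξ : ℕ) : ℂ) • τ₁ ξ₀ := by
      rw [isom_sub (isZClosed_zspan Z) hτ₁ (subset_zspan _ hξ)
        (zspan_natCast_smul _ (subset_zspan _ hξ₀)),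
        isom_natCast_smul hτ₁ _ (subset_zspan _ hξ₀)]
    have h2 : tauM M (ξ - ((a ξ : ℕ) : ℂ) • ξ₀) = tauM M ξ - ((a ξ : ℕ) : ℂ) • tauM M ξ₀ := by
      rw [tauM_sub, tauM_smul]
    have h3 := hext _ hβmem
    rw [h1, h2] at h3
    have h4 : tauM M (((g * a ξ : ℕ) : ℂ) • muSum mu 1 - ξ) =
        ((g * a ξ : ℕ) : ℂ) • tauM M (muSum mu 1) - tauM M ξ := by
      rw [tauM_sub, tauM_smul]
    have h5 : tauM M ((g : ℂ) • muSum mu 1 - ξ₀) =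
        (g : ℂ) • tauM M (muSum mu 1) - tauM M ξ₀ := by
      rw [tauM_sub, tauM_smul]
    rw [h4, hE, h5]
    funext x
    have h3x := congrFun h3 x
    simp only [Pi.sub_apply, Pi.smul_apply, Pi.add_apply, smul_eq_mul] at h3x ⊢
    push_cast
    linear_combination h3x
  -- a nontrivial `ψ`
  obtain ⟨ψ, hψ, hψ1⟩ := exists_psi hW
  have hApsi : ∀ ψ' : WChar W₁ W₂, TrivOn W₁ ψ' → ψ' ≠ 1 →
      ((a (muSum mu ψ') : ℕ) : ℂ) * (g : ℂ) = (d : ℂ) := by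
    intro ψ' hψ' hψ'1
    have h1 := ha _ (hμZ ψ' hψ' hψ'1)
    rw [(hψfacts ψ' hψ' hψ'1).2] at h1
    push_cast at h1
    have h2 : (Nat.card W₁ : ℂ) * ((d : ℂ) - (a (muSum mu ψ') : ℂ) * (g : ℂ)) = 0 := by
      linear_combination h1
    rcases mul_eq_zero.mp h2 with h3 | h3
    · exact absurd h3 hq0
    · linear_combination -h3
  have hd0 : (d : ℂ) ≠ 0 := by
    have h1 : 2 ≤ Nat.card W₁ := F.hq.two_le
    have h2 := F.hdq
    have : 0 < d := by omega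
    exact Nat.cast_ne_zero.mpr this.ne'
  have hA0 : ∀ ψ' : WChar W₁ W₂, TrivOn W₁ ψ' → ψ' ≠ 1 →
      ((a (muSum mu ψ') : ℕ) : ℂ) ≠ 0 := by
    intro ψ' hψ' hψ'1 h0
    have := hApsi ψ' hψ' hψ'1
    rw [h0, zero_mul] at this
    exact hd0 this.symm
  -- (†)
  have hdag : ∀ ψ' : WChar W₁ W₂, TrivOn W₁ ψ' → ψ' ≠ 1 →
      ((a (muSum mu ψ') : ℕ) : ℂ) • E =
        tauM M (((g * a (muSum mu ψ') : ℕ) : ℂ) • muSum mu 1 - muSum mu ψ') +
          δ • etaSum η ψ' := by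
    intro ψ' hψ' hψ'1
    rw [hstar _ (hμZ ψ' hψ' hψ'1), hτ₁μ ψ' hψ' hψ'1]
    abel
  refine ⟨E, ?_, hstar, ?_, ?_, ?_⟩
  · -- generalized character
    exact (irrFacts G).gen_add (isom_gen hisoL hdom₀) (isom_gen hτ₁ (subset_zspan _ hξ₀))
  · -- `⟨E, 1⟩ = g`
    have hL : classInner (((a (muSum mu ψ) : ℕ) : ℂ) • E) (fun _ : G => (1 : ℂ)) =
        ((a (muSum mu ψ) : ℕ) : ℂ) * classInner E (fun _ : G => (1 : ℂ)) :=
      Cfsg.Agent.Lib.Helper25.classInner_smul_left _ _ _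
    have hR : classInner (tauM M (((g * a (muSum mu ψ) : ℕ) : ℂ) • muSum mu 1 - muSum mu ψ) +
          δ • etaSum η ψ) (fun _ : G => (1 : ℂ)) = ((g * a (muSum mu ψ) : ℕ) : ℂ) := by
      rw [Cfsg.Agent.Lib.Helper25.classInner_add_left,
        Cfsg.Agent.Lib.Helper25.classInner_smul_left,
        etaSum_inner_one hW F.hη ψ hψ hψ1, mul_zero, add_zero,
        hisoOne _ (hdom _ (hμZ ψ hψ hψ1)),
        Cfsg.Agent.Lib.Helper25.classInner_sub_left,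
        Cfsg.Agent.Lib.Helper25.classInner_smul_left, hμ₀one,
        (hcal _ (hZ (hμZ ψ hψ hψ1))).2.2.1, mul_one, sub_zero]
    have h1 : ((a (muSum mu ψ) : ℕ) : ℂ) * classInner E (fun _ : G => (1 : ℂ)) =
        ((g * a (muSum mu ψ) : ℕ) : ℂ) := by
      rw [← hL, hdag ψ hψ hψ1, hR]
    have hA := hA0 ψ hψ hψ1
    push_cast at h1
    have h2 : ((a (muSum mu ψ) : ℕ) : ℂ) * (classInner E (fun _ => 1) - (g : ℂ)) = 0 := by
      linear_combination h1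
    rcases mul_eq_zero.mp h2 with h3 | h3
    · exact absurd h3 hA
    · linear_combination h3
  · -- vanishing on `W \ (W₁ ∪ W₂)`
    intro w hw1 hw2
    have h1 := congrFun (hdag ψ hψ hψ1) (w : G)
    simp only [Pi.smul_apply, Pi.add_apply, smul_eq_mul] at h1
    rw [hisoW _ (hdom _ (hμZ ψ hψ hψ1)) w hw1 hw2, etaSum_apply_W hW F.hη ψ w hw1 hw2,
      mul_zero, add_zero] at h1
    rcases mul_eq_zero.mp h1 with h3 | h3
    · exact absurd h3 (hA0 ψ hψ hψ1)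
    · exact h3
  · -- Galois invariance
    intro σ
    have hψ' : TrivOn W₁ (galChar σ ψ) := hψ.galChar σ
    have hψ'1 : galChar σ ψ ≠ 1 := by
      intro h
      apply hψ1
      apply MonoidHom.ext
      intro w
      apply Units.ext
      have h1 : ((galChar σ ψ w : ℂˣ) : ℂ) = 1 := by rw [h]; rfl
      rw [galChar_apply] at h1
      have h2 : σ ((ψ w : ℂˣ) : ℂ) = σ 1 := by rw [h1, map_one]
      exact σ.injective h2
    have hgal1 : galChar σ (1 : WChar W₁ W₂) = 1 := by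
      apply MonoidHom.ext
      intro w
      apply Units.ext
      rw [galChar_apply]
      simp
    have hAA : a (muSum mu (galChar σ ψ)) = a (muSum mu ψ) := by
      have h1 := hApsi ψ hψ hψ1
      have h2 := hApsi _ hψ' hψ'1
      have h3 : ((a (muSum mu (galChar σ ψ)) : ℕ) : ℂ) = ((a (muSum mu ψ) : ℕ) : ℂ) := by
        have : (((a (muSum mu (galChar σ ψ)) : ℕ) : ℂ) - ((a (muSum mu ψ) : ℕ) : ℂ)) * (g : ℂ)
            = 0 := by linear_combination h2 - h1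
        rcases mul_eq_zero.mp this with h4 | h4
        · linear_combination h4
        · exact absurd h4 hg0
      exact_mod_cast h3
    have hσδ : σ δ = δ := by
      rcases F.hδ with h | h <;> rw [h] <;> simp
    have h1 := hdag ψ hψ hψ1
    have h2 := hdag _ hψ' hψ'1
    rw [hAA] at h2
    -- apply `σ` to `h1`
    have h3 : (fun x => σ ((tauM M (((g * a (muSum mu ψ) : ℕ) : ℂ) • muSum mu 1 - muSum mu ψ) +
          δ • etaSum η ψ) x)) =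
        tauM M (((g * a (muSum mu ψ) : ℕ) : ℂ) • muSum mu 1 - muSum mu (galChar σ ψ)) +
          δ • etaSum η (galChar σ ψ) := by
      funext x
      simp only [Pi.add_apply, Pi.smul_apply, smul_eq_mul, map_add, map_mul, hσδ]
      have h4 := congrFun (tauM_gal M σ
        (((g * a (muSum mu ψ) : ℕ) : ℂ) • muSum mu 1 - muSum mu ψ)) x
      have h5 : (fun m => σ ((((g * a (muSum mu ψ) : ℕ) : ℂ) • muSum mu 1 - muSum mu ψ) m)) =
          ((g * a (muSum mu ψ) : ℕ) : ℂ) • muSum mu 1 - muSum mu (galChar σ ψ) := by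
        funext m
        have h6 := congrFun (hmg σ 1) m
        have h7 := congrFun (hmg σ ψ) m
        rw [hgal1] at h6
        simp only [Pi.sub_apply, Pi.smul_apply, smul_eq_mul, map_sub, map_mul, map_natCast]
        rw [← h6, ← h7]
      rw [h5] at h4
      rw [← h4, congrFun (heg σ ψ) x]
    rw [← h1, ← h2] at h3
    funext x
    have h4 := congrFun h3 x
    simp only [Pi.smul_apply, smul_eq_mul, map_mul, map_natCast] at h4
    have h5 : ((a (muSum mu ψ) : ℕ) : ℂ) * (σ (E x) - E x) = 0 := by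
      linear_combination h4
    rcases mul_eq_zero.mp h5 with h6 | h6
    · exact absurd h6 (hA0 ψ hψ hψ1)
    · linear_combination h6

end Cfsg.Agent.Lib.Helper97.PF11
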