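import Mathlib
import Cfsg.Agent.Lib.Helper97.PFElevenECons
import Cfsg.Agent.Lib.Helper51.PFElevenDom
import Cfsg.Agent.Lib.Helper1.PFElevenGalB

/-!
# PROJECT PF, Peterfalvi section 11 (end game): module [E-CONS], final form (helper97)

`exists_E`: the exact statement of the module sheet `Lib/Helper64/PF11_MODULES.md`, obtained from
`exists_E_of` (file `PFElevenECons.lean`) by plugging in the landed modules [DOM]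
(`Helper51.PF11.tau_isometry`, `Helper51.PF11.calS0_inner`) and [GAL-B]
(`Helper1.PF11GalB.muSum_gal`, `Helper1.PF11GalB.etaSum_gal`).
-/

set_option autoImplicit false
set_option linter.unusedSectionVars false

namespace Cfsg.Agent.Lib.Helper97.PF11

open Cfsg Cfsg.Agent.Lib.Helper24.PFCyc Cfsg.Agent.Lib.Helper4.PF Cfsg.Agent.Lib.Helper64.PF11

universe u

variable {G : Type u} [Group G] [Fintype G] {M W₁ U W₂ : Subgroup G} [Fintype M]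
  {mu : WChar W₁ W₂ → (↥M → ℂ)} {dl : WChar W₁ W₂ → ℂ} {η : WChar W₁ W₂ → (G → ℂ)}
  {d : ℕ} {δ : ℂ} {n : ℤ}

/-- MODULE [E-CONS] -/
theorem exists_E (F : Frame M W₁ U W₂ mu dl η d δ n)
    (Z : Set (↥M → ℂ)) (hZ : Z ⊆ calS M)
    (hμZ : ∀ ψ : WChar W₁ W₂, TrivOn W₁ ψ → ψ ≠ 1 → muSum mu ψ ∈ Z)
    (τ₁ : (↥M → ℂ) → (G → ℂ)) (hτ₁ : IsLinearIsometryOn (zspan Z) τ₁)
    (hext : ∀ α ∈ zspanOn Z ({1}ᶜ : Set ↥M), τ₁ α = tauM M α)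
    (hτ₁μ : ∀ ψ : WChar W₁ W₂, TrivOn W₁ ψ → ψ ≠ 1 → τ₁ (muSum mu ψ) = δ • etaSum η ψ)
    (g : ℕ) (hg : 0 < g) (a : (↥M → ℂ) → ℕ)
    (ha : ∀ ξ ∈ Z, ξ 1 = ((Nat.card W₁ * g * a ξ : ℕ) : ℂ))
    (ξ₀ : ↥M → ℂ) (hξ₀ : ξ₀ ∈ Z) (ha₀ : a ξ₀ = 1) :
    ∃ E : G → ℂ, IsGeneralizedCharacter G E ∧
      (∀ ξ ∈ Z, tauM M (((g * a ξ : ℕ) : ℂ) • muSum mu 1 - ξ) = ((a ξ : ℕ) : ℂ) • E - τ₁ ξ) ∧
      classInner E (fun _ => 1) = (g : ℂ) ∧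
      (∀ w : ↥(W₁ ⊔ W₂), (w : G) ∉ W₁ → (w : G) ∉ W₂ → E (w : G) = 0) ∧
      (∀ σ : ℂ ≃+* ℂ, (fun x => σ (E x)) = E) :=
  exists_E_of F (Cfsg.Agent.Lib.Helper51.PF11.tau_isometry F)
    (Cfsg.Agent.Lib.Helper51.PF11.calS0_inner F)
    (fun σ ω => Cfsg.Agent.Lib.Helper1.PF11GalB.muSum_gal F σ ω)
    (fun σ ω => Cfsg.Agent.Lib.Helper1.PF11GalB.etaSum_gal F σ ω)
    Z hZ hμZ τ₁ hτ₁ hext hτ₁μ g hg a ha ξ₀ hξ₀ ha₀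

end Cfsg.Agent.Lib.Helper97.PF11
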