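import Mathlib
import Cfsg.Prelude.Def_PLocal
import Cfsg.Agent.S0624
import Cfsg.Agent.Lib.Helper97.PStable2

/-!
# Action-`p`-stability from a "quadratic elements act as `p`-elements" property (helper97)

`QuadStable p G`: for every normal elementary abelian `p`-subgroup `V` of `G` and every `a` acting
quadratically on `V`, `a` lies in a normal subgroup of `G` all of whose elements have a `p`-power
power centralizing `V`.  This is the common core of the three clauses of `Cfsg.IsActionPStable`; the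
generic lemmas below reduce `IsActionPStable p G` to `QuadStable` for `G`, for `G / Φ(O_p(G))` and for
the normalizers `N_G(J(S))`.
-/

set_option autoImplicit false

namespace Cfsg.Agent.Lib.Helper97

open Cfsg
open scoped commutatorElement

universe u

/-- Quadratic elements on normal elementary abelian `p`-subgroups act as `p`-elements. -/
def QuadStable (p : ℕ) (G : Type*) [Group G] : Prop :=
  ∀ (V : Subgroup G) [V.Normal], IsElementaryAbelian p V → ∀ a : G,
    ⁅⁅V, Subgroup.zpowers a⁆, Subgroup.zpowers a⁆ = ⊥ →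
      ∃ D : Subgroup G, D.Normal ∧ a ∈ D ∧
        ∀ d ∈ D, ∃ k : ℕ, d ^ (p ^ k) ∈ Subgroup.centralizer (V : Set G)

theorem isPStableOn_of_quadStable {G : Type u} [Group G] {p : ℕ}
    (hG : QuadStable p G) (V : Subgroup G) [V.Normal]
    (hV : IsElementaryAbelian p V) : IsPStableOn p V := by
  intro a ha
  obtain ⟨D, hDn, haD, hD⟩ := hG V hV a ha
  have hsurj := QuotientGroup.mk'_surjective (Subgroup.centralizer (V : Set G))
  have h1 : (D.map (QuotientGroup.mk' (Subgroup.centralizer (V : Set G)))).Normal :=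
    hDn.map _ hsurj
  have h2 : IsPGroup p (D.map (QuotientGroup.mk' (Subgroup.centralizer (V : Set G)))) := by
    rintro ⟨_, d, hd, rfl⟩
    obtain ⟨k, hk⟩ := hD d hd
    refine ⟨k, Subtype.ext ?_⟩
    rw [Subgroup.coe_pow, Subgroup.coe_one, ← map_pow]
    exact (QuotientGroup.eq_one_iff _).mpr hk
  exact le_pCore_of_normal h1 h2 (Subgroup.mem_map_of_mem _ haD)

/-- Section version: `Q / Φ` elementary abelian. -/
theorem isPStableOnSection_of_quadStable {G : Type u} [Group G] [Finite G] {p : ℕ}
    [Fact p.Prime] (Q Φ : Subgroup G) [hQn : Q.Normal]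
    [hΦn : Φ.Normal] (hG : QuadStable p (G ⧸ Φ)) (hcomm : ⁅Q, Q⁆ ≤ Φ) (hpow : ∀ x ∈ Q, x ^ p ∈ Φ) :
    IsPStableOnSection p Q Φ := by
  intro a ha
  have hsurj := QuotientGroup.mk'_surjective Φ
  set V' : Subgroup (G ⧸ Φ) := Q.map (QuotientGroup.mk' Φ) with hV'
  have hVn : V'.Normal := hQn.map _ hsurj
  have hVel : IsElementaryAbelian p V' := by
    refine ⟨⟨⟨?_⟩⟩, ?_⟩
    · rintro ⟨_, x, hx, rfl⟩ ⟨_, y, hy, rfl⟩
      apply Subtype.ext
      show (QuotientGroup.mk' Φ) x * (QuotientGroup.mk' Φ) y =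
        (QuotientGroup.mk' Φ) y * (QuotientGroup.mk' Φ) x
      have h1 : ⁅x, y⁆ ∈ Φ := hcomm (Subgroup.commutator_mem_commutator hx hy)
      have h2 : (QuotientGroup.mk' Φ) ⁅x, y⁆ = 1 := (QuotientGroup.eq_one_iff _).mpr h1
      rw [map_commutatorElement, commutatorElement_eq_one_iff_commute] at h2
      exact h2.eq
    · rintro _ ⟨x, hx, rfl⟩
      rw [← map_pow]
      exact (QuotientGroup.eq_one_iff _).mpr (hpow x hx)
  have hquad : ⁅⁅V', Subgroup.zpowers ((QuotientGroup.mk' Φ) a)⁆,
      Subgroup.zpowers ((QuotientGroup.mk' Φ) a)⁆ = ⊥ := by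
    rw [hV', ← MonoidHom.map_zpowers, ← Subgroup.map_commutator, ← Subgroup.map_commutator,
      eq_bot_iff]
    calc _ ≤ Φ.map (QuotientGroup.mk' Φ) := Subgroup.map_mono ha
      _ = ⊥ := QuotientGroup.map_mk'_self Φ
  obtain ⟨D', hD'n, haD', hD'⟩ := hG V' hVel _ hquad
  set C' : Subgroup (G ⧸ Φ) := Subgroup.centralizer (V' : Set (G ⧸ Φ)) with hC'
  have hC'n : C'.Normal := Subgroup.normal_centralizer
  have hker : sectionKernel Q Φ = C'.comap (QuotientGroup.mk' Φ) := rfl
  have hsupn : (D' ⊔ C').Normal := inferInstance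
  refine ⟨(D' ⊔ C').comap (QuotientGroup.mk' Φ), hsupn.comap _, ?_, ?_, ?_⟩
  · rw [hker]
    exact Subgroup.comap_mono le_sup_right
  · rw [hker, Subgroup.relIndex_comap, Subgroup.map_comap_eq_self_of_surjective hsurj,
      Subgroup.relIndex_sup_right]
    -- `D' / (C' ⊓ D')` is a `p`-group
    have hP : IsPGroup p (↥D' ⧸ C'.subgroupOf D') := by
      intro x
      obtain ⟨d, rfl⟩ := QuotientGroup.mk'_surjective (C'.subgroupOf D') x
      obtain ⟨k, hk⟩ := hD' d d.2
      refine ⟨k, ?_⟩
      rw [← map_pow]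
      refine (QuotientGroup.eq_one_iff _).mpr ?_
      rw [Subgroup.mem_subgroupOf, Subgroup.coe_pow]
      exact hk
    obtain ⟨k, hk⟩ := IsPGroup.iff_card.mp hP
    refine ⟨k, ?_⟩
    rw [Subgroup.relIndex, Subgroup.index_eq_card]
    exact hk
  · rw [Subgroup.mem_comap]
    exact Subgroup.mem_sup_left haD'

/-- `IsActionPStable` from `QuadStable` for `G`, `G / Φ(O_p(G))` and the normalizers `N_G(J(S))`. -/
theorem isActionPStable_of_quadStable {G : Type u} [Group G] [Finite G] {p : ℕ} [Fact p.Prime]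
    (hG : QuadStable p G)
    (hQ : QuadStable p (G ⧸ (frattini ↥(pCore p G)).map (pCore p G).subtype))
    (hN : ∀ S : Sylow p G,
      QuadStable p ↥(Subgroup.normalizer (thompsonSubgroupOf p (S : Subgroup G) : Set G))) :
    IsActionPStable p G := by
  refine ⟨fun V _ hV => isPStableOn_of_quadStable hG V hV, ?_, ?_⟩
  · exact isPStableOnSection_of_quadStable _ _ hQ
      (commutator_le_map_frattini (isPGroup_pCore p G))
      (fun x hx => pow_prime_mem_map_frattini (isPGroup_pCore p G) hx)
  · intro S V _ hle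
    apply isPStableOn_of_quadStable (hN S) V
    apply isElementaryAbelian_of_map_subtype
    exact isElementaryAbelian_mono hle (isElementaryAbelian_map _
      (Cfsg.Agent.S0624.isElementaryAbelian_omegaCenterThompson p _))

end Cfsg.Agent.Lib.Helper97
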