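import Mathlib
import Cfsg.Prelude.Def_PLocal
import Cfsg.Agent.S0595
import Cfsg.Agent.Lib.Helper97.PStableClass

/-!
# Groups with abelian Sylow `2`-subgroups are `QuadStable` for odd `p` (helper97)

The faithful setting of `Cfsg.Agent.S0595.result` is reached by passing to the holomorph-like group
`V ⋊ Aut V`, in which the image of `G` acts faithfully on the copy of `V`.
-/

set_option autoImplicit false

namespace Cfsg.Agent.Lib.Helper97

open Cfsg
open scoped commutatorElement

universe u

/-- abelian Sylow subgroups pass to homomorphic images -/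
theorem sylow_comm_of_surjective {G H : Type*} [Group G] [Finite G] [Group H] {q : ℕ}
    [Fact q.Prime] (f : G →* H) (hf : Function.Surjective f)
    (hab : ∀ T : Sylow q G, IsMulCommutative T) (T' : Sylow q H) : IsMulCommutative T' := by
  have hfin : Finite H := Finite.of_surjective _ hf
  obtain ⟨T₀⟩ : Nonempty (Sylow q G) := inferInstance
  have hT₀ : IsMulCommutative (T₀.mapSurjective hf : Subgroup H) := by
    have := hab T₀
    rw [Sylow.coe_mapSurjective]
    infer_instance
  obtain ⟨g, hg⟩ := MulAction.exists_smul_eq H (T₀.mapSurjective hf) T'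
  have hTc : ∀ s t : H, s ∈ T₀.mapSurjective hf → t ∈ T₀.mapSurjective hf → s * t = t * s := by
    intro s t hs ht
    have := hT₀.is_comm.comm (⟨s, hs⟩ : (T₀.mapSurjective hf : Subgroup H)) ⟨t, ht⟩
    exact congrArg Subtype.val this
  refine ⟨⟨fun s t => ?_⟩⟩
  have hs : (s : H) ∈ g • T₀.mapSurjective hf := by rw [hg]; exact s.2
  have ht : (t : H) ∈ g • T₀.mapSurjective hf := by rw [hg]; exact t.2
  rw [Cfsg.Agent.S0595.mem_sylow_smul] at hs ht
  have := hTc _ _ hs ht
  apply Subtype.ext
  show (s : H) * (t : H) = (t : H) * (s : H)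
  calc (s : H) * (t : H) = g * ((g⁻¹ * s * g) * (g⁻¹ * t * g)) * g⁻¹ := by group
    _ = g * ((g⁻¹ * t * g) * (g⁻¹ * s * g)) * g⁻¹ := by rw [this]
    _ = (t : H) * (s : H) := by group

/-- abelian Sylow subgroups pass to subgroups -/
theorem sylow_comm_of_subgroup {G : Type*} [Group G] [Finite G] {q : ℕ}
    [Fact q.Prime] (K : Subgroup G)
    (hab : ∀ T : Sylow q G, IsMulCommutative T) (T' : Sylow q K) : IsMulCommutative T' := by
  have h1 : IsPGroup q ((T' : Subgroup K).map K.subtype) := T'.2.map _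
  obtain ⟨Q, hQ⟩ := h1.exists_le_sylow
  have hQc := hab Q
  refine ⟨⟨fun s t => ?_⟩⟩
  have hs : ((s : K) : G) ∈ Q := hQ (Subgroup.mem_map_of_mem K.subtype s.2)
  have ht : ((t : K) : G) ∈ Q := hQ (Subgroup.mem_map_of_mem K.subtype t.2)
  have := hQc.is_comm.comm (⟨_, hs⟩ : Q) ⟨_, ht⟩
  have h2 := congrArg Subtype.val this
  apply Subtype.ext
  apply Subtype.ext
  exact h2

/-- **Glauberman**: for odd `p`, a finite group with abelian Sylow `2`-subgroups has the property that
quadratic elements on normal elementary abelian `p`-subgroups act as `p`-elements. -/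
theorem quadStable_of_abelian_sylow_two {G : Type u} [Group G] [Finite G] {p : ℕ} [Fact p.Prime]
    (hp : p ≠ 2) (hab : ∀ T : Sylow 2 G, IsMulCommutative T) : QuadStable p G := by
  intro V hVn hV a ha
  -- the ambient group `V ⋊ Aut V`
  have hfinW : Finite (V ⋊[MonoidHom.id (MulAut V)] MulAut V) :=
    Finite.of_equiv _ SemidirectProduct.equivProd.symm
  set il : V →* V ⋊[MonoidHom.id (MulAut V)] MulAut V := SemidirectProduct.inl with hil
  set ir : MulAut V →* V ⋊[MonoidHom.id (MulAut V)] MulAut V := SemidirectProduct.inr with hir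
  set c : G →* MulAut V := MulAut.conjNormal with hc
  set f : G →* V ⋊[MonoidHom.id (MulAut V)] MulAut V := ir.comp c with hf
  have hconj : ∀ (α : MulAut V) (v : V), ir α * il v * (ir α)⁻¹ = il (α v) := by
    intro α v
    rw [← map_inv]
    exact (SemidirectProduct.inl_aut (φ := MonoidHom.id (MulAut V)) α v).symm
  have hcapp : ∀ (g : G) (v : V), ((c g v : V) : G) = g * v * g⁻¹ := fun g v => rfl
  -- the copy of `V`
  have hV'n : il.range.Normal := by
    rw [hil, SemidirectProduct.range_inl_eq_ker_rightHom]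
    infer_instance
  have hV' : IsElementaryAbelian p il.range := by
    obtain ⟨hcV, hpV⟩ := hV
    refine ⟨⟨⟨?_⟩⟩, ?_⟩
    · rintro ⟨_, v, rfl⟩ ⟨_, w, rfl⟩
      apply Subtype.ext
      show il v * il w = il w * il v
      rw [← map_mul, ← map_mul, hcV.is_comm.comm v w]
    · rintro _ ⟨v, rfl⟩
      rw [← map_pow]
      have : v ^ p = 1 := Subtype.ext (hpV v v.2)
      rw [this, map_one]
  have hHV : f.range ≤ Subgroup.normalizer (il.range : Set _) := by
    rw [Subgroup.normalizer_eq_top]
    exact le_top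
  have hfaith : f.range ⊓ Subgroup.centralizer (il.range : Set _) = ⊥ := by
    rw [eq_bot_iff]
    rintro _ ⟨⟨g, rfl⟩, hg⟩
    rw [Subgroup.mem_bot]
    have h1 : c g = 1 := by
      apply MulEquiv.ext
      intro v
      have h2 := hg (il v) ⟨v, rfl⟩
      have h3 : il (c g v) = il v := by
        rw [← hconj]
        show f g * il v * (f g)⁻¹ = il v
        rw [← h2, mul_inv_cancel_right]
      exact SemidirectProduct.inl_injective h3
    show ir (c g) = 1
    rw [h1, map_one]
  -- quadratic action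
  have hsub : ⁅il.range, Subgroup.zpowers (f a)⁆ ≤ Subgroup.centralizer {f a} := by
    rw [Subgroup.commutator_le]
    rintro _ ⟨v, rfl⟩ z hz
    obtain ⟨i, rfl⟩ := Subgroup.mem_zpowers_iff.1 hz
    rw [← map_zpow]
    set α : MulAut V := c (a ^ i) with hα
    set w : V := v * α v⁻¹ with hw
    have h1 : ⁅il v, f (a ^ i)⁆ = il w := by
      rw [commutatorElement_def, hw, map_mul, ← hconj α v⁻¹, map_inv]
      show il v * ir α * (il v)⁻¹ * (ir α)⁻¹ = il v * (ir α * (il v)⁻¹ * (ir α)⁻¹)
      group
    have h2 : (w : G) = ⁅(v : G), a ^ i⁆ := by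
      rw [hw, Subgroup.coe_mul, hα, hcapp, commutatorElement_def, Subgroup.coe_inv]
      group
    have h3 : (w : G) ∈ ⁅V, Subgroup.zpowers a⁆ := by
      rw [h2]
      exact Subgroup.commutator_mem_commutator v.2 (Subgroup.zpow_mem_zpowers a i)
    have h4 : ⁅(w : G), a⁆ = 1 := by
      have : ⁅(w : G), a⁆ ∈ ⁅⁅V, Subgroup.zpowers a⁆, Subgroup.zpowers a⁆ :=
        Subgroup.commutator_mem_commutator h3 (Subgroup.mem_zpowers a)
      rw [ha] at this
      exact Subgroup.mem_bot.1 this
    rw [commutatorElement_eq_one_iff_commute] at h4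
    have h5 : c a w = w := by
      apply Subtype.ext
      rw [hcapp, ← h4.eq, mul_inv_cancel_right]
    rw [h1, Subgroup.mem_centralizer_iff]
    intro y hy
    rw [Set.mem_singleton_iff] at hy
    subst hy
    have h6 := hconj (c a) w
    rw [h5] at h6
    show f a * il w = il w * f a
    have h7 : ir (c a) = f a := rfl
    rw [h7] at h6
    calc f a * il w = f a * il w * (f a)⁻¹ * f a := by group
      _ = il w * f a := by rw [h6]
  have hq : ⁅⁅il.range, Subgroup.zpowers (f a)⁆, Subgroup.zpowers (f a)⁆ = ⊥ := by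
    rw [eq_bot_iff, Subgroup.commutator_le]
    intro x hx z hz
    rw [Subgroup.mem_bot, commutatorElement_eq_one_iff_commute]
    obtain ⟨j, rfl⟩ := Subgroup.mem_zpowers_iff.1 hz
    apply Commute.zpow_right
    have := hsub hx
    rw [Subgroup.mem_centralizer_iff] at this
    exact (this (f a) (Set.mem_singleton _)).symm
  -- a Sylow 2-subgroup of the image
  obtain ⟨T₀⟩ : Nonempty (Sylow 2 G) := inferInstance
  have hsurj : Function.Surjective f.rangeRestrict := f.rangeRestrict_surjective
  have hT : IsMulCommutative (T₀.mapSurjective hsurj : Subgroup f.range) := by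
    have := hab T₀
    rw [Sylow.coe_mapSurjective]
    infer_instance
  have hmem : f a ∈ (Cfsg.pCore p f.range).map f.range.subtype := by
    by_contra hna
    exact Cfsg.Agent.S0595.result hp il.range f.range hV' hHV hfaith (f a) ⟨a, rfl⟩ hq hna
      (T₀.mapSurjective hsurj) hT
  refine ⟨((Cfsg.pCore p f.range).map f.range.subtype).comap f, ⟨?_⟩, hmem, ?_⟩
  · intro d hd g
    rw [Subgroup.mem_comap] at hd ⊢
    obtain ⟨x, hx, hxd⟩ := hd
    rw [map_mul, map_mul, map_inv, ← hxd]
    have hn : (Cfsg.pCore p f.range).Normal := inferInstance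
    refine ⟨(⟨f g, g, rfl⟩ : f.range) * x * (⟨f g, g, rfl⟩ : f.range)⁻¹, hn.conj_mem x hx _, rfl⟩
  · intro d hd
    rw [Subgroup.mem_comap] at hd
    obtain ⟨x, hx, hxd⟩ := hd
    obtain ⟨k, hk⟩ := isPGroup_pCore p f.range ⟨x, hx⟩
    refine ⟨k, ?_⟩
    have h1 : x ^ (p ^ k) = 1 := congrArg Subtype.val hk
    have h2 : f (d ^ (p ^ k)) = 1 := by
      rw [map_pow, ← hxd, ← map_pow, h1, map_one]
    have h3 : c (d ^ (p ^ k)) = 1 := by
      apply SemidirectProduct.inr_injective (φ := MonoidHom.id (MulAut V))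
      show f (d ^ (p ^ k)) = ir 1
      rw [h2, map_one]
    rw [Subgroup.mem_centralizer_iff]
    intro v hv
    have h4 := hcapp (d ^ (p ^ k)) ⟨v, hv⟩
    rw [h3] at h4
    have h5 : v = d ^ (p ^ k) * v * (d ^ (p ^ k))⁻¹ := h4
    calc v * d ^ (p ^ k) = d ^ (p ^ k) * v * (d ^ (p ^ k))⁻¹ * d ^ (p ^ k) := by rw [← h5]
      _ = d ^ (p ^ k) * v := by group

end Cfsg.Agent.Lib.Helper97
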