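import Mathlib
import Cfsg.Agent.Lib.Helper17.BT.Defs
import Cfsg.Agent.Lib.Helper74.PRegGen
import Cfsg.Agent.S4731

/-!
# S0998 module [BT-TOOL1] (helper97)

`bt_block_sum_dvd`: in the Brauer–Tuan configuration `BTData`, for a prime `q ≠ p` and a
`q`-block `Bq`, `q^b` divides `∑_{χ ∈ X ∩ Bq} a χ χ(1) - [Y ⊆ Bq] ε θ(1)` (from S4731).
-/

set_option autoImplicit false
set_option linter.unusedSectionVars false

namespace Cfsg.Agent.Lib.Helper97.BTTool

open Cfsg
open scoped ComplexConjugate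
open Cfsg.Agent.Lib.Helper17.BT

variable {G : Type*} [Group G] [Finite G] {p : ℕ} [Fact p.Prime] {M : Ideal Cfsg.AlgInt}
  {P : Sylow p G} {e t : ℕ} {ε : ℤ} {a : IrrCharacter G → ℤ} {X Y : Finset (IrrCharacter G)}

/-- there is an element of order `p` in `P` -/
theorem bt_exists_x (D : BTData p M P e t ε a X Y) :
    ∃ x : G, x ∈ (P : Subgroup G) ∧ x ≠ 1 ∧ orderOf x = p := by
  have hp : p.Prime := Fact.out
  have hcard := D.hPcard
  have hne : (P : Subgroup G) ≠ ⊥ := by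
    intro h
    rw [h, Subgroup.card_bot] at hcard
    exact hp.one_lt.ne hcard
  obtain ⟨⟨x, hx⟩, hx1'⟩ := (Subgroup.ne_bot_iff_exists_ne_one).mp hne
  have hx1 : x ≠ 1 := fun h => hx1' (Subtype.ext h)
  refine ⟨x, hx, hx1, ?_⟩
  have hdvd : orderOf x ∣ p := by
    have := Subgroup.orderOf_dvd_natCard (P : Subgroup G) hx
    rwa [hcard] at this
  rcases (Nat.dvd_prime hp).mp hdvd with h | h
  · exact absurd (orderOf_eq_one_iff.mp h) hx1
  · exact h

/-- no element of order `p q` -/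
theorem bt_no_pq (D : BTData p M P e t ε a X Y) (q : ℕ) (hq : q.Prime) (g : G) :
    orderOf g ≠ p * q := by
  have hp : p.Prime := Fact.out
  intro hg
  have hq0 : q ≠ 0 := hq.ne_zero
  have hx' : orderOf (g ^ q) = p := by
    rw [orderOf_pow_of_dvd hq0 (by rw [hg]; exact dvd_mul_left q p), hg]
    exact Nat.mul_div_cancel _ hq.pos
  -- zpowers (g^q) is a p-group
  have hpg : IsPGroup p (Subgroup.zpowers (g ^ q)) := by
    apply IsPGroup.of_card (n := 1)
    rw [Nat.card_zpowers, hx', pow_one]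
  obtain ⟨Q, hQ⟩ := hpg.exists_le_sylow
  obtain ⟨c, hc⟩ := MulAction.exists_smul_eq G Q P
  have hmem : c * g ^ q * c⁻¹ ∈ (P : Subgroup G) := by
    have h1 : g ^ q ∈ (Q : Subgroup G) := hQ (Subgroup.mem_zpowers _)
    have h2 : c * g ^ q * c⁻¹ ∈ ((c • Q : Sylow p G) : Subgroup G) := by
      rw [Sylow.coe_subgroup_smul]
      exact Subgroup.mem_smul_pointwise_iff_exists _ _ _ |>.mpr
        ⟨g ^ q, h1, by simp [MulAut.smul_def, MulAut.conj_apply]⟩
    rwa [hc] at h2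
  have hne1 : c * g ^ q * c⁻¹ ≠ 1 := by
    intro h
    have : g ^ q = 1 := by
      have := congrArg (fun z => c⁻¹ * z * c) h
      simpa [mul_assoc] using this
    rw [this, orderOf_one] at hx'
    exact hp.one_lt.ne hx'
  have hcent := D.hcent _ hmem hne1
  have hgc : c * g * c⁻¹ ∈ Subgroup.centralizer ({c * g ^ q * c⁻¹} : Set G) := by
    rw [Subgroup.mem_centralizer_iff]
    intro z hz
    rw [Set.mem_singleton_iff] at hz
    subst hz
    have hcomm' : g ^ q * g = g * g ^ q := by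
      rw [← pow_succ, ← pow_succ']
    calc c * g ^ q * c⁻¹ * (c * g * c⁻¹) = c * (g ^ q * g) * c⁻¹ := by group
      _ = c * (g * g ^ q) * c⁻¹ := by rw [hcomm']
      _ = c * g * c⁻¹ * (c * g ^ q * c⁻¹) := by group
  rw [hcent] at hgc
  have hdvd : orderOf (c * g * c⁻¹) ∣ p := by
    have := Subgroup.orderOf_dvd_natCard (P : Subgroup G) hgc
    rwa [D.hPcard] at this
  have hoc : orderOf (c * g * c⁻¹) = orderOf g := (MulAut.conj c).orderOf_eq g
  rw [hoc, hg] at hdvd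
  have : p * q ∣ p * 1 := by simpa using hdvd
  have := Nat.dvd_of_mul_dvd_mul_left hp.pos this
  exact hq.one_lt.ne' (Nat.dvd_one.mp this)

open scoped Classical in
/-- MODULE [BT-TOOL1] -/
theorem bt_block_sum_dvd (D : BTData p M P e t ε a X Y) (hM : IsPModular p M) (q : ℕ)
    [Fact q.Prime] (hpq : p ≠ q) (Mq : Ideal Cfsg.AlgInt) (hMq : IsPModular q Mq) (b : ℕ)
    (hb : (Nat.card G).factorization q = b) (Bq : Set (IrrCharacter G)) (hBq : IsPBlock Mq Bq)
    (hY : (∀ θ ∈ Y, θ ∈ Bq) ∨ (∀ θ ∈ Y, θ ∉ Bq)) :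
    ((q : ℤ) ^ b) ∣ (∑ χ ∈ X.filter (fun χ => χ ∈ Bq), a χ * (charDegree (χ : G → ℂ) : ℤ)) -
      (if ∀ θ ∈ Y, θ ∈ Bq then ε * ((if ε = 1 then e else p - e : ℕ) : ℤ) else 0) := by
  have hp : p.Prime := Fact.out
  have hq : q.Prime := Fact.out
  obtain ⟨x, hxP, hx1, hxo⟩ := bt_exists_x D
  -- the principal block is a block
  obtain ⟨χ₁, hχ₁X, hχ₁⟩ := D.htriv
  have hBp : IsPBlock M (principalBlock M G) := ⟨χ₁, by rw [hχ₁]; rfl⟩
  obtain ⟨ω, hω⟩ := Cfsg.Agent.S4731.result p q hpq M Mq hM hMq (fun g => bt_no_pq D q hq g) b hb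
    (principalBlock M G) hBp Bq hBq x (by rw [hxo])
  -- rewrite the finsum as a finset sum
  have hset : (principalBlock M G ∩ Bq : Set (IrrCharacter G)) =
      ↑((X ∪ Y).filter (fun χ => χ ∈ Bq)) := by
    ext χ
    simp only [Set.mem_inter_iff, Finset.coe_filter, Finset.mem_union, Set.mem_ofPred_eq]
    rw [D.hmem]
  rw [hset, finsum_mem_coe_finset, Finset.filter_union,
    Finset.sum_union (Finset.disjoint_filter_filter D.hdisj)] at hω
  -- the X part
  have hXpart : ∑ χ ∈ X.filter (fun χ => χ ∈ Bq),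
      ((charDegree (χ : G → ℂ) : ℂ) * (χ : G → ℂ) x) =
      ((∑ χ ∈ X.filter (fun χ => χ ∈ Bq), a χ * (charDegree (χ : G → ℂ) : ℤ) : ℤ) : ℂ) := by
    push_cast
    apply Finset.sum_congr rfl
    intro χ hχ
    rw [D.hXval χ (Finset.mem_filter.mp hχ).1 x hxP hx1]
    ring
  -- degrees on Y
  have hdeg : ∀ θ ∈ Y, charDegree (θ : G → ℂ) = (if ε = 1 then e else p - e : ℕ) := by
    intro θ hθ
    unfold charDegree
    rw [D.hdegY θ hθ]
    split_ifs
    · simp
    · simp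
  have hYne : Y.Nonempty := by
    rw [← Finset.card_pos, D.hYcard]
    exact lt_of_lt_of_le (by norm_num) D.ht
  -- the Y part
  have hYpart : ∑ θ ∈ Y.filter (fun χ => χ ∈ Bq),
      ((charDegree (θ : G → ℂ) : ℂ) * (θ : G → ℂ) x) =
      ((-(if ∀ θ ∈ Y, θ ∈ Bq then ε * ((if ε = 1 then e else p - e : ℕ) : ℤ) else 0) : ℤ) : ℂ) := by
    rcases hY with hY | hY
    · rw [if_pos hY, Finset.filter_true_of_mem hY]
      have h1 : ∑ θ ∈ Y, ((charDegree (θ : G → ℂ) : ℂ) * (θ : G → ℂ) x) =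
          (((if ε = 1 then e else p - e : ℕ) : ℕ) : ℂ) * ∑ θ ∈ Y, (θ : G → ℂ) x := by
        rw [Finset.mul_sum]
        apply Finset.sum_congr rfl
        intro θ hθ
        rw [hdeg θ hθ]
      rw [h1, D.hYsum x hxP hx1]
      push_cast
      ring
    · have hnot : ¬ ∀ θ ∈ Y, θ ∈ Bq := by
        intro h
        obtain ⟨θ, hθ⟩ := hYne
        exact hY θ hθ (h θ hθ)
      rw [if_neg hnot, Finset.filter_false_of_mem hY]
      simp
  rw [hXpart, hYpart, ← Int.cast_add] at hω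
  -- integrality
  set z : ℤ := (∑ χ ∈ X.filter (fun χ => χ ∈ Bq), a χ * (charDegree (χ : G → ℂ) : ℤ)) -
      (if ∀ θ ∈ Y, θ ∈ Bq then ε * ((if ε = 1 then e else p - e : ℕ) : ℤ) else 0) with hz
  have hzω : (z : ℂ) = (q : ℂ) ^ b * (ω : ℂ) := by
    rw [← hω, hz]
    push_cast
    ring
  have hqb : (q ^ b : ℕ) ≠ 0 := pow_ne_zero _ hq.ne_zero
  have hint : IsIntegral ℤ ((z : ℂ) / ((q ^ b : ℕ) : ℂ)) := by
    have : (z : ℂ) / ((q ^ b : ℕ) : ℂ) = (ω : ℂ) := by
      rw [hzω]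
      push_cast
      have : (q : ℂ) ^ b ≠ 0 := pow_ne_zero _ (by exact_mod_cast hq.ne_zero)
      field_simp
    rw [this]
    exact ω.2
  have := Cfsg.Agent.Lib.Helper74.int_dvd_of_isIntegral_div hqb hint
  exact_mod_cast this

end Cfsg.Agent.Lib.Helper97.BTTool
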