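import Mathlib
import Cfsg.Prelude.Def_FischerSpaces
import Cfsg.Agent.S5345
import Cfsg.Agent.Lib.Helper96.BaerSuzuki
import Cfsg.Agent.Lib.Helper97.Cores

/-!
# 3-transpositions: the blocks `V_d` and the largest normal `2`-subgroup (helper97)

For a conjugation-invariant set `D` of 3-transpositions of a finite group, `Sim D a b` says that
`a, b ∈ D` commute with exactly the same members of `D`.  For `v ~ w` the involution `v * w` maps every
`b ∈ D` to a member of the block of `b` (`conj_sim`); hence the products `v * w` (`v ~ w`) generate a normal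
`2`-subgroup by the Baer–Suzuki theorem (`pairProd_le_pCore`).
-/

set_option autoImplicit false

namespace Cfsg.Agent.Lib.Helper97

open Cfsg

variable {G : Type*} [Group G]

/-- `a` and `b` are members of `D` commuting with the same members of `D`. -/
def Sim (D : Set G) (a b : G) : Prop :=
  a ∈ D ∧ b ∈ D ∧ ∀ e ∈ D, Commute a e ↔ Commute b e

theorem Sim.refl {D : Set G} {a : G} (ha : a ∈ D) : Sim D a a := ⟨ha, ha, fun _ _ => Iff.rfl⟩

theorem Sim.symm {D : Set G} {a b : G} (h : Sim D a b) : Sim D b a :=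
  ⟨h.2.1, h.1, fun e he => (h.2.2 e he).symm⟩

theorem Sim.trans {D : Set G} {a b c : G} (h : Sim D a b) (h' : Sim D b c) : Sim D a c :=
  ⟨h.1, h'.2.1, fun e he => (h.2.2 e he).trans (h'.2.2 e he)⟩

theorem Sim.commute {D : Set G} {a b : G} (h : Sim D a b) : Commute a b :=
  ((h.2.2 a h.1).1 (Commute.refl a)).symm

theorem Sim.conj {D : Set G} (hconj : ∀ g : G, ∀ d ∈ D, g * d * g⁻¹ ∈ D) {a b : G} (h : Sim D a b)
    (g : G) : Sim D (g * a * g⁻¹) (g * b * g⁻¹) := by
  refine ⟨hconj g a h.1, hconj g b h.2.1, fun e he => ?_⟩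
  have he' : g⁻¹ * e * g ∈ D := by simpa using hconj g⁻¹ e he
  have key : ∀ x : G, Commute (g * x * g⁻¹) e ↔ Commute x (g⁻¹ * e * g) := by
    intro x
    constructor
    · intro hc
      have h1 : g * x * g⁻¹ * e = e * (g * x * g⁻¹) := hc
      show x * (g⁻¹ * e * g) = g⁻¹ * e * g * x
      calc x * (g⁻¹ * e * g) = g⁻¹ * (g * x * g⁻¹ * e) * g := by group
        _ = g⁻¹ * (e * (g * x * g⁻¹)) * g := by rw [h1]
        _ = g⁻¹ * e * g * x := by group
    · intro hc
      have h1 : x * (g⁻¹ * e * g) = g⁻¹ * e * g * x := hc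
      show g * x * g⁻¹ * e = e * (g * x * g⁻¹)
      calc g * x * g⁻¹ * e = g * (x * (g⁻¹ * e * g)) * g⁻¹ := by group
        _ = g * (g⁻¹ * e * g * x) * g⁻¹ := by rw [h1]
        _ = e * (g * x * g⁻¹) := by group
  rw [key a, key b]
  exact h.2.2 _ he'

section three

variable {D : Set G} (hD : IsThreeTranspositionSet D)
include hD

theorem tt_sq_one {x : G} (hx : x ∈ D) : x * x = 1 := by
  have := pow_orderOf_eq_one x
  rw [hD.1 x hx, pow_two] at this
  exact this

theorem tt_inv {x : G} (hx : x ∈ D) : x⁻¹ = x :=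
  (eq_inv_of_mul_eq_one_right (tt_sq_one hD hx)).symm

/-- braid relation for non-commuting 3-transpositions -/
theorem tt_braid {a b : G} (ha : a ∈ D) (hb : b ∈ D) (hab : ¬ Commute a b) :
    a * b * a = b * a * b := by
  have ha2 := tt_sq_one hD ha
  have hb2 := tt_sq_one hD hb
  rcases hD.2 a ha b hb with h | h
  · exact absurd (S5345.comm_of_sq ha2 hb2 h) hab
  · have h3 : a * b * (a * b) * (a * b) = 1 := by
      rw [← h, pow_succ, pow_two]
    calc a * b * a = (a * b * (a * b) * (a * b)) * (b * a * b)⁻¹ := by group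
      _ = (b * a * b)⁻¹ := by rw [h3, one_mul]
      _ = b⁻¹ * a⁻¹ * b⁻¹ := by group
      _ = b * a * b := by rw [tt_inv hD ha, tt_inv hD hb]

end three

/-- word identity: `(b v b) v (b v b) = b` under the braid relation -/
theorem tt_word1 {v b : G} (hv2 : v * v = 1) (hb2 : b * b = 1) (hbr : v * b * v = b * v * b) :
    (b * v * b) * v * (b * v * b) = b := by
  calc (b * v * b) * v * (b * v * b) = (v * b * v) * v * (b * v * b) := by rw [hbr]
    _ = v * b * (v * v) * (b * v * b) := by group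
    _ = v * b * (b * v * b) := by rw [hv2, mul_one]
    _ = v * (b * b) * v * b := by group
    _ = v * v * b := by rw [hb2, mul_one]
    _ = b := by rw [hv2, one_mul]

/-- if `v` commutes with `b v b` (braid relation) then `v` commutes with `b` -/
theorem tt_word2 {v b : G} (hv2 : v * v = 1) (hbr : v * b * v = b * v * b)
    (h : v * (b * v * b) = (b * v * b) * v) : v * b = b * v := by
  rw [← hbr] at h
  calc v * b = v * (v * (v * b * v)) * v := by
        have : v * (v * (v * b * v)) * v = (v * v) * (v * b) * (v * v) := by group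
        rw [this, hv2, one_mul, mul_one]
    _ = v * (v * b * v * v) * v := by rw [h]
    _ = (v * v) * b * (v * v) * v := by group
    _ = b * v := by rw [hv2, one_mul, mul_one]

/-- **Key lemma**: for `v ~ w` the element `v * w` maps every member `b` of `D` into the block of `b`. -/
theorem conj_sim {D : Set G} (hD : IsThreeTranspositionSet D)
    (hconj : ∀ g : G, ∀ d ∈ D, g * d * g⁻¹ ∈ D) {v w b : G} (hvw : Sim D v w) (hb : b ∈ D) :
    Sim D ((v * w) * b * (v * w)⁻¹) b := by
  have hv := hvw.1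
  have hw := hvw.2.1
  have hv2 := tt_sq_one hD hv
  have hw2 := tt_sq_one hD hw
  have hb2 := tt_sq_one hD hb
  have hvi := tt_inv hD hv
  have hwi := tt_inv hD hw
  have hbi := tt_inv hD hb
  have hvwc : v * w = w * v := hvw.commute
  by_cases hvb : Commute v b
  · have hwb : Commute w b := (hvw.2.2 b hb).1 hvb
    have : (v * w) * b * (v * w)⁻¹ = b := by
      have h1 : v * b = b * v := hvb
      have h2 : w * b = b * w := hwb
      calc (v * w) * b * (v * w)⁻¹ = v * (w * b) * w⁻¹ * v⁻¹ := by group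
        _ = v * (b * w) * w⁻¹ * v⁻¹ := by rw [h2]
        _ = (v * b) * v⁻¹ := by group
        _ = b * v * v⁻¹ := by rw [h1]
        _ = b := by group
    rw [this]
    exact Sim.refl hb
  · have hbr : v * b * v = b * v * b := tt_braid hD hv hb hvb
    have hcD : b * v * b ∈ D := by
      have := hconj b v hv
      rwa [hbi] at this
    have hvc : ¬ Commute v (b * v * b) := fun hcomm => hvb (tt_word2 hv2 hbr hcomm)
    have hwc : ¬ Commute w (b * v * b) := fun hcomm => hvc ((hvw.2.2 _ hcD).2 hcomm)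
    have hbr2 : w * (b * v * b) * w = (b * v * b) * w * (b * v * b) := tt_braid hD hw hcD hwc
    have h1 : (v * w) * b * (v * w)⁻¹ = (b * v * b) * w * (b * v * b)⁻¹ := by
      calc (v * w) * b * (v * w)⁻¹ = (w * v) * b * (w * v)⁻¹ := by rw [hvwc]
        _ = w * (v * b * v⁻¹) * w⁻¹ := by group
        _ = w * (v * b * v) * w := by rw [hvi, hwi]
        _ = w * (b * v * b) * w := by rw [hbr]
        _ = (b * v * b) * w * (b * v * b) := hbr2
        _ = (b * v * b) * w * (b * v * b)⁻¹ := by rw [tt_inv hD hcD]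
    have h2 : (b * v * b) * v * (b * v * b)⁻¹ = b := by
      rw [tt_inv hD hcD]
      exact tt_word1 hv2 hb2 hbr
    have h3 := Sim.conj hconj hvw.symm (b * v * b)
    rw [← h1, h2] at h3
    exact h3

/-- the products `v * w` with `v ~ w` -/
def pairProd (D : Set G) : Set G := {t | ∃ v w, Sim D v w ∧ t = v * w}

theorem pairProd_conj {D : Set G} (hconj : ∀ g : G, ∀ d ∈ D, g * d * g⁻¹ ∈ D) {t : G}
    (ht : t ∈ pairProd D) (g : G) : g * t * g⁻¹ ∈ pairProd D := by
  obtain ⟨v, w, hvw, rfl⟩ := ht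
  exact ⟨g * v * g⁻¹, g * w * g⁻¹, hvw.conj hconj g, by group⟩

theorem pairProd_sq {D : Set G} (hD : IsThreeTranspositionSet D) {t : G} (ht : t ∈ pairProd D) :
    t * t = 1 := by
  obtain ⟨v, w, hvw, rfl⟩ := ht
  have hc : v * w = w * v := hvw.commute
  calc v * w * (v * w) = v * (w * v) * w := by group
    _ = v * (v * w) * w := by rw [hc]
    _ = (v * v) * (w * w) := by group
    _ = 1 := by rw [tt_sq_one hD hvw.1, tt_sq_one hD hvw.2.1, one_mul]

/-- conjugating by an element `g` with `g * S * g⁻¹ ⊆ closure S` and the same for `g⁻¹` -/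
theorem mem_normalizer_closure_of_conj {S : Set G} {g : G}
    (h1 : ∀ s ∈ S, g * s * g⁻¹ ∈ Subgroup.closure S)
    (h2 : ∀ s ∈ S, g⁻¹ * s * g ∈ Subgroup.closure S) :
    g ∈ Subgroup.normalizer (Subgroup.closure S : Set G) := by
  have key : ∀ (k : G), (∀ s ∈ S, k * s * k⁻¹ ∈ Subgroup.closure S) →
      ∀ x ∈ Subgroup.closure S, k * x * k⁻¹ ∈ Subgroup.closure S := by
    intro k hk x hx
    induction hx using Subgroup.closure_induction with
    | mem x hx => exact hk x hx
    | one => simp
    | mul x y _ _ ihx ihy =>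
      have : k * (x * y) * k⁻¹ = (k * x * k⁻¹) * (k * y * k⁻¹) := by group
      rw [this]
      exact Subgroup.mul_mem _ ihx ihy
    | inv x _ ih =>
      have : k * x⁻¹ * k⁻¹ = (k * x * k⁻¹)⁻¹ := by group
      rw [this]
      exact Subgroup.inv_mem _ ih
  rw [Subgroup.mem_normalizer_iff]
  intro x
  constructor
  · exact key g h1 x
  · intro hx
    have := key g⁻¹ (by simpa using h2) _ hx
    have h3 : g⁻¹ * (g * x * g⁻¹) * g⁻¹⁻¹ = x := by group
    rwa [h3] at this

/-- any two elements of `pairProd D` generate a `2`-group -/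
theorem pairProd_pair {D : Set G} (hD : IsThreeTranspositionSet D)
    (hconj : ∀ g : G, ∀ d ∈ D, g * d * g⁻¹ ∈ D) {a b : G} (ha : a ∈ pairProd D)
    (hb : b ∈ pairProd D) : IsPGroup 2 (Subgroup.closure ({a, b} : Set G)) := by
  obtain ⟨x, y, hxy, rfl⟩ := hb
  -- the even part of the block of `x`
  set S : Set G := {t | ∃ x' y', Sim D x x' ∧ Sim D x y' ∧ t = x' * y'} with hS
  have hSsub : S ⊆ pairProd D := by
    rintro t ⟨x', y', hx', hy', rfl⟩
    exact ⟨x', y', hx'.symm.trans hy', rfl⟩
  have hR : IsPGroup 2 (Subgroup.closure S) := by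
    apply S5345.isPGroup_two_closure
    · intro t ht
      exact pairProd_sq hD (hSsub ht)
    · rintro _ ⟨x₁, y₁, hx₁, hy₁, rfl⟩ _ ⟨x₂, y₂, hx₂, hy₂, rfl⟩
      have c1 : x₁ * x₂ = x₂ * x₁ := (hx₁.symm.trans hx₂).commute
      have c2 : x₁ * y₂ = y₂ * x₁ := (hx₁.symm.trans hy₂).commute
      have c3 : y₁ * x₂ = x₂ * y₁ := (hy₁.symm.trans hx₂).commute
      have c4 : y₁ * y₂ = y₂ * y₁ := (hy₁.symm.trans hy₂).commute
      calc x₁ * y₁ * (x₂ * y₂) = x₁ * (y₁ * x₂) * y₂ := by group
        _ = x₁ * (x₂ * y₁) * y₂ := by rw [c3]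
        _ = (x₁ * x₂) * (y₁ * y₂) := by group
        _ = (x₂ * x₁) * (y₂ * y₁) := by rw [c1, c4]
        _ = x₂ * (x₁ * y₂) * y₁ := by group
        _ = x₂ * (y₂ * x₁) * y₁ := by rw [c2]
        _ = x₂ * y₂ * (x₁ * y₁) := by group
  have hainv : a⁻¹ = a := (eq_inv_of_mul_eq_one_right (pairProd_sq hD ha)).symm
  have hconjS : ∀ s ∈ S, a * s * a⁻¹ ∈ Subgroup.closure S := by
    rintro _ ⟨x', y', hx', hy', rfl⟩
    obtain ⟨v, w, hvw, rfl⟩ := ha
    apply Subgroup.subset_closure
    refine ⟨v * w * x' * (v * w)⁻¹, v * w * y' * (v * w)⁻¹, ?_, ?_, by group⟩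
    · exact hx'.trans (conj_sim hD hconj hvw hx'.2.1).symm
    · exact hy'.trans (conj_sim hD hconj hvw hy'.2.1).symm
  have hnorm : a ∈ Subgroup.normalizer (Subgroup.closure S : Set G) := by
    apply mem_normalizer_closure_of_conj hconjS
    intro s hs
    have := hconjS s hs
    rw [hainv] at this ⊢
    exact this
  have hza : IsPGroup 2 (Subgroup.zpowers a) := by
    rintro ⟨h, hh⟩
    obtain ⟨k, rfl⟩ := Subgroup.mem_zpowers_iff.1 hh
    refine ⟨1, Subtype.ext ?_⟩
    show (a ^ k) ^ (2 ^ 1) = 1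
    rw [pow_one, ← zpow_natCast, ← zpow_mul, mul_comm, zpow_mul, zpow_natCast, pow_two,
      pairProd_sq hD ha, one_zpow]
  have hsup : IsPGroup 2 (Subgroup.zpowers a ⊔ Subgroup.closure S : Subgroup G) :=
    IsPGroup.to_sup_of_normal_right' hza hR (by rw [Subgroup.zpowers_le]; exact hnorm)
  refine hsup.to_le ?_
  rw [Subgroup.closure_le]
  intro z hz
  rcases hz with rfl | hz
  · exact Subgroup.mem_sup_left (Subgroup.mem_zpowers _)
  · rw [Set.mem_singleton_iff] at hz
    subst hz
    exact Subgroup.mem_sup_right (Subgroup.subset_closure ⟨x, y, Sim.refl hxy.1, hxy, rfl⟩)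

/-- **The products `v * w`, `v ~ w`, lie in `O_2(G)`.** -/
theorem pairProd_le_pCore [Finite G] {D : Set G} (hD : IsThreeTranspositionSet D)
    (hconj : ∀ g : G, ∀ d ∈ D, g * d * g⁻¹ ∈ D) :
    Subgroup.closure (pairProd D) ≤ pCore 2 G := by
  have : Fact (Nat.Prime 2) := ⟨Nat.prime_two⟩
  have hp : IsPGroup 2 (Subgroup.closure (pairProd D)) :=
    Cfsg.Agent.Lib.Helper96.isPGroup_closure_of_pairwise (pairProd D)
      (fun k hk g => pairProd_conj hconj hk g)
      (fun a ha b hb => pairProd_pair hD hconj ha hb)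
  have hn : (Subgroup.closure (pairProd D)).Normal := by
    refine ⟨fun n hn g => ?_⟩
    have := mem_normalizer_closure_of_conj (S := pairProd D) (g := g)
      (fun s hs => Subgroup.subset_closure (pairProd_conj hconj hs g))
      (fun s hs => Subgroup.subset_closure (by simpa using pairProd_conj hconj hs g⁻¹))
    exact (Subgroup.mem_normalizer_iff.1 this n).1 hn
  exact le_pCore_of_normal hn hp

end Cfsg.Agent.Lib.Helper97
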