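import Cfsg.Agent.S1401
import Cfsg.Agent.S1451
import Cfsg.Agent.S1395
import Cfsg.Agent.Lib.Helper54.UqTrans
import Cfsg.Agent.Lib.Helper54.UqEight
import Cfsg.Agent.Lib.Helper54.Transitivity
import Cfsg.Agent.Lib.Helper24.FittingStructure2

/-!
# Bender–Glauberman Lemma 9.5, Step 1

`A ∈ SCN_3(P)` not a uniqueness subgroup, `M` a maximal subgroup containing `C_G(A)`.  Then there is a
prime `q ≠ p` such that every maximal `A`-invariant `q`-subgroup `Q` of `G` satisfies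
`Q ≤ N_G(Q) ≤ M`; consequently `N_G(X) ≤ M` for every `p`-subgroup `X ⊇ A`.
-/

set_option autoImplicit false

namespace Cfsg.Agent.Lib.Helper97.BG95

open scoped Pointwise
open Cfsg Cfsg.Agent.Lib.Helper54

variable {G : Type*} [Group G]

/-- transport of `Q ≤ N_G(Q) ≤ M` along the transitive action of `K ≤ M` -/
theorem forall_maxInv_of_one {A M K : Subgroup G} {q : ℕ} (hKM : K ≤ M)
    (htr : ∀ Q₁ ∈ maxInvSubgroups ⊤ A {q}, ∀ Q₂ ∈ maxInvSubgroups ⊤ A {q},
      ∃ k ∈ K, Q₂ = Q₁.map (MulAut.conj k).toMonoidHom)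
    {Q : Subgroup G} (hQ : Q ∈ maxInvSubgroups ⊤ A {q})
    (hNM : Subgroup.normalizer (Q : Set G) ≤ M) :
    ∀ Q' ∈ maxInvSubgroups ⊤ A {q}, Q' ≤ M ∧ Subgroup.normalizer (Q' : Set G) ≤ M := by
  intro Q' hQ'
  obtain ⟨k, hk, rfl⟩ := htr Q hQ Q' hQ'
  have h2 : Subgroup.normalizer ((Q.map (MulAut.conj k).toMonoidHom : Subgroup G) : Set G) ≤ M := by
    intro x hx
    have h3 : k⁻¹ * x * k ∈ Subgroup.normalizer (Q : Set G) := by
      rw [Subgroup.mem_normalizer_iff] at hx ⊢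
      intro h
      have h4 := hx (k * h * k⁻¹)
      constructor
      · intro hh
        have h5 : k * h * k⁻¹ ∈ Q.map (MulAut.conj k).toMonoidHom := ⟨h, hh, by simp⟩
        obtain ⟨y, hy, hy'⟩ := h4.mp h5
        have : y = k⁻¹ * x * k * h * (k⁻¹ * x * k)⁻¹ := by
          simp only [MulEquiv.coe_toMonoidHom, MulAut.conj_apply] at hy'
          have : y = k⁻¹ * (k * y * k⁻¹) * k := by group
          rw [this, hy']; group
        rwa [← this]
      · intro hh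
        have h5 : x * (k * h * k⁻¹) * x⁻¹ ∈ Q.map (MulAut.conj k).toMonoidHom := by
          refine ⟨k⁻¹ * x * k * h * (k⁻¹ * x * k)⁻¹, hh, ?_⟩
          simp only [MulEquiv.coe_toMonoidHom, MulAut.conj_apply]
          group
        obtain ⟨y, hy, hy'⟩ := h4.mpr h5
        simp only [MulEquiv.coe_toMonoidHom, MulAut.conj_apply] at hy'
        have : y = h := by
          have : y = k⁻¹ * (k * y * k⁻¹) * k := by group
          rw [this, hy']; group
        rwa [← this]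
    have h6 : x = k * (k⁻¹ * x * k) * k⁻¹ := by group
    rw [h6]
    exact M.mul_mem (M.mul_mem (hKM hk) (hNM h3)) (M.inv_mem (hKM hk))
  exact ⟨Subgroup.le_normalizer.trans h2, h2⟩


/-- an abelian subgroup of rank at least three inside `O_q(M)`, from `r_q(F(M)) ≥ 3` -/
theorem exists_core_of_not_pRankLE_fittingOf [Finite G] (M : Subgroup G) (q : ℕ) [Fact q.Prime]
    (hF : ¬ PRankLE q 2 ↥(fittingOf M)) :
    ∃ V X : Subgroup G, IsPGroup q V ∧ V ≤ M ∧ M ≤ Subgroup.normalizer (V : Set G) ∧ X ≤ V ∧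
      IsPGroup q X ∧ IsMulCommutative X ∧ ¬ PRankLE q 2 ↥X := by
  unfold PRankLE at hF
  push Not at hF
  obtain ⟨X0, hX0c, hX0e, hX0card⟩ := hF
  set X : Subgroup G := X0.map (fittingOf M).subtype with hX
  have hXF : X ≤ fittingOf M := Subgroup.map_subtype_le _
  have hXM : X ≤ M := hXF.trans (Subgroup.map_subtype_le _)
  have hXcomm : ∀ x ∈ X, ∀ y ∈ X, x * y = y * x := by
    rintro _ ⟨x, hx, rfl⟩ _ ⟨y, hy, rfl⟩
    have h2 : (⟨x, hx⟩ : X0) * ⟨y, hy⟩ = ⟨y, hy⟩ * ⟨x, hx⟩ := hX0c.is_comm.comm _ _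
    have h3 : x * y = y * x := congrArg Subtype.val h2
    show ((fittingOf M).subtype x) * ((fittingOf M).subtype y) = _
    rw [← map_mul, h3, map_mul]
  have hXexp : ∀ x ∈ X, x ^ q = 1 := by
    rintro _ ⟨x, hx, rfl⟩
    rw [← map_pow, hX0e x hx, map_one]
  have hXcard : q ^ 2 < Nat.card X := by
    rw [hX, Subgroup.card_map_of_injective (Subgroup.subtype_injective _)]
    exact hX0card
  have hXp : IsPGroup q X := by
    intro x
    refine ⟨1, ?_⟩
    rw [pow_one]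
    apply Subtype.ext
    simpa using hXexp x x.2
  have hXc : IsMulCommutative X := by
    refine ⟨⟨?_⟩⟩
    rintro ⟨x, hx⟩ ⟨y, hy⟩
    apply Subtype.ext
    exact hXcomm x hx y hy
  have hXr : ¬ PRankLE q 2 ↥X := not_pRankLE_of_elemAb le_rfl hXcomm hXexp hXcard
  refine ⟨(pCore q ↥M).map M.subtype, X, (Cfsg.Agent.Lib.Helper1.pCore_isPGroup q).map _,
    Subgroup.map_subtype_le _, le_normalizer_map_subtype M _, ?_, hXp, hXc, hXr⟩
  have h1 : X.subgroupOf M ≤ pCore q ↥M := by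
    apply Cfsg.Agent.Lib.Helper24.le_pCore_of_le_fittingSubgroup q _ (isPGroup_subgroupOf hXM hXp)
    intro y hy
    rw [Subgroup.mem_subgroupOf] at hy
    obtain ⟨z, hz, hzy⟩ := hXF hy
    have : z = y := Subtype.ext hzy
    rwa [← this]
  intro x hx
  exact ⟨⟨x, hXM hx⟩, h1 (by rw [Subgroup.mem_subgroupOf]; exact hx), rfl⟩


/-- a nontrivial `q`-subgroup of a nonabelian simple group has a proper normalizer -/
theorem normalizer_ne_top_of_isPGroup [Finite G] (hs : IsSimpleGroup G) (hnc : ¬ IsMulCommutative G)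
    {q : ℕ} [Fact q.Prime] {Q : Subgroup G} (hQ : IsPGroup q Q) (hQ1 : Q ≠ ⊥) :
    Subgroup.normalizer (Q : Set G) ≠ ⊤ :=
  normalizer_ne_top_of_simple hs hQ1 (ne_top_of_isPGroup hs hnc hQ)

/-- **Step 1, case `r(F(M)) ≥ 3`**, in a form that also serves Step 3. -/
theorem step1_rank_three [Finite G] (hG : IsMinSimpleOddOrder G) (p : ℕ) [Fact p.Prime]
    (P : Sylow p G) (A : Subgroup G) (hscn : IsSCN (P : Subgroup G) A) (hA3 : ¬ PRankLE p 2 ↥A)
    (hAU : ¬ InUniqueMaximal A) (M : Subgroup G) (hM : IsCoatom M)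
    (hCM : Subgroup.centralizer (A : Set G) ≤ M) (hF : ¬ RankLE 2 ↥(fittingOf M)) :
    ∃ t : ℕ, t.Prime ∧ t ≠ p ∧ ∃ V : Subgroup G, IsPGroup t V ∧ ¬ PRankLE t 2 ↥V ∧ V ≤ M ∧
      M ≤ Subgroup.normalizer (V : Set G) ∧
      (∀ H : Subgroup G, H ≠ ⊤ → V ≤ H → H ≤ M) ∧
      (∀ T ∈ maxInvSubgroups ⊤ A {t}, V ≤ T ∧ T ≤ M ∧ Subgroup.normalizer (T : Set G) ≤ M) ∧
      (∀ X : Subgroup G, IsPGroup t X → IsMulCommutative X → ¬ PRankLE t 2 ↥X →
        InUniqueMaximal X) := by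
  have hp : p.Prime := Fact.out
  have hs : IsSimpleGroup G := hG.2.1
  have hnc : ¬ IsMulCommutative G := hG.2.2.1
  obtain ⟨hTH, hAp, hAc, hπ, htr⟩ := scn_transitivity hG p P A hscn hA3
  have hKC : piCoreOf (primesNotDvd (Nat.card A)) (Subgroup.centralizer (A : Set G)) ≤
      Subgroup.centralizer (A : Set G) := Subgroup.map_subtype_le _
  have hKM := hKC.trans hCM
  have hAC : A ≤ Subgroup.centralizer (A : Set G) := by
    intro a ha
    rw [Subgroup.mem_centralizer_iff]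
    intro b hb
    exact congrArg Subtype.val (hAc.is_comm.comm ⟨b, hb⟩ ⟨a, ha⟩)
  have hAM : A ≤ M := hAC.trans hCM
  unfold RankLE at hF
  push Not at hF
  obtain ⟨t, ht, hFt⟩ := hF
  have : Fact t.Prime := ⟨ht⟩
  have hUt : ∀ X : Subgroup G, IsPGroup t X → IsMulCommutative X → ¬ PRankLE t 2 ↥X →
      InUniqueMaximal X := fun X hXp hXc hXr => Cfsg.Agent.S1401.result hG M hM t hFt X hXp hXc hXr
  have htp : t ≠ p := by
    rintro rfl
    exact hAU (hUt A hAp hAc hA3)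
  obtain ⟨V, X, hVt, hVM, hMV, hXV, hXt, hXc, hXr⟩ := exists_core_of_not_pRankLE_fittingOf M t hFt
  have hVr : ¬ PRankLE t 2 ↥V := fun h => hXr (pRankLE_of_le hXV h)
  -- `X`, hence `V`, lies in the unique maximal subgroup `M`
  obtain ⟨M', hM', hXM', hu⟩ := exists_forall_of_inUniqueMaximal (hUt X hXt hXc hXr)
  have hMM' : M' = M := (hu M hM (hXV.trans hVM)).symm
  subst hMM'
  have hVuniq : ∀ H : Subgroup G, H ≠ ⊤ → V ≤ H → H ≤ M' := fun H hH hVH =>
    le_of_unique_coatom hu hH (hXV.trans hVH)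
  refine ⟨t, ht, htp, V, hVt, hVr, hVM, hMV, hVuniq, ?_, hUt⟩
  -- one maximal invariant `t`-subgroup above `V`
  have hV1 : V ≠ ⊥ := by
    rintro rfl
    apply hVr
    intro B _ _
    have : Nat.card B = 1 := by
      have : Subsingleton (⊥ : Subgroup G) := inferInstance
      have : Subsingleton B := inferInstance
      exact Nat.card_unique
    rw [this]
    exact Nat.one_le_pow _ _ ht.pos
  have hVinv : V ∈ invSubgroups ⊤ A {t} :=
    (mem_invSubgroups_iff A t).mpr ⟨hVt, hAM.trans hMV⟩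
  obtain ⟨T0, hT0, hVT0⟩ := exists_maxInv_ge A t hVinv
  have hT0t : IsPGroup t T0 := ((mem_invSubgroups_iff A t).mp hT0.1).1
  have hT01 : T0 ≠ ⊥ := fun h => hV1 (le_bot_iff.mp (h ▸ hVT0))
  have hNT0 : Subgroup.normalizer (T0 : Set G) ≤ M' :=
    hVuniq _ (normalizer_ne_top_of_isPGroup hs hnc hT0t hT01) (hVT0.trans Subgroup.le_normalizer)
  intro T hT
  obtain ⟨h1, h2⟩ := forall_maxInv_of_one hKM (htr t ht htp) hT0 hNT0 T hT
  refine ⟨?_, h1, h2⟩
  -- `V ≤ T`: `T = T0^k`, `k ∈ M` normalizes `V`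
  obtain ⟨k, hk, rfl⟩ := htr t ht htp T0 hT0 T hT
  intro v hv
  have hkN : k ∈ Subgroup.normalizer (V : Set G) := hMV (hKM hk)
  have h3 : k⁻¹ * v * k⁻¹⁻¹ ∈ V :=
    (Subgroup.mem_normalizer_iff.mp (Subgroup.inv_mem _ hkN) v).mp hv
  refine ⟨k⁻¹ * v * k⁻¹⁻¹, hVT0 h3, ?_⟩
  simp only [MulEquiv.coe_toMonoidHom, MulAut.conj_apply]
  group


/-- **Step 1, case `r(F(M)) ≤ 2`** (Sylow tower). -/
theorem step1_rank_two [Finite G] (hG : IsMinSimpleOddOrder G) (p : ℕ) [Fact p.Prime]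
    (P : Sylow p G) (A : Subgroup G) (hscn : IsSCN (P : Subgroup G) A) (hA3 : ¬ PRankLE p 2 ↥A)
    (M : Subgroup G) (hM : IsCoatom M)
    (hCM : Subgroup.centralizer (A : Set G) ≤ M) (hF : RankLE 2 ↥(fittingOf M)) :
    ∃ q : ℕ, q.Prime ∧ q ≠ p ∧
      ∀ Q ∈ maxInvSubgroups ⊤ A {q}, Q ≤ M ∧ Subgroup.normalizer (Q : Set G) ≤ M := by
  have hp : p.Prime := Fact.out
  have hs : IsSimpleGroup G := hG.2.1
  have hnc : ¬ IsMulCommutative G := hG.2.2.1
  obtain ⟨hTH, hAp, hAc, hπ, htr⟩ := scn_transitivity hG p P A hscn hA3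
  have hKC : piCoreOf (primesNotDvd (Nat.card A)) (Subgroup.centralizer (A : Set G)) ≤
      Subgroup.centralizer (A : Set G) := Subgroup.map_subtype_le _
  have hKM := hKC.trans hCM
  have hAC : A ≤ Subgroup.centralizer (A : Set G) := by
    intro a ha
    rw [Subgroup.mem_centralizer_iff]
    intro b hb
    exact congrArg Subtype.val (hAc.is_comm.comm ⟨b, hb⟩ ⟨a, ha⟩)
  have hAM : A ≤ M := hAC.trans hCM
  have hMsolv : Group.IsSolvable M := hG.2.2.2 M hM.1
  have hModd : Odd (Nat.card M) := odd_card_subgroup hG.1 M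
  have hF' : RankLE 2 (fittingSubgroup ↥M) := fun r hr =>
    (pRankLE_map_subtype_iff M (fittingSubgroup ↥M)).mp (hF r hr)
  have htower := (Cfsg.Agent.S1451.result (G := ↥M) hModd (Or.inr hF')).2.2
  -- the largest prime divisor `q` of `|M|`
  have hM1 : M ≠ ⊥ := fun h => hTH.1 (le_bot_iff.mp (h ▸ hAM))
  have hcard1 : Nat.card M ≠ 1 := fun h => hM1 (Subgroup.card_eq_one.mp h)
  have hne : (Nat.card M).primeFactors.Nonempty := by
    obtain ⟨r, hr, hrd⟩ := Nat.exists_prime_and_dvd hcard1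
    exact ⟨r, Nat.mem_primeFactors.mpr ⟨hr, hrd, Nat.card_pos.ne'⟩⟩
  set q := (Nat.card M).primeFactors.max' hne with hqdef
  have hqmem : q ∈ (Nat.card M).primeFactors := Finset.max'_mem _ _
  have hq : q.Prime := (Nat.mem_primeFactors.mp hqmem).1
  have hqM : q ∣ Nat.card M := (Nat.mem_primeFactors.mp hqmem).2.1
  have hqmax : ∀ r : ℕ, r.Prime → r ∣ Nat.card M → r ≤ q := fun r hr hrd =>
    Finset.le_max' _ _ (Nat.mem_primeFactors.mpr ⟨hr, hrd, Nat.card_pos.ne'⟩)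
  have : Fact q.Prime := ⟨hq⟩
  obtain ⟨N, hNchar, hNhall⟩ := htower (q - 1)
  have hNn : N.Normal := inferInstance
  have hNq : IsPGroup q N := by
    apply IsPGroup.of_card (n := (Nat.card N).primeFactorsList.length)
    apply Nat.eq_prime_pow_of_unique_prime_dvd Nat.card_pos.ne'
    intro r hr hrd
    have h1 := hNhall.1 r hr hrd
    have h2 : r ≤ q := hqmax r hr (hrd.trans (Subgroup.card_subgroup_dvd_card N))
    have h3 : q - 1 < r := h1.2
    omega
  have hNidx : ¬ q ∣ N.index := hNhall.2 q hq ⟨hq, Nat.sub_lt hq.pos one_pos⟩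
  have hNidx' : N.index.Coprime q := ((Nat.Prime.coprime_iff_not_dvd hq).mpr hNidx).symm
  -- `q ≠ p`
  have hqp : q ≠ p := by
    rintro rfl
    have h1 : A.subgroupOf M ≤ N :=
      le_of_normal_of_index_coprime N hNidx' (isPGroup_subgroupOf hAM hAp)
    have h2 : N ≤ fittingSubgroup ↥M :=
      Cfsg.Agent.Lib.Helper1.le_fittingSubgroup hNn hNq.isNilpotent
    have h3 : A ≤ fittingOf M := by
      intro a ha
      exact ⟨⟨a, hAM ha⟩, h2 (h1 (by rw [Subgroup.mem_subgroupOf]; exact ha)), rfl⟩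
    exact hA3 (pRankLE_of_le h3 (hF q hp))
  refine ⟨q, hq, hqp, ?_⟩
  set Q : Subgroup G := N.map M.subtype with hQ
  have hQq : IsPGroup q Q := hNq.map _
  have hQM : Q ≤ M := Subgroup.map_subtype_le _
  have hMQ : M ≤ Subgroup.normalizer (Q : Set G) := le_normalizer_map_subtype M N
  have hN1 : N ≠ ⊥ := by
    rintro rfl
    rw [Subgroup.index_bot] at hNidx
    exact hNidx hqM
  have hQ1 : Q ≠ ⊥ := by
    intro h
    apply hN1
    rw [hQ] at h
    exact (Subgroup.map_eq_bot_iff_of_injective _ (Subgroup.subtype_injective _)).mp h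
  have hNQ : Subgroup.normalizer (Q : Set G) = M :=
    haveI := hs
    normalizer_eq_of_coatom hM hQM hQ1 hMQ
  -- `Q` is a maximal `A`-invariant `q`-subgroup
  have hQinv : Q ∈ invSubgroups ⊤ A {q} := (mem_invSubgroups_iff A q).mpr ⟨hQq, hAM.trans hMQ⟩
  have hQmax : Q ∈ maxInvSubgroups ⊤ A {q} := by
    refine ⟨hQinv, ?_⟩
    intro R hR hQR
    have hRq : IsPGroup q R := ((mem_invSubgroups_iff A q).mp hR).1
    have h1 := eq_of_isPGroup_ge_of_normalizer_le M (hNq.toSylow hNidx)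
      (by rw [IsPGroup.toSylow_coe]; exact hNQ.le) hRq (by rw [IsPGroup.toSylow_coe]; exact hQR)
    rw [IsPGroup.toSylow_coe] at h1
    exact h1
  exact forall_maxInv_of_one hKM (htr q hq hqp) hQmax hNQ.le

/-- **Step 1 of BG 9.5.** -/
theorem step1 [Finite G] (hG : IsMinSimpleOddOrder G) (p : ℕ) [Fact p.Prime]
    (P : Sylow p G) (A : Subgroup G) (hscn : IsSCN (P : Subgroup G) A) (hA3 : ¬ PRankLE p 2 ↥A)
    (hAU : ¬ InUniqueMaximal A) (M : Subgroup G) (hM : IsCoatom M)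
    (hCM : Subgroup.centralizer (A : Set G) ≤ M) :
    ∃ q : ℕ, q.Prime ∧ q ≠ p ∧
      ∀ Q ∈ maxInvSubgroups ⊤ A {q}, Q ≤ M ∧ Subgroup.normalizer (Q : Set G) ≤ M := by
  by_cases hF : RankLE 2 ↥(fittingOf M)
  · exact step1_rank_two hG p P A hscn hA3 M hM hCM hF
  · obtain ⟨t, ht, htp, V, -, -, -, -, -, hT, -⟩ :=
      step1_rank_three hG p P A hscn hA3 hAU M hM hCM hF
    exact ⟨t, ht, htp, fun Q hQ => (hT Q hQ).2⟩


/-- **Step 1, consequence**: `M` contains the normalizer of every `p`-subgroup containing `A`. -/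
theorem normalizer_le_of_pGroup_ge [Finite G] (hG : IsMinSimpleOddOrder G) (p : ℕ) [Fact p.Prime]
    (P : Sylow p G) (A : Subgroup G) (hscn : IsSCN (P : Subgroup G) A) (hA3 : ¬ PRankLE p 2 ↥A)
    (hAU : ¬ InUniqueMaximal A) (M : Subgroup G) (hM : IsCoatom M)
    (hCM : Subgroup.centralizer (A : Set G) ≤ M) (X : Subgroup G) (hX : IsPGroup p X)
    (hAX : A ≤ X) : Subgroup.normalizer (X : Set G) ≤ M := by
  have hp : p.Prime := Fact.out
  have hs : IsSimpleGroup G := hG.2.1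
  have hnc : ¬ IsMulCommutative G := hG.2.2.1
  obtain ⟨hTH, hAp, hAc, hπ, htr⟩ := scn_transitivity hG p P A hscn hA3
  have hKC : piCoreOf (primesNotDvd (Nat.card A)) (Subgroup.centralizer (A : Set G)) ≤
      Subgroup.centralizer (A : Set G) := Subgroup.map_subtype_le _
  have hKM := hKC.trans hCM
  obtain ⟨q, hq, hqp, hQM⟩ := step1 hG p P A hscn hA3 hAU M hM hCM
  have : Fact q.Prime := ⟨hq⟩
  have hpA : p ∣ Nat.card A := dvd_card_of_isPGroup_ne_bot hAp hTH.1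
  have hqA : ¬ q ∣ Nat.card A := by
    intro h
    obtain ⟨j, hj⟩ := hAp.exists_card_eq
    rw [hj] at h
    exact hqp ((Nat.prime_dvd_prime_iff_eq hq hp).mp (hq.dvd_of_dvd_pow h))
  have hXπ : ∀ r : ℕ, r.Prime → r ∣ Nat.card X → r ∣ Nat.card A := by
    intro r hr hrd
    obtain ⟨j, hj⟩ := hX.exists_card_eq
    rw [hj] at hrd
    have : r = p := (Nat.prime_dvd_prime_iff_eq hr hp).mp (hr.dvd_of_dvd_pow hrd)
    rw [this]
    exact hpA
  have hsn : (A.subgroupOf X).IsSubnormal := by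
    have : Group.IsNilpotent X := hX.isNilpotent
    exact isSubnormal_of_nilpotent _
  obtain ⟨h1, -, h3, h4⟩ := Cfsg.Agent.S1395.result hG A hTH q hq hqA X
    (ne_top_of_isPGroup hs hnc hX) hXπ hAX hsn (htr q hq hqp)
  have hbot : (⊥ : Subgroup G) ∈ invSubgroups ⊤ X {q} := bot_mem_invSubgroups ⊤ X q
  obtain ⟨Q, hQ, -⟩ := exists_maxInv_ge X q hbot
  have hNQ : Subgroup.normalizer (Q : Set G) ≤ M := (hQM Q (h3 hQ)).2
  rw [(h4 Q hQ).2, ← h1]
  exact sup_le (inf_le_left.trans hKM) (inf_le_right.trans hNQ)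

/-- **Step 3, first half**: `A ≤ M'` forces `r(F(M)) ≥ 3`. -/
theorem not_rankLE_fittingOf [Finite G] (hG : IsMinSimpleOddOrder G) (p : ℕ) (hp : p.Prime)
    (A : Subgroup G) (hA3 : ¬ PRankLE p 2 ↥A) (M : Subgroup G) (hM : IsCoatom M)
    (hAM' : A ≤ ⁅M, M⁆) : ¬ RankLE 2 ↥(fittingOf M) := by
  intro hF
  have hMsolv : Group.IsSolvable M := hG.2.2.2 M hM.1
  have hModd : Odd (Nat.card M) := odd_card_subgroup hG.1 M
  have hF' : RankLE 2 (fittingSubgroup ↥M) := fun r hr =>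
    (pRankLE_map_subtype_iff M (fittingSubgroup ↥M)).mp (hF r hr)
  have hnil := (Cfsg.Agent.S1451.result (G := ↥M) hModd (Or.inr hF')).1
  have h1 : commutator ↥M ≤ fittingSubgroup ↥M :=
    Cfsg.Agent.Lib.Helper1.le_fittingSubgroup inferInstance hnil
  have h2 : A ≤ fittingOf M := by
    rw [← Subgroup.map_subtype_commutator] at hAM'
    exact hAM'.trans (Subgroup.map_mono h1)
  exact hA3 (pRankLE_of_le h2 (hF p hp))

/-- **Step 3**: the data `t`, `V = O_t(M)` attached to a maximal subgroup `M ⊇ C_G(A)` with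
`r(F(M)) ≥ 3`. -/
theorem step3 [Finite G] (hG : IsMinSimpleOddOrder G) (p : ℕ) [Fact p.Prime]
    (P : Sylow p G) (A : Subgroup G) (hscn : IsSCN (P : Subgroup G) A) (hA3 : ¬ PRankLE p 2 ↥A)
    (hAU : ¬ InUniqueMaximal A) (M : Subgroup G) (hM : IsCoatom M)
    (hCM : Subgroup.centralizer (A : Set G) ≤ M) (hF : ¬ RankLE 2 ↥(fittingOf M)) :
    ∃ t : ℕ, t.Prime ∧ t ≠ p ∧ ∃ V : Subgroup G, IsPGroup t V ∧ ¬ PRankLE t 2 ↥V ∧ V ≤ M ∧
      M ≤ Subgroup.normalizer (V : Set G) ∧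
      (∀ H : Subgroup G, H ≠ ⊤ → V ≤ H → H ≤ M) ∧
      (∀ T ∈ maxInvSubgroups ⊤ A {t}, V ≤ T ∧ T ≤ M ∧ Subgroup.normalizer (T : Set G) ≤ M) ∧
      (∀ X : Subgroup G, IsPGroup t X → IsMulCommutative X → ¬ PRankLE t 2 ↥X →
        InUniqueMaximal X) :=
  step1_rank_three hG p P A hscn hA3 hAU M hM hCM hF

end Cfsg.Agent.Lib.Helper97.BG95
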