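import Mathlib
import Cfsg.Prelude.Def_OddOrderLocal
import Cfsg.Agent.Lib.Helper52.NilpSub
import Cfsg.Agent.Lib.Helper62.PiHall
import Cfsg.Agent.Lib.Helper54.Coprime
import Cfsg.Agent.Lib.Helper23.TypeP

/-!
# B&G Lemma 15.3, group-theoretic part  (helper97)

Pure finite group theory used for S1438 (`sigma_Hall_tame`):

* `mem_hall_of_nilpotent`, `le_normalizer_hall_of_nilpotent`, `hall_unique_of_nilpotent`:
  Hall subgroups of a nilpotent subgroup.
* `exists_conj_centralizing`: `N` solvable with a normal Sylow `q`-subgroup `Q` all of whose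
  complements are nilpotent; `H, H'` Hall subgroups of `N` of the same order, `y ∈ H ∩ H'`.
  Then `H' = a H a⁻¹` for some `a ∈ Q` commuting with `y`.
-/

set_option autoImplicit false

namespace Cfsg.Agent.Lib.Helper97.BGFifteenThree

open Cfsg Pointwise

variable {G : Type*} [Group G]

/-- In a nilpotent subgroup `D`, an element of order `p ^ k` with `p ∣ |H₁|` lies in the Hall
subgroup `H₁`. -/
theorem mem_hall_of_nilpotent [Finite G] {D H₁ : Subgroup G} (hD : Group.IsNilpotent D)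
    (hle : H₁ ≤ D) (hcop : (Nat.card H₁).Coprime (H₁.relIndex D)) {p k : ℕ} (hp : p.Prime)
    (hpH : p ∣ Nat.card H₁) {x : G} (hx : x ∈ D) (hxo : orderOf x = p ^ k) : x ∈ H₁ := by
  have : Fact p.Prime := ⟨hp⟩
  obtain ⟨P, hPD, hPp, hPmem⟩ := Cfsg.Agent.Lib.Helper52.exists_pSubgroup_of_nilpotent D hD p
  -- a Sylow `p`-subgroup of `H₁`
  let S : Sylow p H₁ := default
  set S' : Subgroup G := (S : Subgroup H₁).map H₁.subtype with hS'
  have hS'H : S' ≤ H₁ := Subgroup.map_subtype_le _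
  have hS'p : IsPGroup p S' := S.isPGroup'.map _
  have hS'P : S' ≤ P := by
    intro s hs
    have hsD : s ∈ D := hle (hS'H hs)
    obtain ⟨j, hj⟩ := (IsPGroup.iff_orderOf.mp hS'p) ⟨s, hs⟩
    rw [Subgroup.orderOf_mk] at hj
    exact hPmem s hsD j hj
  have hcardS : Nat.card S' = p ^ (Nat.card H₁).factorization p := by
    rw [hS', Subgroup.card_map_of_injective H₁.subtype_injective]
    exact S.card_eq_multiplicity
  obtain ⟨m, hm⟩ := hPp.exists_card_eq
  have hcardD : Nat.card H₁ * H₁.relIndex D = Nat.card D :=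
    Cfsg.Agent.Lib.Helper54.card_mul_relIndex hle
  have hpr : ¬ p ∣ H₁.relIndex D := by
    intro h
    have := Nat.dvd_gcd hpH h
    rw [hcop] at this
    exact hp.one_lt.ne' (Nat.dvd_one.mp this)
  have hr0 : H₁.relIndex D ≠ 0 := by
    intro h
    rw [h, mul_zero] at hcardD
    exact (Nat.card_pos (α := D)).ne' hcardD.symm
  have hfac : (Nat.card D).factorization p = (Nat.card H₁).factorization p := by
    rw [← hcardD, Nat.factorization_mul Nat.card_pos.ne' hr0]
    simp [Nat.factorization_eq_zero_of_not_dvd hpr]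
  have hmle : m ≤ (Nat.card H₁).factorization p := by
    rw [← hfac]
    have h1 : p ^ m ∣ Nat.card D := hm ▸ Subgroup.card_dvd_of_le hPD
    exact (hp.pow_dvd_iff_le_factorization Nat.card_pos.ne').mp h1
  have hPS : P = S' := by
    symm
    apply Subgroup.eq_of_le_of_card_ge hS'P
    rw [hm, hcardS]
    exact Nat.pow_le_pow_right hp.pos hmle
  have hxP : x ∈ P := hPmem x hx k hxo
  rw [hPS] at hxP
  exact hS'H hxP

/-- A Hall subgroup of a nilpotent subgroup is normal in it. -/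
theorem le_normalizer_hall_of_nilpotent [Finite G] {D H₁ : Subgroup G} (hD : Group.IsNilpotent D)
    (hle : H₁ ≤ D) (hcop : (Nat.card H₁).Coprime (H₁.relIndex D)) :
    D ≤ Subgroup.normalizer (H₁ : Set G) := by
  apply Cfsg.Agent.Lib.Helper52.le_of_forall_primePow_order_mem
  intro x hx q k hq hxo
  by_cases hqH : q ∣ Nat.card H₁
  · exact Subgroup.le_normalizer (mem_hall_of_nilpotent hD hle hcop hq hqH hx hxo)
  · rw [Subgroup.mem_normalizer_iff]
    intro h
    have key : ∀ h ∈ H₁, x * h * x⁻¹ = h := by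
      intro h hh
      have hho : orderOf h ∣ Nat.card H₁ := by
        have := orderOf_dvd_natCard (⟨h, hh⟩ : H₁)
        rwa [Subgroup.orderOf_mk] at this
      have hc : (orderOf x).Coprime (orderOf h) := by
        rw [hxo]
        apply Nat.Coprime.pow_left
        exact Nat.Coprime.coprime_dvd_right hho ((Nat.Prime.coprime_iff_not_dvd hq).mpr hqH)
      have := Cfsg.Agent.Lib.Helper52.comm_of_coprime_of_mem_nilpotent D hD hx (hle hh) hc
      rw [this, mul_inv_cancel_right]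
    constructor
    · intro hh
      rw [key h hh]; exact hh
    · intro hh
      have h4 : x * (x * h * x⁻¹) * x⁻¹ = x * h * x⁻¹ := key _ hh
      have h3 : x * h * x⁻¹ = h := by
        have h5 : x * (x * h * x⁻¹) = x * h := by
          have := congrArg (· * x) h4
          simpa [mul_assoc] using this
        exact mul_left_cancel h5
      rw [← h3]; exact hh

/-- Two Hall subgroups of the same order of a nilpotent subgroup are equal. -/
theorem hall_unique_of_nilpotent [Finite G] {D H₁ H₂ : Subgroup G} (hD : Group.IsNilpotent D)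
    (hle₁ : H₁ ≤ D) (hle₂ : H₂ ≤ D) (hcop : (Nat.card H₁).Coprime (H₁.relIndex D))
    (hcard : Nat.card H₂ = Nat.card H₁) : H₂ = H₁ := by
  apply Subgroup.eq_of_le_of_card_ge _ hcard.symm.le
  apply Cfsg.Agent.Lib.Helper52.le_of_forall_primePow_order_mem
  intro x hx q k hq hxo
  rcases Nat.eq_zero_or_pos k with hk | hk
  · rw [hk, pow_zero, orderOf_eq_one_iff] at hxo
    rw [hxo]; exact H₁.one_mem
  · have hqx : q ∣ orderOf x := by
      rw [hxo]; exact dvd_pow_self q hk.ne'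
    have hxc : orderOf x ∣ Nat.card H₂ := by
      have := orderOf_dvd_natCard (⟨x, hx⟩ : H₂)
      rwa [Subgroup.orderOf_mk] at this
    have hqH : q ∣ Nat.card H₁ := hcard ▸ hqx.trans hxc
    exact mem_hall_of_nilpotent hD hle₁ hcop hq hqH (hle₂ hx) hxo

/-- A complement pair from disjointness and a cardinality bound. -/
theorem isComplIn_of_card [Finite G] {A B M : Subgroup G} (hA : A ≤ M) (hB : B ≤ M)
    (hdisj : A ⊓ B = ⊥) (hcard : Nat.card M ≤ Nat.card A * Nat.card B) : IsComplIn A B M := by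
  refine ⟨hA, hB, hdisj, ?_⟩
  let f : ↥A × ↥B → ↥M := fun x => ⟨x.1.1 * x.2.1, M.mul_mem (hA x.1.2) (hB x.2.2)⟩
  have hinj : Function.Injective f := by
    rintro ⟨⟨a, ha⟩, ⟨b, hb⟩⟩ ⟨⟨a', ha'⟩, ⟨b', hb'⟩⟩ hab
    have hab' : a * b = a' * b' := congrArg Subtype.val hab
    have h1 : a'⁻¹ * a = b' * b⁻¹ := by
      have : a'⁻¹ * (a * b) * b⁻¹ = a'⁻¹ * (a' * b') * b⁻¹ := by rw [hab']
      simpa [mul_assoc] using this
    have h2 : a'⁻¹ * a ∈ A ⊓ B := by
      refine ⟨A.mul_mem (A.inv_mem ha') ha, ?_⟩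
      show a'⁻¹ * a ∈ B
      rw [h1]
      exact B.mul_mem hb' (B.inv_mem hb)
    rw [hdisj, Subgroup.mem_bot] at h2
    have h3 : a = a' := by
      have := congrArg (fun t => a' * t) h2
      simpa using this
    have h4 : b' * b⁻¹ = 1 := by rw [← h1, h2]
    have h5 : b' = b := by
      have := congrArg (fun t => t * b) h4
      simpa using this
    subst h3; subst h5; rfl
  have hbij : Function.Bijective f :=
    hinj.bijective_of_nat_card_le (by rw [Nat.card_prod]; exact hcard)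
  intro m hm
  obtain ⟨⟨⟨a, ha⟩, ⟨b, hb⟩⟩, hab⟩ := hbij.2 ⟨m, hm⟩
  exact ⟨a, ha, b, hb, (congrArg Subtype.val hab).symm⟩

/-- Restriction of a complement pair to an intermediate subgroup containing the first factor. -/
theorem isComplIn_inf_of_le {Q D N K : Subgroup G} (h : IsComplIn Q D N) (hQK : Q ≤ K)
    (hKN : K ≤ N) : IsComplIn Q (K ⊓ D) K := by
  refine ⟨hQK, inf_le_left, ?_, ?_⟩
  · rw [eq_bot_iff, ← h.2.2.1]
    exact inf_le_inf_left Q inf_le_right
  · intro k hk
    obtain ⟨a, ha, b, hb, hab⟩ := h.2.2.2 k (hKN hk)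
    refine ⟨a, ha, b, ⟨?_, hb⟩, hab⟩
    have : b = a⁻¹ * k := by rw [hab]; group
    rw [this]
    exact K.mul_mem (K.inv_mem (hQK ha)) hk

/-- The normal Sylow `q`-subgroup `Q` of the solvable subgroup `N` together with a Hall
`q'`-subgroup `D` forms a complement pair. -/
theorem isComplIn_of_hall_compl [Finite G] {N Q D : Subgroup G} {q : ℕ} (hq : q.Prime)
    (hQN : Q ≤ N) (hQq : IsPGroup q Q) (hQi : ¬ q ∣ Q.relIndex N)
    (hDH : IsPiHallOf {p | p.Prime ∧ p ≠ q} D N) : IsComplIn Q D N := by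
  have : Fact q.Prime := ⟨hq⟩
  obtain ⟨m, hm⟩ := hQq.exists_card_eq
  have hqD : ¬ q ∣ Nat.card D := fun h => (hDH.2.1 q hq h).2 rfl
  have hcop : (Nat.card Q).Coprime (Nat.card D) := by
    rw [hm]
    exact Nat.Coprime.pow_left m ((Nat.Prime.coprime_iff_not_dvd hq).mpr hqD)
  have hdisj : Q ⊓ D = ⊥ := (Subgroup.disjoint_of_coprime_natCard hcop).eq_bot
  apply isComplIn_of_card hQN hDH.1 hdisj
  have h1 : Nat.card D * D.relIndex N = Nat.card N :=
    Cfsg.Agent.Lib.Helper54.card_mul_relIndex hDH.1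
  have h2 : Nat.card Q * Q.relIndex N = Nat.card N :=
    Cfsg.Agent.Lib.Helper54.card_mul_relIndex hQN
  have h3 : Nat.card D = Q.relIndex N := by
    apply Cfsg.Agent.Lib.Helper62.pi_part_unique (π := {p | p.Prime ∧ p ≠ q})
      (n := D.relIndex N) (n' := Nat.card Q)
    · rw [h1, mul_comm, h2]
    · exact hDH.2.1
    · exact hDH.2.2
    · intro p hp hpd
      refine ⟨hp, ?_⟩
      rintro rfl
      exact hQi hpd
    · intro p hp hpπ hpd
      rw [hm] at hpd
      exact hpπ.2 ((Nat.prime_dvd_prime_iff_eq hp hq).mp (hp.dvd_of_dvd_pow hpd))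
  rw [h3, h2]

/-- A normal `q`-subgroup lies in every Hall subgroup whose order is divisible by `q`. -/
theorem le_hall_of_normal_pgroup [Finite G] {N Q K : Subgroup G} {q : ℕ} (hq : q.Prime)
    (hNs : Group.IsSolvable N) (hQN : Q ≤ N) (hNQ : N ≤ Subgroup.normalizer (Q : Set G))
    (hQq : IsPGroup q Q) {π : Set ℕ} (hK : IsPiHallOf π K N) (hqπ : q ∈ π) : Q ≤ K := by
  have : Fact q.Prime := ⟨hq⟩
  obtain ⟨m, hm⟩ := hQq.exists_card_eq
  have hQπ : Cfsg.Agent.Lib.Helper62.IsPiNum π (Nat.card Q) := by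
    intro p hp hpd
    rw [hm] at hpd
    rw [(Nat.prime_dvd_prime_iff_eq hp hq).mp (hp.dvd_of_dvd_pow hpd)]
    exact hqπ
  obtain ⟨K₀, hK₀, hQK₀⟩ := Cfsg.Agent.Lib.Helper62.isPiHallOf_dom hNs hQN hQπ
  obtain ⟨k, hkN, hk⟩ := Cfsg.Agent.Lib.Helper62.isPiHallOf_conj hNs hK₀ hK
  have h1 : MulAut.conj k • Q ≤ MulAut.conj k • K₀ :=
    Cfsg.Agent.Lib.Helper54.conj_smul_le_conj_smul hQK₀
  rw [hk, Cfsg.Agent.Lib.Helper54.mem_normalizer_iff_conj_smul.mp (hNQ hkN)] at h1
  exact h1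

/-- **Lemma T.** `N` solvable, `Q` a normal Sylow `q`-subgroup of `N` all of whose complements in `N`
are nilpotent; `H`, `H'` Hall subgroups of `N` of the same order and `y ∈ H ∩ H'`.  Then
`H' = a H a⁻¹` for some `a ∈ Q` commuting with `y`. -/
theorem exists_conj_centralizing [Finite G] {N Q H H' : Subgroup G} {q : ℕ} (hq : q.Prime)
    (hNs : Group.IsSolvable N) (hQN : Q ≤ N) (hNQ : N ≤ Subgroup.normalizer (Q : Set G))
    (hQq : IsPGroup q Q) (hQi : ¬ q ∣ Q.relIndex N)
    (hD : ∀ D : Subgroup G, IsComplIn Q D N → Group.IsNilpotent D)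
    (hHN : H ≤ N) (hcop : (Nat.card H).Coprime (H.relIndex N)) (hH'N : H' ≤ N)
    (hcard : Nat.card H' = Nat.card H) {y : G} (hy : y ∈ H) (hy' : y ∈ H') :
    ∃ a ∈ Q, a * y = y * a ∧ H' = MulAut.conj a • H := by
  have : Fact q.Prime := ⟨hq⟩
  obtain ⟨mq, hmq⟩ := hQq.exists_card_eq
  set π : Set ℕ := {p | p.Prime ∧ p ∣ Nat.card H} with hπ
  have hπH : IsPiHallOf π H N := by
    refine ⟨hHN, fun p hp hd => ⟨hp, hd⟩, ?_⟩
    intro p hp hpπ hd
    have := Nat.dvd_gcd hpπ.2 hd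
    rw [hcop] at this
    exact hp.one_lt.ne' (Nat.dvd_one.mp this)
  have hπH' : IsPiHallOf π H' N := Cfsg.Agent.Lib.Helper62.isPiHallOf_of_card_eq hπH hH'N hcard
  by_cases hqH : q ∣ Nat.card H
  · -- case B: `Q ≤ H`, `Q ≤ H'`, and `H' = H`
    have hqπ : q ∈ π := ⟨hq, hqH⟩
    have hQH : Q ≤ H := le_hall_of_normal_pgroup hq hNs hQN hNQ hQq hπH hqπ
    have hQH' : Q ≤ H' := le_hall_of_normal_pgroup hq hNs hQN hNQ hQq hπH' hqπ
    obtain ⟨D, hDH⟩ := Cfsg.Agent.Lib.Helper62.exists_isPiHallOf {p | p.Prime ∧ p ≠ q} N hNs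
    have hcomp : IsComplIn Q D N := isComplIn_of_hall_compl hq hQN hQq hQi hDH
    have hDn := hD D hcomp
    have hc1 := isComplIn_inf_of_le hcomp hQH hHN
    have hc2 := isComplIn_inf_of_le hcomp hQH' hH'N
    have hk1 := Cfsg.Agent.Lib.Helper23.card_of_isComplIn hc1
    have hk2 := Cfsg.Agent.Lib.Helper23.card_of_isComplIn hc2
    have hkN := Cfsg.Agent.Lib.Helper23.card_of_isComplIn hcomp
    have hQpos : 0 < Nat.card Q := Nat.card_pos
    have hcard' : Nat.card ↥(H' ⊓ D) = Nat.card ↥(H ⊓ D) := by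
      rw [hcard, hk1] at hk2
      exact (Nat.eq_of_mul_eq_mul_left hQpos hk2).symm
    have hrel : (H ⊓ D).relIndex D = H.relIndex N := by
      have h1 : Nat.card ↥(H ⊓ D) * (H ⊓ D).relIndex D = Nat.card D :=
        Cfsg.Agent.Lib.Helper54.card_mul_relIndex inf_le_right
      have h2 : Nat.card H * H.relIndex N = Nat.card N :=
        Cfsg.Agent.Lib.Helper54.card_mul_relIndex hHN
      rw [hk1, hkN, mul_assoc] at h2
      have h3 := Nat.eq_of_mul_eq_mul_left hQpos h2
      rw [← h1] at h3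
      exact (Nat.eq_of_mul_eq_mul_left Nat.card_pos h3).symm
    have hcopD : (Nat.card ↥(H ⊓ D)).Coprime ((H ⊓ D).relIndex D) := by
      rw [hrel]
      exact Nat.Coprime.coprime_dvd_left (Subgroup.card_dvd_of_le inf_le_left) hcop
    have heq : H' ⊓ D = H ⊓ D :=
      hall_unique_of_nilpotent hDn inf_le_right inf_le_right hcopD hcard'
    have hle : H' ≤ H := by
      intro h' hh'
      obtain ⟨a, ha, b, hb, hab⟩ := hc2.2.2.2 h' hh'
      rw [hab]
      have hb' : b ∈ H ⊓ D := heq ▸ hb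
      exact H.mul_mem (hQH ha) hb'.1
    have hHH' : H' = H := Subgroup.eq_of_le_of_card_ge hle hcard.symm.le
    refine ⟨1, Q.one_mem, by simp, ?_⟩
    rw [hHH', map_one, one_smul]
  · -- case A: `Q ∩ H = 1`
    have hHπ' : Cfsg.Agent.Lib.Helper62.IsPiNum {p | p.Prime ∧ p ≠ q} (Nat.card H) := by
      intro p hp hpd
      refine ⟨hp, ?_⟩
      rintro rfl
      exact hqH hpd
    obtain ⟨D, hDH, hHD⟩ := Cfsg.Agent.Lib.Helper62.isPiHallOf_dom hNs hHN hHπ'
    have hcomp : IsComplIn Q D N := isComplIn_of_hall_compl hq hQN hQq hQi hDH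
    have hDn := hD D hcomp
    have hcopD : (Nat.card H).Coprime (H.relIndex D) := by
      have h1 := Subgroup.relIndex_mul_relIndex H D N hHD hDH.1
      exact Nat.Coprime.coprime_dvd_right (Dvd.intro _ h1) hcop
    have hDnorm : D ≤ Subgroup.normalizer (H : Set G) :=
      le_normalizer_hall_of_nilpotent hDn hHD hcopD
    obtain ⟨w, hwN, hw⟩ := Cfsg.Agent.Lib.Helper62.isPiHallOf_conj hNs hπH hπH'
    obtain ⟨a, haQ, d, hdD, hwad⟩ := hcomp.2.2.2 w hwN
    have hH' : H' = MulAut.conj a • H := by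
      rw [← hw, hwad, map_mul, mul_smul,
        Cfsg.Agent.Lib.Helper54.mem_normalizer_iff_conj_smul.mp (hDnorm hdD)]
    refine ⟨a, haQ, ?_, hH'⟩
    have hya : a⁻¹ * y * a ∈ H := by
      have := hy'
      rw [hH', Cfsg.Agent.Lib.Helper54.mem_conj_smul_iff] at this
      exact this
    have hcH : a⁻¹ * y * a * y⁻¹ ∈ H := H.mul_mem hya (H.inv_mem hy)
    have hcQ : a⁻¹ * y * a * y⁻¹ ∈ Q := by
      have h1 : y * a * y⁻¹ ∈ Q :=
        ((Subgroup.mem_normalizer_iff.mp (hNQ (hHN hy))) a).mp haQ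
      have h2 : a⁻¹ * y * a * y⁻¹ = a⁻¹ * (y * a * y⁻¹) := by group
      rw [h2]
      exact Q.mul_mem (Q.inv_mem haQ) h1
    have hcopQH : (Nat.card Q).Coprime (Nat.card H) := by
      rw [hmq]
      exact Nat.Coprime.pow_left mq ((Nat.Prime.coprime_iff_not_dvd hq).mpr hqH)
    have hdisj : Q ⊓ H = ⊥ := (Subgroup.disjoint_of_coprime_natCard hcopQH).eq_bot
    have h1 : a⁻¹ * y * a * y⁻¹ = 1 := by
      have : a⁻¹ * y * a * y⁻¹ ∈ Q ⊓ H := ⟨hcQ, hcH⟩
      rwa [hdisj, Subgroup.mem_bot] at this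
    have h2 : a⁻¹ * y * a = y := by
      have := congrArg (· * y) h1
      simpa [mul_assoc] using this
    have h3 := congrArg (a * ·) h2
    simp only [mul_assoc, mul_inv_cancel_left] at h3
    exact h3.symm

end Cfsg.Agent.Lib.Helper97.BGFifteenThree
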