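import Cfsg.Agent.Lib.Helper97.BGFifteenThreeA

/-!
# B&G Lemma 15.3(b) (`sigma_Hall_tame`), conditional form  (helper97)

`tame_of`: `M` a maximal subgroup of a simple group, `N ⊴ M` (in the application `N = M_σ`) such that
* (`h74`, from S1374 = B&G 14.4(a)) for `1 ≠ x ∈ N` some subgroup `R ≤ C_G(x)` is transitive on the
  conjugates of `M` containing `x`;
* (`hstruct`, from S1437 = B&G 15.2) if `N` is not nilpotent, it has a Sylow `q`-subgroup `Q ⊴ M`
  all of whose complements in `N` are nilpotent.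
Then `N_M(H)` controls `G`-fusion in every Hall subgroup `H` of `N`.
-/

set_option autoImplicit false

namespace Cfsg.Agent.Lib.Helper97.BGFifteenThree

open Cfsg Pointwise

variable {G : Type*} [Group G]

theorem mem_map_conj_iff {M : Subgroup G} {g x : G} :
    x ∈ M.map (MulAut.conj g).toMonoidHom ↔ g⁻¹ * x * g ∈ M := by
  constructor
  · rintro ⟨m, hm, rfl⟩
    have : g⁻¹ * ((MulAut.conj g).toMonoidHom m) * g = m := by
      simp [MulAut.conj_apply, mul_assoc]
    rw [this]; exact hm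
  · intro h
    refine ⟨g⁻¹ * x * g, h, ?_⟩
    simp [MulAut.conj_apply, mul_assoc]

/-- `M.map (conj g) = M` puts `g` into `N_G(M)`. -/
theorem mem_normalizer_of_map_conj_eq {M : Subgroup G} {g : G}
    (h : M.map (MulAut.conj g).toMonoidHom = M) : g ∈ Subgroup.normalizer (M : Set G) := by
  rw [Subgroup.mem_normalizer_iff]
  intro z
  constructor
  · intro hz
    rw [← h]
    exact ⟨z, hz, by simp [MulAut.conj_apply]⟩
  · intro hz
    rw [← h, mem_map_conj_iff] at hz
    have : g⁻¹ * (g * z * g⁻¹) * g = z := by group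
    rwa [this] at hz

theorem tame_of [Finite G] (hs : IsSimpleGroup G) {M N : Subgroup G} (hM : IsCoatom M)
    (hMs : Group.IsSolvable M) (hNM : N ≤ M) (hMN : M ≤ Subgroup.normalizer (N : Set G))
    (h74 : ∀ x ∈ N, x ≠ 1 → ∃ R : Subgroup G, R ≤ Subgroup.centralizer ({x} : Set G) ∧
      ∀ g : G, x ∈ M.map (MulAut.conj g).toMonoidHom →
        ∃ r : G, r ∈ R ∧ M.map (MulAut.conj r).toMonoidHom = M.map (MulAut.conj g).toMonoidHom)
    (hstruct : ¬ Group.IsNilpotent N → ∃ (q : ℕ) (Q : Subgroup G), q.Prime ∧ Q ≤ N ∧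
      M ≤ Subgroup.normalizer (Q : Set G) ∧ IsPGroup q Q ∧ ¬ q ∣ Q.relIndex N ∧
      ∀ D : Subgroup G, IsComplIn Q D N → Group.IsNilpotent D)
    {H : Subgroup G} (hH : H ≤ N) (hHall : (Nat.card H).Coprime (H.relIndex N)) :
    ∀ x ∈ H, ∀ g : G, g * x * g⁻¹ ∈ H →
      ∃ n ∈ M ⊓ Subgroup.normalizer (H : Set G), n * x * n⁻¹ = g * x * g⁻¹ := by
  intro x hx g hy
  by_cases hx1 : x = 1
  · refine ⟨1, (M ⊓ Subgroup.normalizer (H : Set G)).one_mem, ?_⟩
    rw [hx1]; group
  -- Step 1: `y = m x m⁻¹` with `m ∈ M`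
  obtain ⟨R, hRc, hR⟩ := h74 x (hH hx) hx1
  have hyM : g * x * g⁻¹ ∈ M := hNM (hH hy)
  have hxg : x ∈ M.map (MulAut.conj g⁻¹).toMonoidHom := by
    rw [mem_map_conj_iff, inv_inv]; exact hyM
  obtain ⟨r, hrR, hr⟩ := hR g⁻¹ hxg
  have hrx : r * x = x * r :=
    (Subgroup.mem_centralizer_iff.mp (hRc hrR)) x (Set.mem_singleton x) |>.symm
  have hMbot : M ≠ ⊥ := by
    intro h
    have : x ∈ M := hNM (hH hx)
    rw [h, Subgroup.mem_bot] at this
    exact hx1 this
  have hNMeq : Subgroup.normalizer (M : Set G) = M := by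
    rcases eq_or_lt_of_le (Subgroup.le_normalizer : M ≤ Subgroup.normalizer (M : Set G)) with h | h
    · exact h.symm
    · exfalso
      have h1 := hM.2 _ h
      have hn : M.Normal := Subgroup.normalizer_eq_top_iff.mp h1
      rcases hs.eq_bot_or_eq_top_of_normal M hn with h2 | h2
      · exact hMbot h2
      · exact hM.1 h2
  have hmM : g * r ∈ M := by
    rw [← hNMeq]
    apply mem_normalizer_of_map_conj_eq
    have h1 : M.map (MulAut.conj (g * r)).toMonoidHom =
        (M.map (MulAut.conj r).toMonoidHom).map (MulAut.conj g).toMonoidHom := by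
      rw [Subgroup.map_map]
      congr 1
      ext z
      simp [MulAut.conj_apply, mul_assoc]
    rw [h1, hr, Subgroup.map_map]
    have h2 : (MulAut.conj g).toMonoidHom.comp (MulAut.conj g⁻¹).toMonoidHom = MonoidHom.id G := by
      ext z
      simp [MulAut.conj_apply, mul_assoc]
    rw [h2, Subgroup.map_id]
  set m := g * r with hm
  have hmx : m * x * m⁻¹ = g * x * g⁻¹ := by
    rw [hm, mul_inv_rev]
    have : g * r * x * (r⁻¹ * g⁻¹) = g * (r * x * r⁻¹) * g⁻¹ := by group
    rw [this, hrx, mul_inv_cancel_right]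
  set y := g * x * g⁻¹ with hydef
  -- Step 2: the Hall subgroup `H' = m H m⁻¹`
  set H' : Subgroup G := MulAut.conj m • H with hH'
  have hH'N : H' ≤ N := by
    have h1 : MulAut.conj m • H ≤ MulAut.conj m • N :=
      Cfsg.Agent.Lib.Helper54.conj_smul_le_conj_smul hH
    rwa [Cfsg.Agent.Lib.Helper54.mem_normalizer_iff_conj_smul.mp (hMN hmM)] at h1
  have hcard : Nat.card H' = Nat.card H := Cfsg.Agent.Lib.Helper54.card_conj_smul m H
  have hyH' : y ∈ H' := by
    rw [← hmx]
    exact Cfsg.Agent.Lib.Helper54.conj_mem_conj_smul hx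
  by_cases hnil : Group.IsNilpotent N
  · have heq : H' = H := hall_unique_of_nilpotent hnil hH hH'N hHall hcard
    refine ⟨m, ⟨hmM, ?_⟩, hmx⟩
    exact Cfsg.Agent.Lib.Helper54.mem_normalizer_iff_conj_smul.mpr heq
  · obtain ⟨q, Q, hq, hQN, hMQ, hQq, hQi, hD⟩ := hstruct hnil
    have hNs : Group.IsSolvable N :=
      Group.isSolvable_of_isSolvable_injective (Subgroup.inclusion_injective hNM)
    obtain ⟨a, haQ, hay, hHa⟩ := exists_conj_centralizing hq hNs hQN (hNM.trans hMQ) hQq hQi hD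
      hH hHall hH'N hcard hy hyH'
    refine ⟨a⁻¹ * m, ⟨M.mul_mem (M.inv_mem (hNM (hQN haQ))) hmM, ?_⟩, ?_⟩
    · show a⁻¹ * m ∈ Subgroup.normalizer (H : Set G)
      rw [Cfsg.Agent.Lib.Helper54.mem_normalizer_iff_conj_smul, map_mul, mul_smul, ← hH', hHa,
        map_inv, inv_smul_smul]
    · have h1 : a⁻¹ * m * x * (a⁻¹ * m)⁻¹ = a⁻¹ * (m * x * m⁻¹) * a := by group
      rw [h1, hmx]
      have h2 : a⁻¹ * y * a = a⁻¹ * (y * a) := by group
      rw [h2, ← hay]
      group

end Cfsg.Agent.Lib.Helper97.BGFifteenThree
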