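import Cfsg.Agent.Lib.Helper97.BGFifteenThreeB
import Cfsg.Agent.Lib.Helper97.BGFifteenThreeC
import Cfsg.Agent.Lib.Helper4.PFNineA

/-!
# B&G Lemma 15.3 = statement S1438, conditional assembly  (helper97)

`s1438_of`: the frozen conclusion of S1438 for a maximal subgroup `M`, from
* `h30`, `h31`: Theorem 14.2 (`Stmt1430 G`, `Stmt1431 G`);
* `h74`: the conclusion of S1374 (B&G 14.4(a)) for `M`;
* `hdec`: a standard factorisation of `M` exists when `M_σ` is not nilpotent (S1351 + S1352);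
* `h37`: the part of the conclusion of S1437 (B&G 15.2) that is used.
-/

set_option autoImplicit false

namespace Cfsg.Agent.Lib.Helper97.BGFifteenThree

open Cfsg Pointwise
open Cfsg.Agent.Lib.Helper54

variable {G : Type*} [Group G]

theorem s1438_of [Finite G] (hG : IsMinSimpleOddOrder G) (h30 : Stmt1430 G) (h31 : Stmt1431 G)
    (M : Subgroup G) (hM : IsCoatom M)
    (h74 : ∀ x ∈ sigmaCore M, x ≠ 1 → ∃ R : Subgroup G,
      Subgroup.centralizer ({x} : Set G) ≤ Subgroup.normalizer (R : Set G) ∧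
      IsComplIn (M ⊓ Subgroup.centralizer ({x} : Set G)) R (Subgroup.centralizer ({x} : Set G)) ∧
      ∀ g : G, x ∈ M.map (MulAut.conj g).toMonoidHom →
        ∃! r : G, r ∈ R ∧ M.map (MulAut.conj r).toMonoidHom = M.map (MulAut.conj g).toMonoidHom)
    (hdec : ¬ Group.IsNilpotent (sigmaCore M) → ∃ K U : Subgroup G, IsSigmaDecomposition M K U)
    (h37 : ∀ K U : Subgroup G, IsSigmaDecomposition M K U → fittingHallOf M ≠ sigmaCore M →
      (Nat.card ↥(sigmaCore M ⊓ Subgroup.centralizer (K : Set G))).Prime ∧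
      Nat.card ↥(sigmaCore M ⊓ Subgroup.centralizer (K : Set G)) ∈ beta M ∧
      ∃ Q : Subgroup G, Q ≤ fittingHallOf M ∧ M ≤ Subgroup.normalizer (Q : Set G) ∧
        IsPGroup (Nat.card ↥(sigmaCore M ⊓ Subgroup.centralizer (K : Set G))) Q ∧
        ¬ Nat.card ↥(sigmaCore M ⊓ Subgroup.centralizer (K : Set G)) ∣
          Q.relIndex (sigmaCore M) ∧
        ∀ D : Subgroup G, IsComplIn Q D (sigmaCore M) → Group.IsNilpotent D)
    (H : Subgroup G) (hH : H ≤ sigmaCore M) (hH1 : H ≠ ⊥)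
    (hHall : (Nat.card H).Coprime (H.relIndex (sigmaCore M))) :
    (∃ X : Subgroup G, IsCyclic X ∧ (∀ p : ℕ, p.Prime → p ∣ Nat.card X → p ∈ tau2 M) ∧
        M ⊓ Subgroup.centralizer (H : Set G) =
          (sigmaCore M ⊓ Subgroup.centralizer (H : Set G)) ⊔ X) ∧
      ∀ x ∈ H, ∀ g : G, g * x * g⁻¹ ∈ H →
        ∃ n ∈ M ⊓ Subgroup.normalizer (H : Set G), n * x * n⁻¹ = g * x * g⁻¹ := by
  refine ⟨cent_hall_of hG h30 h31 M hM H hH hH1 hHall, ?_⟩
  have hU := Cfsg.Agent.Lib.Helper21.uniquenessThm_of hG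
  have hU3 := uniqThree_of_minSimple hG
  have hMs : Group.IsSolvable M := hG.2.2.2 M hM.1
  apply tame_of hG.2.1 hM hMs (sigmaCore_le M) (le_normalizer_sigmaCore M) _ _ hH hHall
  · intro x hx hx1
    obtain ⟨R, -, hRc, hR⟩ := h74 x hx hx1
    refine ⟨R, hRc.2.1, ?_⟩
    intro g hg
    obtain ⟨r, hr, -⟩ := hR g hg
    exact ⟨r, hr.1, hr.2⟩
  · intro hnil
    obtain ⟨K, U, hKU⟩ := hdec hnil
    have hne : fittingHallOf M ≠ sigmaCore M := by
      intro h
      apply hnil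
      rw [← h]
      exact Cfsg.Agent.Lib.Helper4.PF9.H_isNilpotent M
    obtain ⟨hq, hqβ, Q, hQF, hMQ, hQq, hQi, hD⟩ := h37 K U hKU hne
    have hQM : Q ≤ M := hQF.trans (Subgroup.map_subtype_le _)
    have hqσ : Nat.card ↥(sigmaCore M ⊓ Subgroup.centralizer (K : Set G)) ∈ sigma M :=
      Cfsg.Agent.Lib.Helper50.alpha_subset_sigma hG hU3 M hM hqβ.1
    have hQσ : Q ≤ sigmaCore M := by
      apply le_sigmaCore_of_isPi hG hU M hM hQM
      intro r hr hrd
      have : Fact (Nat.card ↥(sigmaCore M ⊓ Subgroup.centralizer (K : Set G))).Prime := ⟨hq⟩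
      obtain ⟨k, hk⟩ := hQq.exists_card_eq
      rw [hk] at hrd
      rw [(Nat.prime_dvd_prime_iff_eq hr hq).mp (hr.dvd_of_dvd_pow hrd)]
      exact hqσ
    exact ⟨_, Q, hq, hQσ, hMQ, hQq, hQi, hD⟩

end Cfsg.Agent.Lib.Helper97.BGFifteenThree
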