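import Cfsg.Agent.Lib.Helper54.BGElevenB
import Cfsg.Agent.Lib.Helper54.CNGroup
import Cfsg.Agent.Lib.Helper51.BGTwelveA
import Cfsg.Agent.Lib.Helper24.Coprime
import Cfsg.Agent.Lib.Helper50.AlphaCore

/-!
# Towards Bender–Glauberman Lemmas 13.9 and 13.10 (statements S1427, S1428)

The key lemma: let `M`, `L` be maximal subgroups, `p ∉ σ(M)`, `p ∈ σ(L)`, `C ≤ M_σ`, `S` a `p`-subgroup
normalizing `C`, with `C S ≤ L`.  Then `[C, S] = 1`.
-/

set_option autoImplicit false

namespace Cfsg.Agent.Lib.Helper97.BGThirteen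

open scoped Pointwise commutatorElement
open Cfsg Cfsg.Agent.Lib.Helper54
open Cfsg.Agent.Lib.Helper34 (UniquenessThm)

variable {G : Type*} [Group G]

/-- `p ∉ σ(M)` does not divide the order of a subgroup of `M_σ` -/
theorem not_dvd_card_of_le_sigmaCore [Finite G] {M C : Subgroup G} (hCK : C ≤ sigmaCore M) {p : ℕ}
    (hp : p.Prime) (hpM : p ∉ sigma M) : ¬ p ∣ Nat.card C := fun h =>
  hpM (sigmaCore_isPi M p hp (h.trans (Subgroup.card_dvd_of_le hCK)))

/-- **Key lemma.** `M`, `L` maximal, `p ∉ σ(M)`, `p ∈ σ(L)`, `C ≤ M_σ`, `S` a `p`-group normalizing `C`,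
`C ≤ L`, `S ≤ L`: then `S` centralizes `C`. -/
theorem comm_of_mem_sigma [Finite G] (hG : IsMinSimpleOddOrder G) (hU : UniquenessThm G)
    (M L : Subgroup G) (hM : IsCoatom M) (hL : IsCoatom L) (p : ℕ) [Fact p.Prime]
    (hpM : p ∉ sigma M) (hpL : p ∈ sigma L) (C S : Subgroup G) (hCK : C ≤ sigmaCore M)
    (hSp : IsPGroup p S) (hSC : S ≤ Subgroup.normalizer (C : Set G)) (hCL : C ≤ L)
    (hSL : S ≤ L) : ∀ c ∈ C, ∀ s ∈ S, s * c = c * s := by
  have hp : p.Prime := Fact.out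
  have hU3 := uniqThree_of_uniquenessThm hU
  -- `L` is not conjugate to `M`
  have hnc : ∀ g : G, MulAut.conj g • L ≠ M := by
    intro g hg
    apply hpM
    rw [← hg]
    have h0 : sigma (MulAut.conj g • L) = sigma L := Cfsg.Agent.Lib.Helper51.BG12.sigma_cj g L
    rw [h0]
    exact hpL
  have hdis : alphaCore L ⊓ sigmaCore M = ⊥ := (sigma_disjoint hG hU L M hL hM hnc).1.2
  have hnil := (Cfsg.Agent.Lib.Helper50.s1405_of hG hU3 L hL).2.2.2.2
  -- `S ≤ L'`
  obtain ⟨P, hSP⟩ := exists_sylow_map_ge hSL hSp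
  have hSL' : S ≤ ⁅L, L⁆ :=
    hSP.trans (Cfsg.Agent.Lib.Helper50.sylow_le_commutator_of_mem_sigma hG hU3 L hL p hpL P)
  have hpC : ¬ p ∣ Nat.card C := not_dvd_card_of_le_sigmaCore hCK hp hpM
  intro c hc s hs
  -- `w = c⁻¹ * (s * c * s⁻¹) ∈ C`
  have hscs : s * c * s⁻¹ ∈ C := (Subgroup.mem_normalizer_iff.mp (hSC hs) c).mp hc
  set w := c⁻¹ * (s * c * s⁻¹) with hw
  have hwC : w ∈ C := C.mul_mem (C.inv_mem hc) hscs
  -- orders
  have hcop : (orderOf s).Coprime (orderOf w) := by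
    obtain ⟨k, hk⟩ := (IsPGroup.iff_orderOf.mp hSp) ⟨s, hs⟩
    rw [Subgroup.orderOf_mk] at hk
    rw [hk]
    apply Nat.Coprime.pow_left
    rw [Nat.Prime.coprime_iff_not_dvd hp]
    intro hd
    apply hpC
    refine hd.trans ?_
    have : orderOf (⟨w, hwC⟩ : C) ∣ Nat.card C := orderOf_dvd_natCard _
    rwa [Subgroup.orderOf_mk] at this
  apply Cfsg.Agent.Lib.Helper24.commute_of_comm_commute_of_coprime s c _ hcop
  -- it remains to show that `s` and `w` commute
  show s * w = w * s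
  -- the element `z = w⁻¹ * s⁻¹ * w * s` lies in `L_α ∩ M_σ = 1`
  have hsws : s⁻¹ * w * s ∈ C := by
    have := (Subgroup.mem_normalizer_iff.mp (Subgroup.inv_mem _ (hSC hs)) w).mp hwC
    simpa using this
  have hzK : w⁻¹ * (s⁻¹ * w * s) ∈ sigmaCore M := hCK (C.mul_mem (C.inv_mem hwC) hsws)
  have hzα : w⁻¹ * (s⁻¹ * w * s) ∈ alphaCore L := by
    -- work in `↥L`
    set N := piCore (alpha L) ↥L with hN
    let cL : ↥L := ⟨c, hCL hc⟩
    let sL : ↥L := ⟨s, hSL hs⟩
    let wL : ↥L := cL⁻¹ * (sL * cL * sL⁻¹)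
    have hwL : (wL : G) = w := rfl
    have hwLc : wL ∈ commutator ↥L := by
      have : wL = ⁅cL⁻¹, sL⁆ := by
        rw [commutatorElement_def]; simp only [wL]; group
      rw [this, commutator_def]
      exact Subgroup.commutator_mem_commutator (Subgroup.mem_top _) (Subgroup.mem_top _)
    have hsLc : sL ∈ commutator ↥L := by
      have hx' : (sL : G) ∈ ⁅L, L⁆ := hSL' hs
      rw [← Subgroup.map_subtype_commutator] at hx'
      obtain ⟨y, hy, hyx⟩ := hx'
      have : y = sL := Subtype.ext hyx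
      rwa [← this]
    set π := QuotientGroup.mk' N with hπ
    have h1 : π wL ∈ (commutator ↥L).map π := ⟨wL, hwLc, rfl⟩
    have h2 : π sL ∈ (commutator ↥L).map π := ⟨sL, hsLc, rfl⟩
    have hcop' : (orderOf (π sL)).Coprime (orderOf (π wL)) := by
      apply Nat.Coprime.of_dvd _ _ hcop
      · have := orderOf_map_dvd π sL
        rwa [Subgroup.orderOf_mk] at this
      · have := orderOf_map_dvd π wL
        rwa [← Subgroup.orderOf_coe, hwL] at this
    have h3 : π sL * π wL = π wL * π sL :=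
      commute_of_coprime_of_mem_nilpotent hnil h2 h1 hcop'
    have h4 : wL⁻¹ * (sL⁻¹ * wL * sL) ∈ N := by
      rw [← QuotientGroup.ker_mk' N, MonoidHom.mem_ker, ← hπ]
      simp only [map_mul, map_inv]
      have h3' : (π sL)⁻¹ * π wL * π sL = π wL := by
        rw [mul_assoc, ← h3]; group
      rw [h3']
      group
    exact ⟨_, h4, rfl⟩
  have hz1 : w⁻¹ * (s⁻¹ * w * s) = 1 := by
    have : w⁻¹ * (s⁻¹ * w * s) ∈ alphaCore L ⊓ sigmaCore M := ⟨hzα, hzK⟩
    rw [hdis] at this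
    exact this
  have h5 : s⁻¹ * w * s = w := by
    have := congrArg (fun t => w * t) hz1
    simpa using this
  calc s * w = s * (s⁻¹ * w * s) := by rw [h5]
    _ = w * s := by group

end Cfsg.Agent.Lib.Helper97.BGThirteen
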