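import Mathlib
import Cfsg.Agent.Lib.Helper10.BGThirteenT
import Cfsg.Agent.Lib.Helper50.Thm131
import Cfsg.Agent.Lib.Helper54.UqNine3
import Cfsg.Agent.Lib.Helper97.BGTwelveCor
import Cfsg.Agent.S1350

/-!
# Modules KB and CONJ of the proof of S1428 (helper97, for helper10's `BGThirteenMain`)

* `tau2_sylow_le` (KB): `q ∈ σ(M) ∩ τ₂(L)`, `S ≤ M ∩ L` a Sylow `q`-subgroup of `L`: then
  `L_σ ∩ M = 1` and some complement `E` of `L_σ` in `L` lies in `M`.
* `exists_conj_le_compl` (CONJ): a `p`-subgroup of `L`, `p ∉ σ(L)`, is `L`-conjugate into a given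
  complement `E` of `L_σ`.
-/

set_option autoImplicit false

open scoped Pointwise

namespace Cfsg.Agent.Lib.Helper97.BGThirteenK

open Cfsg
open Cfsg.Agent.Lib.Helper10.BG13
open Cfsg.Agent.Lib.Helper33 (SylIn cj)
open Cfsg.Agent.Lib.Helper34 (UniquenessThm)

variable {G : Type*} [Group G] [Finite G]

/-- **KB** -/
theorem tau2_sylow_le (hG : IsMinSimpleOddOrder G) (hU : UniquenessThm G)
    (hC : Cfsg.Agent.Lib.Helper50.CentSqLE G) (h1417e : H1417e G) (h1418 : H1418full G)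
    (M L : Subgroup G) (hM : IsCoatom M) (hL : IsCoatom L) (hne : L ≠ M) (q : ℕ) [Fact q.Prime]
    (hqM : q ∈ sigma M) (hqL : q ∈ tau2 L) (S : Subgroup G) (hSq : IsPGroup q S) (hSM : S ≤ M)
    (hSL : S ≤ L) (hidx : ¬ q ∣ S.relIndex L) :
    sigmaCore L ⊓ M = ⊥ ∧ ∃ E : Subgroup G, IsComplIn E (sigmaCore L) L ∧ E ≤ M := by
  have hqp : q.Prime := Fact.out
  have hU3 : Cfsg.Agent.Lib.Helper50.UniqThree G := fun K hK h1 h2 => hU K hK h1 (Or.inl h2)
  have hSyl : SylIn q S L := ⟨hSL, hSq, hidx⟩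
  have hr : ¬ PRankLE q 1 ↥S := by
    intro h
    apply hqL.2.2.2
    apply Cfsg.Agent.Lib.Helper54.pRankLE_of_sylow_rel L hSyl.toSylow
    rw [hSyl.coe_toSylow, Subgroup.map_subgroupOf_eq_of_le hSyl.le]
    exact h
  obtain ⟨B, hBS, hBe, hBc⟩ :=
    Cfsg.Agent.Lib.Helper97.BGTwelve.exists_elemAb_sq_of_not_pRankLE_one S hr
  have hBL : B ≤ L := hBS.trans hSL
  have hBM : B ≤ M := hBS.trans hSM
  have h1 : sigmaCore L ⊓ M = ⊥ := h1417e L hL q hqL B ⟨hBL, hBe, hBc⟩ M hM hne.symm hBM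
  refine ⟨h1, ?_⟩
  have hBq : IsPGroup q B := hSq.to_le hBS
  have hBnc : ¬ IsCyclic ↥B :=
    Cfsg.Agent.Lib.Helper54.not_isCyclic_of_elemAb hqp hBe.2 (le_of_eq hBc.symm)
  have hNB : Subgroup.normalizer (B : Set G) ≤ M :=
    Cfsg.Agent.Lib.Helper50.normalizer_le_of_not_isCyclic hG hU3 hC M hM q hqM B hBq hBM hBnc
  have hHall := (Cfsg.Agent.S1350.result hG L hL).1
  have hsolv : Group.IsSolvable ↥L := hG.2.2.2 L hL.1
  obtain ⟨E, hE, hBE⟩ := Cfsg.Agent.Lib.Helper97.BGTwelve.exists_complIn_ge hsolv hHall hBL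
    (by
      intro r hr hrd hrσ
      rw [hBc] at hrd
      have : r = q := (Nat.prime_dvd_prime_iff_eq hr hqp).mp (hr.dvd_of_dvd_pow hrd)
      exact hqL.2.1 (this ▸ hrσ))
  refine ⟨E, hE, ?_⟩
  have h2 := (h1418 L hL E hE q hqL B ⟨hBE, hBe, hBc⟩).2.1.2.1
  rw [← h2]
  exact inf_le_right.trans hNB

/-- **CONJ** -/
theorem exists_conj_le_compl (hG : IsMinSimpleOddOrder G) (_hU : UniquenessThm G) (L : Subgroup G)
    (hL : IsCoatom L) (E : Subgroup G) (hE : IsComplIn E (sigmaCore L) L) (p : ℕ) [Fact p.Prime]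
    (hp : p ∉ sigma L) (T : Subgroup G) (hT : IsPGroup p T) (hTL : T ≤ L) :
    ∃ l ∈ L, MulAut.conj l • T ≤ E := by
  have hpp : p.Prime := Fact.out
  have hHall := (Cfsg.Agent.S1350.result hG L hL).1
  obtain ⟨R⟩ : Nonempty (Sylow p ↥E) := inferInstance
  set T₀ : Subgroup G := (R : Subgroup ↥E).map E.subtype with hT₀
  have hT₀E : T₀ ≤ E := Subgroup.map_subtype_le _
  have hT₀p : IsPGroup p T₀ := R.isPGroup'.map _
  have hpσ : ¬ p ∣ Nat.card (sigmaCore L) := fun h => hp (hHall.2.1 p hpp h)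
  have hidx : ¬ p ∣ T₀.relIndex L := by
    intro h
    have h1 : T₀.relIndex L = T₀.relIndex E * E.relIndex L :=
      (Subgroup.relIndex_mul_relIndex T₀ E L hT₀E hE.1).symm
    rw [h1] at h
    rcases (Nat.Prime.dvd_mul hpp).mp h with h | h
    · have h2 : T₀.relIndex E = (R : Subgroup ↥E).index := by
        unfold Subgroup.relIndex
        congr 1
        rw [hT₀]
        exact Subgroup.comap_map_eq_self_of_injective E.subtype_injective _
      rw [h2] at h
      exact R.not_dvd_index h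
    · have h3 : Nat.card L = Nat.card E * Nat.card (sigmaCore L) :=
        Cfsg.Agent.Lib.Helper23.card_of_isComplIn hE
      have h4 : Nat.card E * E.relIndex L = Nat.card L := by
        have := Subgroup.card_mul_index (E.subgroupOf L)
        rwa [Cfsg.Agent.Lib.Helper1.card_subgroupOf_of_le hE.1] at this
      have h5 : E.relIndex L = Nat.card (sigmaCore L) := by
        have : Nat.card E * E.relIndex L = Nat.card E * Nat.card (sigmaCore L) := by
          rw [h4, h3]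
        exact Nat.eq_of_mul_eq_mul_left Nat.card_pos this
      exact hpσ (h5 ▸ h)
  have hSyl : SylIn p T₀ L := ⟨hT₀E.trans hE.1, hT₀p, hidx⟩
  obtain ⟨l, hl, hlT⟩ := hSyl.exists_cj_le hTL hT
  refine ⟨l, hl, ?_⟩
  intro x hx
  rw [Cfsg.Agent.Lib.Helper54.mem_conj_smul_iff] at hx
  exact hT₀E (hlT (Cfsg.Agent.Lib.Helper33.mem_cj.mpr hx))

end Cfsg.Agent.Lib.Helper97.BGThirteenK
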