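import Mathlib
import Cfsg.Agent.S0601
import Cfsg.Agent.S0608
import Cfsg.Agent.S0618
import Cfsg.Agent.S4145
import Cfsg.Agent.Lib.Helper99.S4InvC
import Cfsg.Agent.Lib.Helper97.Thompson2
import Cfsg.Agent.Lib.Helper97.Cores
import Cfsg.Agent.Lib.Helper97.OmegaOne
import Cfsg.Agent.Lib.Helper49.FF620
import Cfsg.Agent.Lib.Helper24.Coprime
import Cfsg.Agent.Lib.Helper1.MinimalNormal

/-!
Helper97 library: `2`-solvable groups not involving the symmetric group of degree `4`.

* such a group with trivial `2'`-core is Thompson factorizable (from Glauberman's failure of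
  factorization theorem S0618 and the `S₃`/`S₄` lemma of helper99);
* if moreover a Sylow `2`-subgroup `S` has class at most `2`, then every elementary abelian subgroup
  of `S` of largest order lies in `O₂`, and the Thompson subgroup of `S` is normal.
-/

set_option autoImplicit false

namespace Cfsg.Agent.Lib.Helper97.ClassTwoJ

open Cfsg Cfsg.Agent.Lib.Helper97
open scoped commutatorElement

section SLTwo

/-- `SL₂(2)`. -/
abbrev SL22 := Matrix.SpecialLinearGroup (Fin 2) (ZMod 2)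

/-- the three nonzero vectors -/
def vec : Fin 3 → (Fin 2 → ZMod 2) := ![![1,0],![0,1],![1,1]]

/-- the index of a nonzero vector -/
def idx (v : Fin 2 → ZMod 2) : Fin 3 :=
  if v 0 = 1 ∧ v 1 = 0 then 0 else if v 0 = 0 ∧ v 1 = 1 then 1 else 2

/-- the action of `SL₂(2)` on the three nonzero vectors -/
def act (A : SL22) (i : Fin 3) : Fin 3 := idx ((A : Matrix (Fin 2) (Fin 2) (ZMod 2)).mulVec (vec i))

theorem act_one : ∀ i : Fin 3, act 1 i = i := by decide

theorem act_mul : ∀ (A B : SL22) (i : Fin 3), act (A * B) i = act A (act B i) := by decide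

theorem act_surj : ∀ σ : Equiv.Perm (Fin 3), ∃ A : SL22, ∀ i, act A i = σ i := by decide

/-- `SL₂(2) → S₃`. -/
def toPerm : SL22 →* Equiv.Perm (Fin 3) where
  toFun A := ⟨act A, act A⁻¹, fun i => by rw [← act_mul, inv_mul_cancel, act_one],
    fun i => by rw [← act_mul, mul_inv_cancel, act_one]⟩
  map_one' := by ext i; simp [act_one]
  map_mul' A B := by ext i; simp [act_mul]

theorem toPerm_surjective : Function.Surjective toPerm := by
  intro σ
  obtain ⟨A, hA⟩ := act_surj σ
  exact ⟨A, Equiv.ext hA⟩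

end SLTwo

section PSolv

/-- A finite solvable group is `p`-solvable (proof of helper77, light imports). -/
theorem isPSolvable_of_isSolvable_light (p : ℕ) [Fact p.Prime] :
    ∀ (n : ℕ) (G : Type*) [Group G] [Finite G] [Group.IsSolvable G], Nat.card G = n →
      IsPSolvable p G := by
  intro n
  induction n using Nat.strong_induction_on with
  | _ n ih =>
    intro G _ _ _ hn
    by_cases hG : Subsingleton G
    · exact Cfsg.Agent.S4145.isPSolvable_of_subsingleton p
    · rw [not_subsingleton_iff_nontrivial] at hG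
      obtain ⟨q, R, hq, hRn, hR1, hRq, -, -, -⟩ :=
        Cfsg.Agent.Lib.Helper1.exists_normal_pSubgroup_of_isSolvable (G := G)
      have hcard : Nat.card (G ⧸ R) < n := by
        rw [← hn, ← Subgroup.index_eq_card]
        have h1 : Nat.card R * R.index = Nat.card G := Subgroup.card_mul_index R
        have h2 : 1 < Nat.card R := by
          rw [Finite.one_lt_card_iff_nontrivial]
          exact (Subgroup.nontrivial_iff_ne_bot R).mpr hR1
        have h3 : 0 < R.index := Nat.pos_of_ne_zero Subgroup.index_ne_zero_of_finite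
        nlinarith
      have hquot : IsPSolvable p (G ⧸ R) := ih _ hcard (G ⧸ R) rfl
      apply Cfsg.Agent.S4145.isPSolvable_of_quotient p R _ hquot
      have : Fact q.Prime := ⟨hq⟩
      obtain ⟨k, hk⟩ := hRq.exists_card_eq
      by_cases hpq : q = p
      · left
        exact ⟨k, by rw [hk, hpq]⟩
      · right
        rw [hk]
        apply Nat.Coprime.pow_left
        exact (Nat.coprime_primes hq (Fact.out : p.Prime)).mpr hpq

end PSolv

variable {X : Type*} [Group X]

/-- `V = ⟨Ω₁(Z(S)) : S ∈ Syl₂(X)⟩`. -/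
abbrev bigV (X : Type*) [Group X] : Subgroup X :=
  ⨆ S : Sylow 2 X, omegaOne 2 ((S : Subgroup X) ⊓ Subgroup.centralizer ((S : Subgroup X) : Set X))

/-- A `2`-solvable group with trivial `2'`-core not involving `S₄` is Thompson factorizable. -/
theorem isThompsonFactorizable_of_not_involves [Finite X] (hsep : IsPSolvable 2 X)
    (hO : pPrimeCore 2 X = ⊥) (hS4 : ¬ Involves (Equiv.Perm (Fin 4)) X) :
    IsThompsonFactorizable 2 X := by
  have h2 : Fact (Nat.Prime 2) := ⟨Nat.prime_two⟩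
  by_contra hnf
  have hc : Subgroup.centralizer (pCore 2 X : Set X) ≤ pCore 2 X :=
    Cfsg.Agent.Lib.Helper49.FF620.centralizer_pCore_le_of hsep hO
  obtain ⟨hVn, hVel, -⟩ := Cfsg.Agent.S0601.result (p := 2) hc
  have h618 := Cfsg.Agent.S0618.result hsep hO hnf
  rw [Cfsg.Agent.Lib.Helper49.FF618.centralizer_iSup_coe] at h618
  obtain ⟨-, E, hCE, -, -, hn, ⟨e⟩⟩ := h618
  have hV2 : IsPGroup 2 (bigV X) := isPGroup_of_isElementaryAbelian hVel
  let ψ : ↥E →* Equiv.Perm (Fin 3) :=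
    toPerm.comp (e.toMonoidHom.comp (QuotientGroup.mk' _))
  have hψ : Function.Surjective ψ :=
    toPerm_surjective.comp (e.surjective.comp (QuotientGroup.mk'_surjective _))
  obtain ⟨x, y, ⟨kx, hx⟩, ⟨ky, hy⟩, hinv, hψx⟩ :=
    Cfsg.Agent.Lib.Helper99.S4Inv.exists_inverting_pair ψ hψ
  have hxC : (x : X) ∉ Subgroup.centralizer ((bigV X : Subgroup X) : Set X) := by
    intro h
    apply hψx
    have h1 : (QuotientGroup.mk' ((Subgroup.centralizer ((bigV X : Subgroup X) : Set X)).subgroupOf E)) x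
        = 1 := (QuotientGroup.eq_one_iff x).mpr (Subgroup.mem_subgroupOf.mpr h)
    show toPerm (e ((QuotientGroup.mk' _) x)) = 1
    rw [h1, map_one, map_one]
  have hN : ∀ g : X, g ∈ Subgroup.normalizer ((bigV X : Subgroup X) : Set X) := by
    intro g
    rw [Subgroup.normalizer_eq_top_iff.mpr hVn]
    exact Subgroup.mem_top g
  have hinvX : (y : X) * (x : X) * (y : X)⁻¹ = (x : X)⁻¹ := by
    have := congrArg (Subtype.val) hinv
    simpa using this
  have hxo : ∃ k : ℕ, orderOf (x : X) = 3 ^ k := ⟨kx, by rw [Subgroup.orderOf_coe, hx]⟩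
  have hyo : ∃ k : ℕ, orderOf (y : X) = 2 ^ k := ⟨ky, by rw [Subgroup.orderOf_coe, hy]⟩
  obtain ⟨x', hx'N, hx', hinv', hx3, hx'V⟩ :=
    Cfsg.Agent.Lib.Helper99.S4Inv.exists_pow_reduction (bigV X) (x : X) (y : X) hxo hinvX
      (hN _) hxC
  exact hS4 (Cfsg.Agent.Lib.Helper99.S4Inv.involves_of_two_subgroup (Nat.card (bigV X)) (bigV X) rfl
    hV2 x' (y : X) hx'N (hN _) hx' hyo hinv' hx3 hx'V)

/-! ### The stabilizer of a chain `T ≥ V ≥ 1` -/

/-- The elements acting trivially on `T` modulo `V` and on `V`. -/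
def chainStab (T V : Subgroup X) : Subgroup X where
  carrier := {g | (∀ t ∈ T, t⁻¹ * (g * t * g⁻¹) ∈ V) ∧ ∀ v ∈ V, g * v = v * g}
  one_mem' := ⟨fun t _ => by simp, fun v _ => by simp⟩
  mul_mem' := by
    rintro g h ⟨hg1, hg2⟩ ⟨hh1, hh2⟩
    refine ⟨fun t ht => ?_, fun v hv => ?_⟩
    · have e : t⁻¹ * (g * h * t * (g * h)⁻¹) =
          (t⁻¹ * (g * t * g⁻¹)) * (g * (t⁻¹ * (h * t * h⁻¹)) * g⁻¹) := by group
      rw [e]
      have h3 : g * (t⁻¹ * (h * t * h⁻¹)) * g⁻¹ = t⁻¹ * (h * t * h⁻¹) := by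
        rw [hg2 _ (hh1 t ht)]; group
      rw [h3]
      exact V.mul_mem (hg1 t ht) (hh1 t ht)
    · rw [mul_assoc, hh2 v hv, ← mul_assoc, hg2 v hv, mul_assoc]
  inv_mem' := by
    rintro g ⟨hg1, hg2⟩
    have hg2' : ∀ v ∈ V, g⁻¹ * v = v * g⁻¹ := by
      intro v hv
      have := hg2 v hv
      calc g⁻¹ * v = g⁻¹ * (v * g) * g⁻¹ := by group
        _ = g⁻¹ * (g * v) * g⁻¹ := by rw [this]
        _ = v * g⁻¹ := by group
    refine ⟨fun t ht => ?_, hg2'⟩
    have e : t⁻¹ * (g⁻¹ * t * g⁻¹⁻¹) = g⁻¹ * (t⁻¹ * (g * t * g⁻¹))⁻¹ * g := by group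
    rw [e, hg2' _ (V.inv_mem (hg1 t ht)), mul_assoc, inv_mul_cancel, mul_one]
    exact V.inv_mem (hg1 t ht)

theorem mem_chainStab {T V : Subgroup X} {g : X} :
    g ∈ chainStab T V ↔ (∀ t ∈ T, t⁻¹ * (g * t * g⁻¹) ∈ V) ∧ ∀ v ∈ V, g * v = v * g := Iff.rfl

theorem chainStab_normal (T V : Subgroup X) [hT : T.Normal] [hV : V.Normal] :
    (chainStab T V).Normal := by
  refine ⟨fun g hg x => ?_⟩
  obtain ⟨hg1, hg2⟩ := hg
  refine ⟨fun t ht => ?_, fun v hv => ?_⟩
  · have hs : x⁻¹ * t * x ∈ T := by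
      have := hT.conj_mem t ht x⁻¹
      simpa using this
    have e : t⁻¹ * (x * g * x⁻¹ * t * (x * g * x⁻¹)⁻¹) =
        x * ((x⁻¹ * t * x)⁻¹ * (g * (x⁻¹ * t * x) * g⁻¹)) * x⁻¹ := by group
    rw [e]
    exact hV.conj_mem _ (hg1 _ hs) x
  · have hs : x⁻¹ * v * x ∈ V := by
      have := hV.conj_mem v hv x⁻¹
      simpa using this
    have := hg2 _ hs
    calc x * g * x⁻¹ * v = x * (g * (x⁻¹ * v * x)) * x⁻¹ := by group
      _ = x * ((x⁻¹ * v * x) * g) * x⁻¹ := by rw [this]
      _ = v * (x * g * x⁻¹) := by group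

/-- If `C(T) ≤ T` for a `2`-group `T` and `V` has exponent `2`, the chain stabilizer is a `2`-group. -/
theorem isPGroup_chainStab (T V : Subgroup X) (hT2 : IsPGroup 2 T)
    (hc : Subgroup.centralizer (T : Set X) ≤ T) (hVexp : ∀ v ∈ V, v ^ 2 = 1)
    (hfin : ∀ g : X, 0 < orderOf g) :
    IsPGroup 2 (chainStab T V) := by
  rintro ⟨g, hg⟩
  obtain ⟨k, m, hm, hkm⟩ := Nat.exists_eq_two_pow_mul_odd (hfin g).ne'
  refine ⟨k, Subtype.ext ?_⟩
  show g ^ 2 ^ k = 1
  set h := g ^ 2 ^ k with hh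
  have hhN : h ∈ chainStab T V := Subgroup.pow_mem _ hg _
  have hhm : h ^ m = 1 := by rw [hh, ← pow_mul, ← hkm, pow_orderOf_eq_one]
  have hodd : Odd (orderOf h) := Odd.of_dvd_nat hm (orderOf_dvd_of_pow_eq_one hhm)
  have hcop2 : (orderOf h).Coprime 2 := Nat.Coprime.symm (Nat.coprime_two_left.mpr hodd)
  have hcent : h ∈ Subgroup.centralizer (T : Set X) := by
    rw [Subgroup.mem_centralizer_iff]
    intro t ht
    have hzV := hhN.1 t ht
    have hz1 : t⁻¹ * (h * t * h⁻¹) = 1 := by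
      apply Cfsg.Agent.Lib.Helper24.eq_one_of_conj_eq_mul_of_commute_of_coprime h t _ (by group)
        (hhN.2 _ hzV)
      exact Nat.Coprime.coprime_dvd_right (orderOf_dvd_of_pow_eq_one (hVexp _ hzV)) hcop2
    have : h * t * h⁻¹ = t := by
      have := congrArg (fun w => t * w) hz1
      simpa using this
    calc t * h = (h * t * h⁻¹) * h := by rw [this]
      _ = h * t := by group
  obtain ⟨j, hj⟩ := hT2 ⟨h, hc hcent⟩
  have hj' : h ^ 2 ^ j = 1 := by
    have := congrArg Subtype.val hj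
    simpa using this
  have hdvd : orderOf h ∣ 2 ^ j := orderOf_dvd_of_pow_eq_one hj'
  have : orderOf h = 1 := Nat.Coprime.eq_one_of_dvd (hcop2.pow_right j) hdvd
  exact orderOf_eq_one_iff.mp this

/-! ### Class two -/

/-- In a `2`-solvable group with trivial `2'`-core not involving `S₄`, with a Sylow `2`-subgroup `S` of
class at most two, every elementary abelian `2`-subgroup of largest order contained in `S` lies in
`O₂`. -/
theorem le_pCore_of_max [Finite X] (hsep : IsPSolvable 2 X) (hO : pPrimeCore 2 X = ⊥)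
    (hS4 : ¬ Involves (Equiv.Perm (Fin 4)) X) (S : Sylow 2 X)
    (hcl : Subgroup.lowerCentralSeries (S : Subgroup X) 2 = ⊥) {A : Subgroup X}
    (hA : A ∈ maxElementaryAbelianSubgroups 2 X) (hAS : A ≤ (S : Subgroup X)) :
    A ≤ pCore 2 X := by
  have h2 : Fact (Nat.Prime 2) := ⟨Nat.prime_two⟩
  have hfact := isThompsonFactorizable_of_not_involves hsep hO hS4
  have hJ := (Cfsg.Agent.S0608.result (p := 2) hO).mp hfact
  have hc : Subgroup.centralizer (pCore 2 X : Set X) ≤ pCore 2 X :=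
    Cfsg.Agent.Lib.Helper49.FF620.centralizer_pCore_le_of hsep hO
  obtain ⟨hVn, hVel, -⟩ := Cfsg.Agent.S0601.result (p := 2) hc
  have hcl' : ⁅⁅(S : Subgroup X), (S : Subgroup X)⁆, (S : Subgroup X)⁆ = ⊥ := hcl
  have hAN : A ≤ chainStab (pCore 2 X) (bigV X) := by
    intro a ha
    refine ⟨fun t ht => ?_, fun v hv => ?_⟩
    · have htS : t ∈ (S : Subgroup X) := pCore_le_sylow' S ht
      have haS : a ∈ (S : Subgroup X) := hAS ha
      set c := t⁻¹ * (a * t * a⁻¹) with hcdef
      have hcomm : c = ⁅t⁻¹, a⁆ := by rw [commutatorElement_def, hcdef]; group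
      have hcSS : c ∈ ⁅(S : Subgroup X), (S : Subgroup X)⁆ :=
        hcomm ▸ Subgroup.commutator_mem_commutator (inv_mem htS) haS
      have hcZ : ∀ s ∈ (S : Subgroup X), c * s = s * c := by
        intro s hs
        have h1 : ⁅c, s⁆ ∈ ⁅⁅(S : Subgroup X), (S : Subgroup X)⁆, (S : Subgroup X)⁆ :=
          Subgroup.commutator_mem_commutator hcSS hs
        rw [hcl', Subgroup.mem_bot, commutatorElement_eq_one_iff_mul_comm] at h1
        exact h1
      have hcS : c ∈ (S : Subgroup X) :=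
        mul_mem (inv_mem htS) (mul_mem (mul_mem haS htS) (inv_mem haS))
      have hc2 : c ^ 2 = 1 := by
        have h1 := Cfsg.Agent.Lib.Helper24.conj_pow_of_commute a t c (by rw [hcdef]; group)
          (hcZ a haS).symm 2
        have ha2 : a ^ 2 = 1 := hA.1.2 a ha
        rw [ha2, one_mul, inv_one, mul_one] at h1
        have := congrArg (fun w => t⁻¹ * w) h1
        simpa using this.symm
      have hmem : c ∈ omegaOne 2 ((S : Subgroup X) ⊓
          Subgroup.centralizer ((S : Subgroup X) : Set X)) :=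
        mem_omegaOne ⟨hcS, Subgroup.mem_centralizer_iff.mpr (fun s hs => (hcZ s hs).symm)⟩ hc2
      exact le_iSup (fun S : Sylow 2 X => omegaOne 2 ((S : Subgroup X) ⊓
          Subgroup.centralizer ((S : Subgroup X) : Set X))) S hmem
    · have := hJ (le_thompsonSubgroup hA ha)
      exact (Subgroup.mem_centralizer_iff.mp this v hv).symm
  have hNp : IsPGroup 2 (chainStab (pCore 2 X) (bigV X)) :=
    isPGroup_chainStab _ _ (isPGroup_pCore 2 X) hc (fun v hv => hVel.2 v hv)
      (fun g => orderOf_pos g)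
  have hNn : (chainStab (pCore 2 X) (bigV X)).Normal :=
    @chainStab_normal _ _ (pCore 2 X) (bigV X) (Cfsg.pCore_normal 2 X) hVn
  exact hAN.trans (le_pCore_of_normal hNn hNp)

/-- The Thompson subgroup of `S` is normal. -/
theorem thompsonSubgroupOf_normal [Finite X] (hsep : IsPSolvable 2 X) (hO : pPrimeCore 2 X = ⊥)
    (hS4 : ¬ Involves (Equiv.Perm (Fin 4)) X) (S : Sylow 2 X)
    (hcl : Subgroup.lowerCentralSeries (S : Subgroup X) 2 = ⊥) :
    (thompsonSubgroupOf 2 (S : Subgroup X)).Normal := by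
  have h2 : Fact (Nat.Prime 2) := ⟨Nat.prime_two⟩
  obtain ⟨A₀, hA₀, hA₀S⟩ := exists_max_le_sylow S
  rw [thompsonSubgroupOf_eq_sSup (S : Subgroup X) hA₀ hA₀S]
  have key : ∀ g : X, (sSup {A | A ∈ maxElementaryAbelianSubgroups 2 X ∧ A ≤ (S : Subgroup X)}).map
      (MulAut.conj g).toMonoidHom ≤
        sSup {A | A ∈ maxElementaryAbelianSubgroups 2 X ∧ A ≤ (S : Subgroup X)} := by
    intro g
    rw [(Subgroup.gc_map_comap (MulAut.conj g).toMonoidHom).l_sSup]
    refine iSup₂_le fun A hA => ?_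
    apply le_sSup
    refine ⟨map_mem_maxElementaryAbelian (MulAut.conj g) hA.1, ?_⟩
    have hAT := le_pCore_of_max hsep hO hS4 S hcl hA.1 hA.2
    refine le_trans ?_ (pCore_le_sylow' S)
    rintro _ ⟨a, ha, rfl⟩
    exact (Cfsg.pCore_normal 2 X).conj_mem a (hAT ha) g
  refine ⟨fun n hn g => ?_⟩
  exact key g ⟨n, hn, rfl⟩

end Cfsg.Agent.Lib.Helper97.ClassTwoJ
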