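import Mathlib

/-!
# The norm map `C_A(H) → C_A(Γ)` (helper97)

For a finite group `Γ` acting on an abelian group `A` (through `ρ : Γ →* MulAut A`) and a subgroup
`H ≤ Γ`, the homomorphism `N a = ∏_{q ∈ Γ/H} ρ(q.out) a` maps `H`-fixed points to `Γ`-fixed points and is
the `|Γ : H|`-th power map on `Γ`-fixed points.
-/

set_option autoImplicit false

namespace Cfsg.Agent.Lib.Helper97

theorem exists_norm_hom_comm {Γ A : Type*} [Group Γ] [Finite Γ] [CommGroup A] (ρ : Γ →* MulAut A)
    (H : Subgroup Γ) :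
    ∃ N : A →* A, (∀ a, (∀ h ∈ H, ρ h a = a) → ∀ g, ρ g (N a) = N a) ∧
      (∀ a, (∀ g, ρ g a = a) → N a = a ^ H.index) := by
  classical
  have : Fintype (Γ ⧸ H) := Fintype.ofFinite _
  refine ⟨∏ q : Γ ⧸ H, (ρ (Quotient.out q)).toMonoidHom, ?_, ?_⟩
  · intro a ha g
    rw [MonoidHom.finsetProd_apply, map_prod]
    set σ : Equiv.Perm (Γ ⧸ H) := MulAction.toPerm g with hσ
    have key : ∀ q : Γ ⧸ H, ρ g ((ρ (Quotient.out q)).toMonoidHom a) =
        (ρ (Quotient.out (σ q))).toMonoidHom a := by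
      intro q
      simp only [MulEquiv.coe_toMonoidHom]
      have h1 : σ q = ((g * Quotient.out q : Γ) : Γ ⧸ H) := by
        show g • q = _
        conv_lhs => rw [← QuotientGroup.out_eq' q]
        rfl
      have h2 : ((Quotient.out (σ q) : Γ) : Γ ⧸ H) = ((g * Quotient.out q : Γ) : Γ ⧸ H) := by
        rw [← h1]
        exact QuotientGroup.out_eq' _
      have h3 : (Quotient.out (σ q))⁻¹ * (g * Quotient.out q) ∈ H := QuotientGroup.eq.mp h2
      have h4 : g * Quotient.out q = Quotient.out (σ q) *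
          ((Quotient.out (σ q))⁻¹ * (g * Quotient.out q)) := by group
      have h5 : ρ g (ρ (Quotient.out q) a) = ρ (g * Quotient.out q) a := by
        rw [map_mul]; rfl
      rw [h5, h4, map_mul, MulAut.mul_apply, ha _ h3]
    rw [Finset.prod_congr rfl (fun q _ => key q)]
    exact Equiv.prod_comp σ (fun q => (ρ (Quotient.out q)).toMonoidHom a)
  · intro a ha
    rw [MonoidHom.finsetProd_apply]
    have : ∀ q ∈ (Finset.univ : Finset (Γ ⧸ H)), (ρ (Quotient.out q)).toMonoidHom a = a :=
      fun q _ => ha _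
    rw [Finset.prod_congr rfl this, Finset.prod_const, Finset.card_univ, Subgroup.index_eq_card,
      Nat.card_eq_fintype_card]

/-- Version with a commutativity hypothesis instead of a `CommGroup` instance. -/
theorem exists_norm_hom {Γ A : Type*} [Group Γ] [Finite Γ] [Group A]
    (hc : ∀ x y : A, x * y = y * x) (ρ : Γ →* MulAut A) (H : Subgroup Γ) :
    ∃ N : A →* A, (∀ a, (∀ h ∈ H, ρ h a = a) → ∀ g, ρ g (N a) = N a) ∧
      (∀ a, (∀ g, ρ g a = a) → N a = a ^ H.index) := by
  let _ : CommGroup A := { (inferInstance : Group A) with mul_comm := hc }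
  exact exists_norm_hom_comm ρ H

end Cfsg.Agent.Lib.Helper97
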