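import Mathlib
import Cfsg.Prelude.Def_KGroupFacts
import Cfsg.Agent.Lib.Helper22.GTFinal

/-!
# `Out(G)` is solvable when `Aut(S)` is, `S ∈ Syl₂(G)`, `G` simple (helper97)

CONDITIONAL on the Odd Order Theorem, taken as the hypothesis `OddSolvable`.
Frattini: `Aut G = Inn G · N_{Aut G}(S')`, `S' = Inn`-image of `S`; `N(S')/C(S') ↪ Aut S' ≅ Aut S`;
`C(S') = fixer S` has a normal `2`-complement (Glauberman, Helper22 `GTFinal`), of odd order.
-/

set_option autoImplicit false

namespace Cfsg.Agent.Lib.Helper97.OutSolv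

open Cfsg Cfsg.Agent.Lib.Helper22.GT
open scoped Pointwise

universe u

/-- The Odd Order Theorem at universe `u`, as a hypothesis. -/
def OddSolvable : Prop :=
  ∀ (X : Type u) [Group X] [Finite X], Odd (Nat.card X) → Group.IsSolvable X

variable {G : Type u} [Group G] [Finite G]

theorem oddCore_eq_bot_of_simple [IsSimpleGroup G] (heven : 2 ∣ Nat.card G) : oddCore G = ⊥ := by
  have hn : (oddCore G).Normal := inferInstance
  rcases hn.eq_bot_or_eq_top with h | h
  · exact h
  · exfalso
    have h1 := odd_card_oddCore (G := G)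
    rw [h, Subgroup.card_top] at h1
    exact (Nat.not_even_iff_odd.2 h1) (even_iff_two_dvd.2 heven)

omit [Finite G] in
theorem center_eq_bot_of_simple [IsSimpleGroup G] (hG : ¬ IsMulCommutative G) :
    Subgroup.center G = ⊥ := by
  have hn : (Subgroup.center G).Normal := inferInstance
  rcases hn.eq_bot_or_eq_top with h | h
  · exact h
  · exfalso
    apply hG
    refine ⟨⟨fun a b => ?_⟩⟩
    have ha : a ∈ Subgroup.center G := by rw [h]; exact Subgroup.mem_top a
    exact (Subgroup.mem_center_iff.1 ha b).symm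

omit [Finite G] in
theorem conj_injective_of_center (hZ : Subgroup.center G = ⊥) :
    Function.Injective (MulAut.conj : G →* MulAut G) := by
  rw [← MonoidHom.ker_eq_bot_iff, eq_bot_iff]
  intro g hg
  rw [← hZ, Subgroup.mem_center_iff]
  intro x
  have h1 : MulAut.conj g x = x := by
    rw [MonoidHom.mem_ker] at hg
    rw [hg]; rfl
  rw [MulAut.conj_apply] at h1
  calc x * g = (g * x * g⁻¹) * g := by rw [h1]
    _ = g * x := by group

/-- The fixer of a Sylow `2`-subgroup is solvable (Glauberman + odd order theorem). -/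
theorem isSolvable_fixer (hFT : OddSolvable.{u}) (hO : oddCore G = ⊥) (S : Sylow 2 G) :
    Group.IsSolvable ↥(fixer (S : Subgroup G)) := by
  obtain ⟨P⟩ : Nonempty (Sylow 2 ↥(fixer (S : Subgroup G))) := inferInstance
  obtain ⟨N, hN, hc⟩ := glauberman_normal_complement' hO S P
  have hNodd : Odd (Nat.card N) := by
    have h1 : (P : Subgroup ↥(fixer (S : Subgroup G))).index = Nat.card N := hc.index_eq_card
    have h2 : ¬ 2 ∣ (P : Subgroup ↥(fixer (S : Subgroup G))).index := P.not_dvd_index
    rw [h1] at h2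
    exact Nat.odd_iff.2 (Nat.two_dvd_ne_zero.1 h2)
  have hNs : Group.IsSolvable ↥N := hFT ↥N hNodd
  have hPs : Group.IsSolvable ↥(P : Subgroup ↥(fixer (S : Subgroup G))) := by
    have : Group.IsNilpotent ↥(P : Subgroup ↥(fixer (S : Subgroup G))) := P.2.isNilpotent
    exact IsNilpotent.to_isSolvable
  have hQs : Group.IsSolvable (↥(fixer (S : Subgroup G)) ⧸ N) := by
    have e := hc.symm.QuotientMulEquiv
    exact Group.isSolvable_of_isSolvable_injective (f := e.toMonoidHom) e.injective
  exact (Group.isSolvable_iff_subgroup_quotient N).2 ⟨hNs, hQs⟩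

omit [Finite G] in
theorem conj_conj (a : MulAut G) (s : G) :
    a * MulAut.conj s * a⁻¹ = MulAut.conj (a s) := by
  ext x
  simp [MulAut.mul_apply, MulAut.conj_apply, map_mul, map_inv]

/-- the image of `S` in `Aut G`. -/
abbrev innImage (S : Subgroup G) : Subgroup (MulAut G) := S.map (MulAut.conj : G →* MulAut G)

omit [Finite G] in
theorem mem_normalizer_innImage {S : Subgroup G} {b : MulAut G}
    (h1 : ∀ s ∈ S, b s ∈ S) (h2 : ∀ s ∈ S, b⁻¹ s ∈ S) :
    b ∈ Subgroup.normalizer ((innImage S : Subgroup (MulAut G)) : Set (MulAut G)) := by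
  rw [Subgroup.mem_normalizer_iff]
  intro x
  constructor
  · rintro ⟨s, hs, rfl⟩
    rw [conj_conj]
    exact ⟨b s, h1 s hs, rfl⟩
  · rintro ⟨s', hs', hx⟩
    have hx' : x = b⁻¹ * MulAut.conj s' * (b⁻¹)⁻¹ := by
      rw [hx]; group
    rw [hx', conj_conj]
    exact ⟨b⁻¹ s', h2 s' hs', rfl⟩

omit [Finite G] in
theorem fixer_le_centralizer_innImage (S : Subgroup G) :
    fixer S ≤ Subgroup.centralizer ((innImage S : Subgroup (MulAut G)) : Set (MulAut G)) := by
  intro a ha
  rw [Subgroup.mem_centralizer_iff]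
  rintro _ ⟨s, hs, rfl⟩
  have h1 := conj_conj a s
  rw [ha s hs] at h1
  calc MulAut.conj s * a = (a * MulAut.conj s * a⁻¹) * a := by rw [h1]
    _ = a * MulAut.conj s := by group

omit [Finite G] in
theorem centralizer_innImage_le_fixer (hZ : Subgroup.center G = ⊥) (S : Subgroup G) :
    Subgroup.centralizer ((innImage S : Subgroup (MulAut G)) : Set (MulAut G)) ≤ fixer S := by
  intro a ha s hs
  rw [Subgroup.mem_centralizer_iff] at ha
  have h1 := ha (MulAut.conj s) ⟨s, hs, rfl⟩
  have h2 : MulAut.conj (a s) = MulAut.conj s := by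
    rw [← conj_conj, ← h1]; group
  exact conj_injective_of_center hZ h2

/-- Frattini in `Aut G`: every automorphism is inner times one normalizing the image of `S`. -/
theorem exists_inner_mul_normalizer (S : Sylow 2 G) (a : MulAut G) :
    ∃ g : G, ∃ b ∈ Subgroup.normalizer
      ((innImage (S : Subgroup G) : Subgroup (MulAut G)) : Set (MulAut G)),
      a = (MulAut.conj g)⁻¹ * b := by
  obtain ⟨g, hg⟩ := MulAction.exists_smul_eq G (a • S) S
  refine ⟨g, MulAut.conj g * a, ?_, by group⟩
  have hb : (MulAut.conj g * a) • (S : Subgroup G) = (S : Subgroup G) := by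
    have h1 : MulAut.conj g • (a • S) = S := by rw [← Sylow.smul_def]; exact hg
    have h2 := congrArg (fun P : Sylow 2 G => (P : Subgroup G)) h1
    simp only [Sylow.pointwise_smul_def] at h2
    rw [mul_smul]; exact h2
  have hb' : (MulAut.conj g * a)⁻¹ • (S : Subgroup G) = (S : Subgroup G) := by
    rw [inv_smul_eq_iff, hb]
  apply mem_normalizer_innImage
  · intro s hs
    have : (MulAut.conj g * a) • s ∈ (MulAut.conj g * a) • (S : Subgroup G) :=
      Subgroup.smul_mem_pointwise_smul _ _ _ hs
    rw [hb] at this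
    exact this
  · intro s hs
    have : (MulAut.conj g * a)⁻¹ • s ∈ (MulAut.conj g * a)⁻¹ • (S : Subgroup G) :=
      Subgroup.smul_mem_pointwise_smul _ _ _ hs
    rw [hb'] at this
    exact this

/-- `N_{Aut G}(S')` is solvable. -/
theorem isSolvable_normalizer_innImage [IsSimpleGroup G] (hFT : OddSolvable.{u})
    (hG : ¬ IsMulCommutative G) (S : Sylow 2 G) (hS1 : (S : Subgroup G) ≠ ⊥)
    (hS : Group.IsSolvable (MulAut ↥S)) :
    Group.IsSolvable ↥(Subgroup.normalizer
      ((innImage (S : Subgroup G) : Subgroup (MulAut G)) : Set (MulAut G))) := by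
  have hZ := center_eq_bot_of_simple hG
  have heven : 2 ∣ Nat.card G := by
    by_contra h
    apply hS1
    have h1 : Nat.card (S : Subgroup G) = 1 := by
      obtain ⟨n, hn⟩ := IsPGroup.iff_card.mp S.2
      have h2 : Nat.card (S : Subgroup G) ∣ Nat.card G := Subgroup.card_subgroup_dvd_card _
      rw [hn] at h2 ⊢
      rcases Nat.eq_zero_or_pos n with h0 | h0
      · rw [h0, pow_zero]
      · exact absurd ((dvd_pow_self 2 h0.ne').trans h2) h
    exact Subgroup.card_eq_one.1 h1
  have hO := oddCore_eq_bot_of_simple (G := G) heven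
  have hfix : Group.IsSolvable ↥(fixer (S : Subgroup G)) := isSolvable_fixer hFT hO S
  set S' := innImage (S : Subgroup G) with hS'
  have hle : fixer (S : Subgroup G) ≤ Subgroup.normalizer (S' : Set (MulAut G)) :=
    (fixer_le_centralizer_innImage (S : Subgroup G)).trans (Subgroup.centralizer_le_normalizer _)
  have hautS' : Group.IsSolvable (MulAut ↥S') := by
    let e : ↥(S : Subgroup G) ≃* ↥S' :=
      (S : Subgroup G).equivMapOfInjective _ (conj_injective_of_center hZ)
    exact Group.isSolvable_of_isSolvable_injective (f := (MulAut.congr e).symm.toMonoidHom)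
      (MulAut.congr e).symm.injective
  refine Group.isSolvable_of_ker_le_range (Subgroup.inclusion hle) S'.normalizerMonoidHom ?_
  rw [Subgroup.normalizerMonoidHom_ker, Subgroup.inclusion_range]
  intro x hx
  rw [Subgroup.mem_subgroupOf] at hx ⊢
  exact centralizer_innImage_le_fixer hZ (S : Subgroup G) hx

/-- `Out G` is solvable (conditional on the odd order theorem). -/
theorem isSolvable_out [IsSimpleGroup G] (hFT : OddSolvable.{u})
    (hG : ¬ IsMulCommutative G) (S : Sylow 2 G) (hS1 : (S : Subgroup G) ≠ ⊥)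
    (hS : Group.IsSolvable (MulAut ↥S)) : Group.IsSolvable (Cfsg.Out G) := by
  have hN := isSolvable_normalizer_innImage hFT hG S hS1 hS
  let φ : ↥(Subgroup.normalizer
      ((innImage (S : Subgroup G) : Subgroup (MulAut G)) : Set (MulAut G))) →* Cfsg.Out G :=
    (QuotientGroup.mk' (Inn G)).comp (Subgroup.subtype _)
  refine Group.isSolvable_of_surjective (f := φ) ?_
  intro q
  obtain ⟨a, rfl⟩ := QuotientGroup.mk'_surjective (Inn G) q
  obtain ⟨g, b, hb, rfl⟩ := exists_inner_mul_normalizer S a
  refine ⟨⟨b, hb⟩, ?_⟩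
  show (QuotientGroup.mk' (Inn G)) b = (QuotientGroup.mk' (Inn G)) ((MulAut.conj g)⁻¹ * b)
  rw [map_mul]
  have h1 : (QuotientGroup.mk' (Inn G)) ((MulAut.conj g)⁻¹) = 1 := by
    rw [QuotientGroup.mk'_apply, QuotientGroup.eq_one_iff]
    exact (Inn G).inv_mem ⟨g, rfl⟩
  rw [h1, one_mul]

end Cfsg.Agent.Lib.Helper97.OutSolv
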