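import Mathlib
import Cfsg.Prelude.Def_OddOrderLocal
import Cfsg.Agent.S1466
import Cfsg.Agent.S1467

/-!
# The Puig series of a subgroup, computed inside the ambient group (helper97)

`pSeq R n` is the image in `G` of the `n`-th term of the Puig series of `↥R`; it satisfies the recursion
`pSeq R (n+1) = pStep R (pSeq R n)` where `pStep R K` is generated by the abelian subgroups of `R`
normalized by `K`.  We prove: monotonicity, invariance under homomorphisms injective on `R`, and the
"functor" property `L(S) ≤ R ≤ S ⇒ L(R) = L(S)`.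
-/

set_option autoImplicit false

namespace Cfsg.Agent.Lib.Helper97

open Cfsg

variable {G : Type*} [Group G]

/-- `L_R(K)` computed in `G`: generated by the abelian subgroups of `R` normalized by `K`. -/
def pStep (R K : Subgroup G) : Subgroup G :=
  sSup {A : Subgroup G | A ≤ R ∧ IsMulCommutative A ∧ K ≤ Subgroup.normalizer (A : Set G)}

/-- The Puig series of `R`, inside `G`. -/
def pSeq (R : Subgroup G) : ℕ → Subgroup G
  | 0 => ⊥
  | n + 1 => pStep R (pSeq R n)

/-- `L(R)` inside `G`. -/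
def pUp (R : Subgroup G) : Subgroup G := ⨅ n : ℕ, pSeq R (2 * n + 1)

/-- `L_*(R)` inside `G`. -/
def pLow (R : Subgroup G) : Subgroup G := ⨆ n : ℕ, pSeq R (2 * n)

/-- `Z(L(R))` inside `G`. -/
def zL (R : Subgroup G) : Subgroup G := pUp R ⊓ Subgroup.centralizer (pUp R : Set G)

theorem pStep_le (R K : Subgroup G) : pStep R K ≤ R :=
  sSup_le fun _ hA => hA.1

theorem le_pStep {R K A : Subgroup G} (hAR : A ≤ R) (hA : IsMulCommutative A)
    (hK : K ≤ Subgroup.normalizer (A : Set G)) : A ≤ pStep R K :=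
  le_sSup ⟨hAR, hA, hK⟩

theorem pSeq_zero (R : Subgroup G) : pSeq R 0 = ⊥ := rfl

theorem pSeq_succ (R : Subgroup G) (n : ℕ) : pSeq R (n + 1) = pStep R (pSeq R n) := rfl

theorem pSeq_le (R : Subgroup G) (n : ℕ) : pSeq R n ≤ R := by
  cases n with
  | zero => exact bot_le
  | succ n => exact pStep_le _ _

theorem pLow_le (R : Subgroup G) : pLow R ≤ R := iSup_le fun _ => pSeq_le R _

theorem pUp_le (R : Subgroup G) : pUp R ≤ R := (iInf_le _ 0).trans (pSeq_le R _)

theorem pStep_mono {R S K K' : Subgroup G} (hRS : R ≤ S) (hK : K' ≤ K) : pStep R K ≤ pStep S K' :=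
  sSup_le_sSup fun _ hA => ⟨hA.1.trans hRS, hA.2.1, hK.trans hA.2.2⟩

/-- If every abelian subgroup of `S` normalized by `K` lies in `R`, then `L_S(K) ≤ L_R(K')` for `K' ≤ K`. -/
theorem pStep_le_pStep_of_forall {R S K K' : Subgroup G}
    (h : ∀ A : Subgroup G, A ≤ S → IsMulCommutative A → K ≤ Subgroup.normalizer (A : Set G) → A ≤ R)
    (hK : K' ≤ K) : pStep S K ≤ pStep R K' :=
  sSup_le_sSup fun A hA => ⟨h A hA.1 hA.2.1 hA.2.2, hA.2.1, hK.trans hA.2.2⟩

/-! ### Comparison with the type-level definitions -/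

theorem map_puigStep (R : Subgroup G) (K' : Subgroup R) :
    (Cfsg.puigStep K').map R.subtype = pStep R (K'.map R.subtype) := by
  unfold Cfsg.puigStep pStep
  apply le_antisymm
  · rw [Subgroup.map_le_iff_le_comap]
    apply sSup_le
    rintro A' ⟨hA'c, hA'n⟩
    rw [← Subgroup.map_le_iff_le_comap]
    apply le_sSup
    refine ⟨Subgroup.map_subtype_le _, Subgroup.map_isMulCommutative _ _, ?_⟩
    exact (Subgroup.map_mono hA'n).trans (Subgroup.le_normalizer_map _)
  · apply sSup_le
    rintro A ⟨hAR, hAc, hAn⟩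
    have hmap : (A.subgroupOf R).map R.subtype = A := by
      rw [Subgroup.subgroupOf_map_subtype, inf_eq_left.mpr hAR]
    rw [← hmap]
    apply Subgroup.map_mono
    apply le_sSup
    refine ⟨⟨⟨fun a b => ?_⟩⟩, ?_⟩
    · apply Subtype.ext
      apply Subtype.ext
      have h1 := hAc.is_comm.comm (⟨(a : R), a.2⟩ : A) ⟨(b : R), b.2⟩
      have h2 : ((a : R) : G) * ((b : R) : G) = ((b : R) : G) * ((a : R) : G) :=
        congrArg Subtype.val h1
      exact h2
    · intro k hk
      have hk' : (k : G) ∈ Subgroup.normalizer (A : Set G) := hAn ⟨k, hk, rfl⟩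
      rw [Subgroup.mem_normalizer_iff] at hk' ⊢
      intro a
      exact hk' (a : G)

theorem map_puigSeq (R : Subgroup G) (n : ℕ) :
    (Cfsg.puigSeq R n).map R.subtype = pSeq R n := by
  induction n with
  | zero => exact Subgroup.map_bot _
  | succ n ih =>
    show (Cfsg.puigStep (Cfsg.puigSeq R n)).map R.subtype = pStep R (pSeq R n)
    rw [map_puigStep, ih]

theorem map_puigLower (R : Subgroup G) : (Cfsg.puigLower R).map R.subtype = pLow R := by
  unfold Cfsg.puigLower pLow
  rw [Subgroup.map_iSup]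
  exact iSup_congr fun n => map_puigSeq R _

theorem map_puigSubgroup (R : Subgroup G) : (Cfsg.puigSubgroup R).map R.subtype = pUp R := by
  unfold Cfsg.puigSubgroup pUp
  rw [Subgroup.map_iInf _ R.subtype_injective]
  exact iInf_congr fun n => map_puigSeq R _

/-- `Z(L(R))` as it appears in the statements. -/
theorem map_center_puigSubgroup (R : Subgroup G) :
    ((Subgroup.center ↥(Cfsg.puigSubgroup ↥R)).map (Cfsg.puigSubgroup ↥R).subtype).map R.subtype =
      zL R := by
  unfold zL
  rw [← map_puigSubgroup]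
  ext x
  constructor
  · rintro ⟨y, ⟨z, hz, rfl⟩, rfl⟩
    refine Subgroup.mem_inf.mpr ⟨⟨z, z.2, rfl⟩, ?_⟩
    rw [Subgroup.mem_centralizer_iff]
    rintro _ ⟨w, hw, rfl⟩
    have := Subgroup.mem_center_iff.mp hz ⟨w, hw⟩
    have h2 : ((w : R) : G) * ((z : R) : G) = ((z : R) : G) * ((w : R) : G) :=
      congrArg (fun t : ↥(Cfsg.puigSubgroup ↥R) => ((t : R) : G)) this
    exact h2
  · intro hx
    obtain ⟨hx1, hx2⟩ := Subgroup.mem_inf.mp hx
    obtain ⟨z, hz, rfl⟩ := hx1
    have hcen : (⟨z, hz⟩ : ↥(Cfsg.puigSubgroup ↥R)) ∈ Subgroup.center ↥(Cfsg.puigSubgroup ↥R) := by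
      rw [Subgroup.mem_center_iff]
      intro w
      apply Subtype.ext
      apply Subtype.ext
      have := Subgroup.mem_centralizer_iff.mp hx2 ((w : R) : G) ⟨(w : R), w.2, rfl⟩
      exact this
    exact ⟨z, ⟨⟨z, hz⟩, hcen, rfl⟩, rfl⟩

/-! ### Facts transferred from S1467 -/

theorem pLow_le_pUp (R : Subgroup G) : pLow R ≤ pUp R := by
  rw [← map_puigLower, ← map_puigSubgroup]
  apply Subgroup.map_mono
  unfold Cfsg.puigLower Cfsg.puigSubgroup
  exact iSup_le fun n => le_iInf fun m => Cfsg.Agent.S1467.even_le_odd n m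

theorem pStep_pLow (R : Subgroup G) [Finite R] : pStep R (pLow R) = pUp R := by
  have h := (Cfsg.Agent.S1467.result (G := R)).2.2.2.2.2.1
  rw [← map_puigLower, ← map_puigStep, h, map_puigSubgroup]

theorem pStep_pUp (R : Subgroup G) [Finite R] : pStep R (pUp R) = pLow R := by
  have h := (Cfsg.Agent.S1467.result (G := R)).2.2.2.2.2.2
  rw [← map_puigSubgroup, ← map_puigStep, h, map_puigLower]

theorem pSeq_even_le_pLow (R : Subgroup G) (n : ℕ) : pSeq R (2 * n) ≤ pLow R :=
  le_iSup (fun n => pSeq R (2 * n)) n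

theorem pUp_le_pSeq_odd (R : Subgroup G) (n : ℕ) : pUp R ≤ pSeq R (2 * n + 1) :=
  iInf_le (fun n => pSeq R (2 * n + 1)) n

/-- An abelian subgroup of `R` normalized by `R` lies in `L_*(R)`. -/
theorem le_pLow_of_normal {R A : Subgroup G} (hAR : A ≤ R) (hA : IsMulCommutative A)
    (hn : R ≤ Subgroup.normalizer (A : Set G)) : A ≤ pLow R := by
  have h1 : A ≤ pSeq R (2 * 1) := by
    show A ≤ pStep R (pSeq R 1)
    exact le_pStep hAR hA ((pSeq_le R 1).trans hn)
  exact h1.trans (pSeq_even_le_pLow R 1)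

/-! ### The functor property -/

/-- `L(S) ≤ R ≤ S` implies `L_*(R) = L_*(S)` and `L(R) = L(S)`. -/
theorem pLow_pUp_eq_of_le {R S : Subgroup G} [Finite S] (hRS : R ≤ S) (hLR : pUp S ≤ R) :
    pLow R = pLow S ∧ pUp R = pUp S := by
  -- (i)
  have h1 : ∀ n : ℕ, pSeq S (2 * n) ≤ pSeq R (2 * n) ∧ pSeq R (2 * n + 1) ≤ pSeq S (2 * n + 1) := by
    intro n
    induction n with
    | zero =>
      refine ⟨le_rfl, ?_⟩
      exact pStep_mono hRS le_rfl
    | succ n ih =>
      have e1 : 2 * (n + 1) = (2 * n + 1) + 1 := by ring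
      have e2 : 2 * (n + 1) + 1 = (2 * (n + 1)) + 1 := rfl
      have h2 : pSeq S (2 * (n + 1)) ≤ pSeq R (2 * (n + 1)) := by
        rw [e1, pSeq_succ, pSeq_succ]
        apply pStep_le_pStep_of_forall _ ih.2
        intro A hAS hAc hAn
        have : A ≤ pSeq S (2 * (n + 1)) := by
          rw [e1, pSeq_succ]; exact le_pStep hAS hAc hAn
        exact this.trans ((pSeq_even_le_pLow S _).trans ((pLow_le_pUp S).trans hLR))
      refine ⟨h2, ?_⟩
      rw [pSeq_succ, pSeq_succ]
      exact pStep_mono hRS h2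
  -- (ii)
  have h2 : ∀ n : ℕ, pSeq R (2 * n) ≤ pLow S ∧ pUp S ≤ pSeq R (2 * n + 1) := by
    intro n
    induction n with
    | zero =>
      refine ⟨bot_le, ?_⟩
      rw [← pStep_pLow S, pSeq_succ]
      apply pStep_le_pStep_of_forall _ bot_le
      intro A hAS hAc hAn
      have : A ≤ pStep S (pLow S) := le_pStep hAS hAc hAn
      rw [pStep_pLow] at this
      exact this.trans hLR
    | succ n ih =>
      have e1 : 2 * (n + 1) = (2 * n + 1) + 1 := by ring
      have h3 : pSeq R (2 * (n + 1)) ≤ pLow S := by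
        rw [e1, pSeq_succ, ← pStep_pUp S]
        exact pStep_mono hRS ih.2
      refine ⟨h3, ?_⟩
      rw [← pStep_pLow S, pSeq_succ]
      apply pStep_le_pStep_of_forall _ h3
      intro A hAS hAc hAn
      have : A ≤ pStep S (pLow S) := le_pStep hAS hAc hAn
      rw [pStep_pLow] at this
      exact this.trans hLR
  constructor
  · apply le_antisymm
    · exact iSup_le fun n => (h2 n).1
    · exact iSup_le fun n => (h1 n).1.trans (pSeq_even_le_pLow R n)
  · apply le_antisymm
    · exact le_iInf fun n => (pUp_le_pSeq_odd R n).trans (h1 n).2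
    · exact le_iInf fun n => (h2 n).2

theorem zL_eq_of_le {R S : Subgroup G} [Finite S] (hRS : R ≤ S) (hLR : pUp S ≤ R) : zL R = zL S := by
  unfold zL
  rw [(pLow_pUp_eq_of_le hRS hLR).2]

end Cfsg.Agent.Lib.Helper97
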