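import Cfsg.Agent.Lib.Helper97.Puig
import Cfsg.Agent.Lib.Helper33.Conj

/-!
# The Puig series inside the ambient group, II (helper97)

* transfer of S1466: `C_R(L_i(R)) ≤ L_i(R)`;
* invariance under homomorphisms that are injective on `R`, in particular under conjugation.
-/

set_option autoImplicit false

namespace Cfsg.Agent.Lib.Helper97

open Cfsg

variable {G : Type*} [Group G]

theorem zL_le_pUp (R : Subgroup G) : zL R ≤ pUp R := inf_le_left

theorem zL_le (R : Subgroup G) : zL R ≤ R := inf_le_left.trans (pUp_le R)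

theorem zL_isMulCommutative (R : Subgroup G) : IsMulCommutative (zL R) := by
  refine ⟨⟨fun a b => ?_⟩⟩
  apply Subtype.ext
  have ha := (Subgroup.mem_inf.mp a.2).2
  have hb := (Subgroup.mem_inf.mp b.2).1
  exact (Subgroup.mem_centralizer_iff.mp ha (b : G) hb).symm

/-! ### Transfer of S1466 -/

theorem inf_centralizer_le_of_type {R : Subgroup G} (K' : Subgroup R)
    (h : Subgroup.centralizer (K' : Set R) ≤ K') :
    R ⊓ Subgroup.centralizer ((K'.map R.subtype : Subgroup G) : Set G) ≤ K'.map R.subtype := by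
  intro x hx
  obtain ⟨hxR, hxc⟩ := Subgroup.mem_inf.mp hx
  have h1 : (⟨x, hxR⟩ : R) ∈ Subgroup.centralizer (K' : Set R) := by
    rw [Subgroup.mem_centralizer_iff]
    intro y hy
    apply Subtype.ext
    exact Subgroup.mem_centralizer_iff.mp hxc (y : G) ⟨y, hy, rfl⟩
  exact ⟨⟨x, hxR⟩, h h1, rfl⟩

theorem inf_centralizer_pSeq_le {p : ℕ} [Fact p.Prime] (R : Subgroup G) [Finite R]
    (hR : IsPGroup p R) {i : ℕ} (hi : 0 < i) :
    R ⊓ Subgroup.centralizer (pSeq R i : Set G) ≤ pSeq R i := by
  rcases subsingleton_or_nontrivial R with hs | hn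
  · have : R = ⊥ := Subgroup.eq_bot_of_subsingleton R
    rw [this]
    exact inf_le_left.trans bot_le
  · rw [← map_puigSeq]
    exact inf_centralizer_le_of_type _ ((Cfsg.Agent.S1466.result p hR).1 i hi).2

theorem inf_centralizer_pLow_le {p : ℕ} [Fact p.Prime] (R : Subgroup G) [Finite R]
    (hR : IsPGroup p R) : R ⊓ Subgroup.centralizer (pLow R : Set G) ≤ pLow R := by
  rcases subsingleton_or_nontrivial R with hs | hn
  · have : R = ⊥ := Subgroup.eq_bot_of_subsingleton R
    rw [this]
    exact inf_le_left.trans bot_le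
  · rw [← map_puigLower]
    exact inf_centralizer_le_of_type _ (Cfsg.Agent.S1466.result p hR).2.1.2

theorem inf_centralizer_pUp_le {p : ℕ} [Fact p.Prime] (R : Subgroup G) [Finite R]
    (hR : IsPGroup p R) : R ⊓ Subgroup.centralizer (pUp R : Set G) ≤ pUp R := by
  rcases subsingleton_or_nontrivial R with hs | hn
  · have : R = ⊥ := Subgroup.eq_bot_of_subsingleton R
    rw [this]
    exact inf_le_left.trans bot_le
  · rw [← map_puigSubgroup]
    exact inf_centralizer_le_of_type _ (Cfsg.Agent.S1466.result p hR).2.2.1.2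

/-- `Z(L(R)) = C_R(L(R))`. -/
theorem zL_eq_inf_centralizer {p : ℕ} [Fact p.Prime] (R : Subgroup G) [Finite R]
    (hR : IsPGroup p R) : zL R = R ⊓ Subgroup.centralizer (pUp R : Set G) := by
  apply le_antisymm
  · exact inf_le_inf_right _ (pUp_le R)
  · exact le_inf (inf_centralizer_pUp_le R hR) inf_le_right

/-! ### Homomorphisms injective on `R` -/

section Map

variable {H : Type*} [Group H]

theorem pStep_map_of_injOn (f : G →* H) {R K : Subgroup G} (hf : Set.InjOn f (R : Set G))
    (hKR : K ≤ R) : pStep (R.map f) (K.map f) = (pStep R K).map f := by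
  apply le_antisymm
  · apply sSup_le
    rintro B ⟨hBR, hBc, hBn⟩
    set A : Subgroup G := B.comap f ⊓ R with hA
    have hAB : A.map f = B := by
      apply le_antisymm
      · rintro _ ⟨a, ha, rfl⟩
        exact (Subgroup.mem_inf.mp ha).1
      · intro y hy
        obtain ⟨x, hx, rfl⟩ := hBR hy
        exact ⟨x, Subgroup.mem_inf.mpr ⟨hy, hx⟩, rfl⟩
    have hAc : IsMulCommutative A := by
      refine ⟨⟨fun a b => ?_⟩⟩
      apply Subtype.ext
      have ha := Subgroup.mem_inf.mp a.2
      have hb := Subgroup.mem_inf.mp b.2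
      apply hf (mul_mem ha.2 hb.2) (mul_mem hb.2 ha.2)
      rw [map_mul, map_mul]
      have := hBc.is_comm.comm (⟨f a, ha.1⟩ : B) ⟨f b, hb.1⟩
      exact congrArg Subtype.val this
    have hAn : K ≤ Subgroup.normalizer (A : Set G) := by
      have key : ∀ k ∈ K, ∀ a ∈ A, k * a * k⁻¹ ∈ A := by
        intro k hk a ha
        have ha' := Subgroup.mem_inf.mp ha
        refine Subgroup.mem_inf.mpr ⟨?_, mul_mem (mul_mem (hKR hk) ha'.2) (inv_mem (hKR hk))⟩
        have hfk : f k ∈ Subgroup.normalizer (B : Set H) := hBn ⟨k, hk, rfl⟩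
        rw [Subgroup.mem_comap, map_mul, map_mul, map_inv]
        exact (Subgroup.mem_normalizer_iff.mp hfk (f a)).mp ha'.1
      intro k hk
      rw [Subgroup.mem_normalizer_iff]
      intro a
      constructor
      · exact key k hk a
      · intro h
        have := key k⁻¹ (inv_mem hk) _ h
        simpa [mul_assoc] using this
    rw [← hAB]
    exact Subgroup.map_mono (le_pStep inf_le_right hAc hAn)
  · rw [Subgroup.map_le_iff_le_comap]
    apply sSup_le
    rintro A ⟨hAR, hAc, hAn⟩
    rw [← Subgroup.map_le_iff_le_comap]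
    apply le_pStep (Subgroup.map_mono hAR) (Subgroup.map_isMulCommutative _ _)
    exact (Subgroup.map_mono hAn).trans (Subgroup.le_normalizer_map _)

theorem pSeq_map_of_injOn (f : G →* H) {R : Subgroup G} (hf : Set.InjOn f (R : Set G)) (n : ℕ) :
    pSeq (R.map f) n = (pSeq R n).map f := by
  induction n with
  | zero => exact (Subgroup.map_bot f).symm
  | succ n ih =>
    rw [pSeq_succ, pSeq_succ, ih]
    exact pStep_map_of_injOn f hf (pSeq_le R n)

theorem pUp_map_of_injOn (f : G →* H) {R : Subgroup G} (hf : Set.InjOn f (R : Set G)) :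
    pUp (R.map f) = (pUp R).map f := by
  unfold pUp
  simp only [pSeq_map_of_injOn f hf]
  apply le_antisymm
  · intro y hy
    rw [Subgroup.mem_iInf] at hy
    obtain ⟨x, hx, rfl⟩ := hy 0
    have hxi : x ∈ ⨅ n : ℕ, pSeq R (2 * n + 1) := by
      rw [Subgroup.mem_iInf]
      intro n
      obtain ⟨x', hx', hxx'⟩ := hy n
      have : x' = x := hf (pSeq_le R _ hx') (pSeq_le R _ hx) hxx'
      rw [← this]
      exact hx'
    exact ⟨x, hxi, rfl⟩
  · apply le_iInf
    intro n
    exact Subgroup.map_mono (iInf_le _ n)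

theorem zL_map_of_injOn (f : G →* H) {R : Subgroup G} (hf : Set.InjOn f (R : Set G)) :
    zL (R.map f) = (zL R).map f := by
  unfold zL
  rw [pUp_map_of_injOn f hf]
  ext y
  constructor
  · intro hy
    obtain ⟨hy1, hy2⟩ := Subgroup.mem_inf.mp hy
    obtain ⟨x, hx, rfl⟩ := hy1
    refine ⟨x, Subgroup.mem_inf.mpr ⟨hx, ?_⟩, rfl⟩
    rw [Subgroup.mem_centralizer_iff]
    intro w hw
    apply hf (mul_mem (pUp_le R hw) (pUp_le R hx)) (mul_mem (pUp_le R hx) (pUp_le R hw))
    rw [map_mul, map_mul]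
    exact Subgroup.mem_centralizer_iff.mp hy2 (f w) ⟨w, hw, rfl⟩
  · rintro ⟨x, hx, rfl⟩
    obtain ⟨hx1, hx2⟩ := Subgroup.mem_inf.mp hx
    refine Subgroup.mem_inf.mpr ⟨⟨x, hx1, rfl⟩, ?_⟩
    rw [Subgroup.mem_centralizer_iff]
    rintro _ ⟨w, hw, rfl⟩
    rw [← map_mul, ← map_mul, Subgroup.mem_centralizer_iff.mp hx2 w hw]

end Map

/-! ### Conjugation -/

open Cfsg.Agent.Lib.Helper33 in
theorem normalizer_le_normalizer_pSeq (R : Subgroup G) (n : ℕ) :
    Subgroup.normalizer (R : Set G) ≤ Subgroup.normalizer (pSeq R n : Set G) := by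
  intro g hg
  rw [mem_normalizer_iff_cj_eq] at hg ⊢
  have h1 := pSeq_map_of_injOn (MulAut.conj g).toMonoidHom (R := R)
    (fun x _ y _ hxy => (MulAut.conj g).injective hxy) n
  unfold cj at hg ⊢
  rw [← h1, hg]

open Cfsg.Agent.Lib.Helper33 in
theorem normalizer_le_normalizer_pUp (R : Subgroup G) :
    Subgroup.normalizer (R : Set G) ≤ Subgroup.normalizer (pUp R : Set G) := by
  intro g hg
  rw [mem_normalizer_iff_cj_eq] at hg ⊢
  have h1 := pUp_map_of_injOn (MulAut.conj g).toMonoidHom (R := R)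
    (fun x _ y _ hxy => (MulAut.conj g).injective hxy)
  unfold cj at hg ⊢
  rw [← h1, hg]

open Cfsg.Agent.Lib.Helper33 in
theorem normalizer_le_normalizer_zL (R : Subgroup G) :
    Subgroup.normalizer (R : Set G) ≤ Subgroup.normalizer (zL R : Set G) := by
  intro g hg
  rw [mem_normalizer_iff_cj_eq] at hg ⊢
  have h1 := zL_map_of_injOn (MulAut.conj g).toMonoidHom (R := R)
    (fun x _ y _ hxy => (MulAut.conj g).injective hxy)
  unfold cj at hg ⊢
  rw [← h1, hg]

theorem pSeq_normal {R : Subgroup G} (hR : R.Normal) (n : ℕ) : (pSeq R n).Normal := by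
  rw [← Subgroup.normalizer_eq_top_iff, eq_top_iff]
  refine le_trans ?_ (normalizer_le_normalizer_pSeq R n)
  rw [Subgroup.normalizer_eq_top_iff.mpr hR]

theorem pUp_normal {R : Subgroup G} (hR : R.Normal) : (pUp R).Normal := by
  rw [← Subgroup.normalizer_eq_top_iff, eq_top_iff]
  refine le_trans ?_ (normalizer_le_normalizer_pUp R)
  rw [Subgroup.normalizer_eq_top_iff.mpr hR]

theorem zL_normal {R : Subgroup G} (hR : R.Normal) : (zL R).Normal := by
  rw [← Subgroup.normalizer_eq_top_iff, eq_top_iff]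
  refine le_trans ?_ (normalizer_le_normalizer_zL R)
  rw [Subgroup.normalizer_eq_top_iff.mpr hR]

end Cfsg.Agent.Lib.Helper97
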