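import Mathlib
import Cfsg.Agent.Lib.Helper58.RU.Defs

/-!
# Project RU (S4751), module RU-[E] (helper97): exponent `p`

`pow_eq_one_of_core`: a commutative normal `p`-subgroup `Q` whose nontrivial linear characters are
permuted transitively by `G` has exponent `p`.
-/

set_option autoImplicit false

namespace Cfsg.Agent.Lib.Helper97.RU

open Cfsg Cfsg.Agent.Lib.Helper58.RU

universe u

variable {G : Type u} [Group G]

/-- MODULE RU-[E] -/
theorem pow_eq_one_of_core {p : ℕ} [Fact p.Prime] (Q : Subgroup G) [Q.Normal] [Finite Q]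
    (hQp : IsPGroup p Q) (hcomm : ∀ x ∈ Q, ∀ y ∈ Q, x * y = y * x)
    (htrans : ∀ φ ψ : Q →* ℂˣ, φ ≠ 1 → ψ ≠ 1 → ∃ g : G, conjHom Q g φ = ψ) :
    ∀ x ∈ Q, x ^ p = 1 := by
  classical
  have hp : p.Prime := Fact.out
  obtain ⟨n, hn⟩ := IsPGroup.iff_card.mp hQp
  -- every hom has `p`-power order
  have hpow : ∀ (φ : Q →* ℂˣ) (x : Q), φ x ^ (p ^ n) = 1 := by
    intro φ x
    rw [← map_pow, ← hn, pow_card_eq_one', map_one]
  -- every hom has order dividing `p`
  have hall : ∀ (φ : Q →* ℂˣ) (x : Q), φ x ^ p = 1 := by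
    intro φ
    by_cases hφ1 : φ = 1
    · intro x
      rw [hφ1, MonoidHom.one_apply, one_pow]
    have hex : ∃ k : ℕ, ∀ x : Q, φ x ^ (p ^ k) = 1 := ⟨n, hpow φ⟩
    have hkspec : ∀ x : Q, φ x ^ (p ^ (Nat.find hex)) = 1 := Nat.find_spec hex
    have hk0 : Nat.find hex ≠ 0 := by
      intro h0
      rw [h0] at hkspec
      apply hφ1
      ext x
      have := hkspec x
      rw [pow_zero, pow_one] at this
      rw [this, MonoidHom.one_apply]
    obtain ⟨j, hj⟩ := Nat.exists_eq_succ_of_ne_zero hk0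
    have hψne : φ ^ (p ^ j) ≠ 1 := by
      intro h
      have hmin := Nat.find_min hex (m := j) (by rw [hj]; exact Nat.lt_succ_self j)
      apply hmin
      intro x
      have := congrArg (fun ψ : Q →* ℂˣ => ψ x) h
      simpa [MonoidHom.pow_apply] using this
    obtain ⟨g, hg⟩ := htrans (φ ^ (p ^ j)) φ hψne hφ1
    intro x
    rw [← hg, conjHom_apply, MonoidHom.pow_apply, ← pow_mul, ← pow_succ, ← Nat.succ_eq_add_one,
      ← hj]
    exact hkspec _
  intro x hx
  by_contra hne
  let _ : CommGroup Q := { (inferInstance : Group Q) with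
    mul_comm := fun a b => Subtype.ext (hcomm a a.2 b b.2) }
  have : NeZero ((Monoid.exponent Q : ℕ) : ℂ) :=
    ⟨by exact_mod_cast (Monoid.exponent_ne_zero_of_finite (G := Q))⟩
  have hne' : (⟨x, hx⟩ : Q) ^ p ≠ 1 := by
    intro h
    apply hne
    have := congrArg Subtype.val h
    simpa using this
  obtain ⟨φ, hφ⟩ := CommGroup.exists_apply_ne_one_of_hasEnoughRootsOfUnity Q ℂ hne'
  apply hφ
  rw [map_pow]
  exact hall φ _

end Cfsg.Agent.Lib.Helper97.RU
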