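import Mathlib
import Cfsg.Agent.Lib.Helper58.RU.Defs
import Cfsg.Agent.Lib.Helper54.Coprime

/-!
# Project RU (S4751), module RU-[N] (helper97): orders in the exceptional case

`card_of_two`: `|Q| = 4`, `C_G(Q) = Q × Z(G)`, the nontrivial linear characters of `Q` are permuted
transitively and a Sylow `2`-subgroup has order `8`; then `|G| = 24 |Z(G)|` and `|Z(G)|` is odd.
-/

set_option autoImplicit false
set_option linter.style.haveILetI false

namespace Cfsg.Agent.Lib.Helper97.RU

open Cfsg Cfsg.Agent.Lib.Helper58.RU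

universe u

variable {G : Type u} [Group G]

theorem conjHom_conjHom (Q : Subgroup G) [Q.Normal] (g h : G) (φ : Q →* ℂˣ) :
    conjHom Q g (conjHom Q h φ) = conjHom Q (h * g) φ := by
  ext x
  simp only [conjHom_apply]
  congr 3
  simp [mul_assoc]

theorem conjHom_one_left (Q : Subgroup G) [Q.Normal] (φ : Q →* ℂˣ) :
    conjHom Q 1 φ = φ := by
  ext x
  simp only [conjHom_apply]
  congr 3
  simp

/-- the action of `G` on the dual group of the normal subgroup `Q` -/
@[reducible] def dualAct (Q : Subgroup G) [Q.Normal] : MulAction G (Q →* ℂˣ) where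
  smul g φ := conjHom Q g⁻¹ φ
  one_smul φ := by
    change conjHom Q (1 : G)⁻¹ φ = φ
    rw [inv_one, conjHom_one_left]
  mul_smul g h φ := by
    change conjHom Q (g * h)⁻¹ φ = conjHom Q g⁻¹ (conjHom Q h⁻¹ φ)
    rw [conjHom_conjHom, mul_inv_rev]

/-- MODULE RU-[N] -/
theorem card_of_two [Finite G] (Q : Subgroup G) [Q.Normal] (hQ4 : Nat.card Q = 4)
    (hcomm : ∀ x ∈ Q, ∀ y ∈ Q, x * y = y * x)
    (htrans : ∀ φ ψ : Q →* ℂˣ, φ ≠ 1 → ψ ≠ 1 → ∃ g : G, conjHom Q g φ = ψ)
    (hC : Subgroup.centralizer (Q : Set G) = Q ⊔ Subgroup.center G)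
    (hQZ : Q ⊓ Subgroup.center G = ⊥)
    (h2C : ∀ c ∈ Subgroup.centralizer (Q : Set G), (∃ k : ℕ, orderOf c = 2 ^ k) → c ∈ Q)
    (P : Sylow 2 G) (hP8 : Nat.card (P : Subgroup G) = 8) :
    Nat.card G = 24 * Nat.card (Subgroup.center G) ∧ Odd (Nat.card (Subgroup.center G)) := by
  classical
  haveI : Fact (Nat.Prime 2) := ⟨Nat.prime_two⟩
  set Z := Subgroup.center G with hZ
  set C := Subgroup.centralizer (Q : Set G) with hCdef
  -- `|Z|` is odd
  have hodd : Odd (Nat.card Z) := by
    rw [← Nat.not_even_iff_odd]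
    intro heven
    obtain ⟨z, hz⟩ := exists_prime_orderOf_dvd_card' (G := Z) 2 heven.two_dvd
    have hzG : orderOf (z : G) = 2 := by rw [Subgroup.orderOf_coe]; exact hz
    have hzC : (z : G) ∈ C := Subgroup.center_le_centralizer _ z.2
    have hzQ : (z : G) ∈ Q := h2C _ hzC ⟨1, by rw [hzG, pow_one]⟩
    have hzbot : (z : G) ∈ Q ⊓ Z := ⟨hzQ, z.2⟩
    rw [hQZ, Subgroup.mem_bot] at hzbot
    rw [hzbot, orderOf_one] at hzG
    norm_num at hzG
  refine ⟨?_, hodd⟩
  -- `|C| = |Z| * 4`
  have hCcard : Nat.card C = Nat.card Z * 4 := by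
    rw [hC, sup_comm, ← hQ4]
    apply Cfsg.Agent.Lib.Helper54.card_sup_of_le_normalizer
    · intro x _
      have hn : (Subgroup.center G).Normal := inferInstance
      rw [Subgroup.normalizer_eq_top_iff.mpr hn]
      exact Subgroup.mem_top x
    · rw [inf_comm]; exact hQZ
  -- the dual group
  let _ : CommGroup Q := { (inferInstance : Group Q) with
    mul_comm := fun a b => Subtype.ext (hcomm a a.2 b b.2) }
  haveI : Finite Q := Nat.finite_of_card_ne_zero (by rw [hQ4]; norm_num)
  have : NeZero ((Monoid.exponent Q : ℕ) : ℂ) :=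
    ⟨by exact_mod_cast (Monoid.exponent_ne_zero_of_finite (G := Q))⟩
  have hdual : Nat.card (Q →* ℂˣ) = 4 := by
    rw [CommGroup.card_monoidHom_of_hasEnoughRootsOfUnity Q ℂ, hQ4]
  haveI hfin : Finite (Q →* ℂˣ) := Nat.finite_of_card_ne_zero (by rw [hdual]; norm_num)
  letI act : MulAction G (Q →* ℂˣ) := dualAct Q
  have hsmul : ∀ (g : G) (φ : Q →* ℂˣ), g • φ = conjHom Q g⁻¹ φ := fun _ _ => rfl
  -- the kernel of the action is contained in `C`
  have hker : (MulAction.toPermHom G (Q →* ℂˣ)).ker ≤ C := by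
    intro g hg
    rw [MonoidHom.mem_ker] at hg
    rw [hCdef, Subgroup.mem_centralizer_iff]
    intro x hx
    have hxQ : x ∈ Q := hx
    by_contra hne
    have hmemQ : g⁻¹ * x * g⁻¹⁻¹ ∈ Q := (inferInstance : Q.Normal).conj_mem x hxQ g⁻¹
    have hne' : (⟨g⁻¹ * x * g⁻¹⁻¹, hmemQ⟩ : Q) * (⟨x, hxQ⟩ : Q)⁻¹ ≠ 1 := by
      intro h
      apply hne
      have h1 := congrArg Subtype.val h
      simp only [Subgroup.coe_mul, Subgroup.coe_inv, Subgroup.coe_one, inv_inv] at h1
      have h2 : g⁻¹ * x * g = x := by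
        rw [mul_inv_eq_one] at h1
        exact h1
      calc x * g = g * (g⁻¹ * x * g) := by group
        _ = g * x := by rw [h2]
    obtain ⟨φ, hφ⟩ := CommGroup.exists_apply_ne_one_of_hasEnoughRootsOfUnity Q ℂ hne'
    apply hφ
    have h3 : g • φ = φ := by
      have := congrArg (fun σ : Equiv.Perm (Q →* ℂˣ) => σ φ) hg
      simpa using this
    rw [hsmul] at h3
    have h4 := congrArg (fun ψ : Q →* ℂˣ => ψ ⟨x, hxQ⟩) h3
    simp only [conjHom_apply] at h4
    rw [map_mul, map_inv, h4, mul_inv_cancel]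
  -- `|G : C|` divides `24`
  have hdvd24 : C.index ∣ 24 := by
    have h1 : C.index ∣ (MulAction.toPermHom G (Q →* ℂˣ)).ker.index :=
      Subgroup.index_dvd_of_le hker
    have h2 : (MulAction.toPermHom G (Q →* ℂˣ)).ker.index ∣ 24 := by
      rw [Subgroup.index_ker]
      have h3 := Subgroup.card_subgroup_dvd_card (MulAction.toPermHom G (Q →* ℂˣ)).range
      rw [Nat.card_perm, hdual] at h3
      exact h3
    exact h1.trans h2
  -- `3` divides `|G : C|`
  have hthree : 3 ∣ C.index := by
    -- a nontrivial hom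
    have hex : ∃ φ₀ : Q →* ℂˣ, φ₀ ≠ 1 := by
      by_contra hcon
      push Not at hcon
      have hsub : Subsingleton (Q →* ℂˣ) := ⟨fun a b => by rw [hcon a, hcon b]⟩
      have := Nat.card_unique (α := Q →* ℂˣ)
      omega
    obtain ⟨φ₀, hφ₀⟩ := hex
    have horb : MulAction.orbit G φ₀ = ({1}ᶜ : Set (Q →* ℂˣ)) := by
      ext ψ
      simp only [MulAction.mem_orbit_iff, Set.mem_compl_iff, Set.mem_singleton_iff]
      constructor
      · rintro ⟨g, rfl⟩ h1
        rw [hsmul] at h1
        apply hφ₀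
        have := congrArg (conjHom Q g) h1
        rw [conjHom_conjHom, inv_mul_cancel, conjHom_one_left] at this
        rw [this]
        ext x
        simp
      · intro hψ
        obtain ⟨g, hg⟩ := htrans φ₀ ψ hφ₀ hψ
        refine ⟨g⁻¹, ?_⟩
        rw [hsmul, inv_inv, hg]
    have hidx : (MulAction.stabilizer G φ₀).index = 3 := by
      rw [MulAction.index_stabilizer, horb, Set.ncard_compl, hdual, Set.ncard_singleton]
    have hle : C ≤ MulAction.stabilizer G φ₀ := by
      intro g hg
      rw [MulAction.mem_stabilizer_iff, hsmul]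
      ext x
      simp only [conjHom_apply]
      congr 3
      rw [hCdef, Subgroup.mem_centralizer_iff] at hg
      have := hg x x.2
      simp only [inv_inv]
      calc g⁻¹ * ↑x * g = g⁻¹ * (↑x * g) := by group
        _ = g⁻¹ * (g * ↑x) := by rw [this]
        _ = ↑x := by group
    have := Subgroup.relIndex_mul_index hle
    rw [hidx] at this
    exact Dvd.intro_left _ this
  -- the `2`-part
  have hGcard : C.index * Nat.card C = Nat.card G := Subgroup.index_mul_card C
  have hfac : (Nat.card G).factorization 2 = 3 := by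
    have h1 := P.card_eq_multiplicity
    rw [hP8] at h1
    have h2 : (2 : ℕ) ^ 3 = 2 ^ (Nat.card G).factorization 2 := by rw [← h1]; norm_num
    exact (Nat.pow_right_injective (le_refl 2) h2).symm
  have h8 : 8 ∣ Nat.card G := by
    rw [← hP8]
    exact Subgroup.card_subgroup_dvd_card _
  have h16 : ¬ 16 ∣ Nat.card G := by
    have := Nat.pow_succ_factorization_not_dvd (n := Nat.card G) (p := 2) Nat.card_pos.ne'
      Nat.prime_two
    rw [hfac] at this
    exact this
  rw [hCcard] at hGcard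
  obtain ⟨k, hk⟩ := hodd
  set d := C.index with hd
  have hd2 : 2 ∣ d := by
    rw [← hGcard, hk] at h8
    have h9 : 8 ∣ 4 * (d * (2 * k + 1)) := by
      convert h8 using 1; ring
    have h10 : 2 ∣ d * (2 * k + 1) := by
      have : (4 : ℕ) * 2 ∣ 4 * (d * (2 * k + 1)) := h9
      exact Nat.dvd_of_mul_dvd_mul_left (by norm_num) this
    have hcop : Nat.Coprime 2 (2 * k + 1) := by
      rw [Nat.coprime_two_left]
      exact ⟨k, rfl⟩
    exact hcop.dvd_of_dvd_mul_right h10
  have hd4 : ¬ 4 ∣ d := by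
    intro h4
    apply h16
    rw [← hGcard]
    obtain ⟨m, hm⟩ := h4
    rw [hm]
    exact ⟨m * Nat.card Z, by ring⟩
  have hdle : d ≤ 24 := Nat.le_of_dvd (by norm_num) hdvd24
  have hd6 : d = 6 := by
    interval_cases d <;> omega
  rw [← hGcard, hd6]
  ring

end Cfsg.Agent.Lib.Helper97.RU
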