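import Mathlib
import Cfsg.Prelude.Def_Transfer
import Cfsg.Prelude.Def_CaseTheorems
import Cfsg.Prelude.Def_Perm
import Cfsg.Agent.Lib.Helper2.SafDefs

/-!
# Project SAF (S4025, helper2), module SAF-[AFF1] (helper97)

A normal elementary abelian self-centralizing Hall subgroup `V` of `Q` has a complement `C`, and `Q`
acts faithfully on the set `V` by `v c : y ↦ v (c y c⁻¹)`.
-/

set_option autoImplicit false

namespace Cfsg.Agent.Lib.Helper97.Saf

open Cfsg Cfsg.Agent.Lib.Helper2.Saf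

universe u

/-- MODULE SAF-[AFF1] -/
theorem exists_complement_action {Q : Type u} [Group Q] [Finite Q] {p n : ℕ} [Fact p.Prime]
    (V : Subgroup Q) (h : NormalEA p n V) :
    ∃ (C : Subgroup Q) (π : Q →* Equiv.Perm V),
      (∀ q : Q, ∃ v ∈ V, ∃ c ∈ C, q = v * c) ∧ C ⊓ V = ⊥ ∧ Function.Injective π ∧
      (∀ (v : V) (c : Q), c ∈ C → ∀ y : V, ((π ((v : Q) * c) y : V) : Q) = v * (c * y * c⁻¹)) := by
  classical
  have hp : p.Prime := Fact.out
  haveI : V.Normal := h.normal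
  have hcop : Nat.Coprime (Nat.card V) V.index := by
    rw [h.card]
    exact Nat.Coprime.pow_left n ((Nat.Prime.coprime_iff_not_dvd hp).mpr h.cop)
  obtain ⟨C, hC⟩ := Subgroup.exists_right_complement'_of_coprime hcop
  have hdisj : C ⊓ V = ⊥ := by
    rw [inf_comm]
    exact hC.disjoint.eq_bot
  have hfact : ∀ q : Q, ∃ v ∈ V, ∃ c ∈ C, q = v * c := by
    intro q
    obtain ⟨⟨v, c⟩, hvc⟩ := hC.2 q
    exact ⟨v, v.2, c, c.2, hvc.symm⟩
  -- the bijection `V ≃ Q ⧸ C`
  have hβinj : Function.Injective (fun v : V => ((v : Q) : Q ⧸ C)) := by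
    intro v v' hvv'
    have h1 : (v : Q)⁻¹ * (v' : Q) ∈ C := QuotientGroup.eq.mp hvv'
    have h2 : (v : Q)⁻¹ * (v' : Q) ∈ V := V.mul_mem (V.inv_mem v.2) v'.2
    have h3 : (v : Q)⁻¹ * (v' : Q) ∈ C ⊓ V := ⟨h1, h2⟩
    rw [hdisj, Subgroup.mem_bot] at h3
    apply Subtype.ext
    exact (inv_mul_eq_one.mp h3)
  have hβsurj : Function.Surjective (fun v : V => ((v : Q) : Q ⧸ C)) := by
    intro x
    induction x using QuotientGroup.induction_on with
    | H q =>
      obtain ⟨v, hv, c, hc, rfl⟩ := hfact q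
      refine ⟨⟨v, hv⟩, ?_⟩
      apply QuotientGroup.eq.mpr
      simpa using hc
  let β : V ≃ Q ⧸ C := Equiv.ofBijective _ ⟨hβinj, hβsurj⟩
  have hβ : ∀ v : V, β v = ((v : Q) : Q ⧸ C) := fun v => rfl
  let π : Q →* Equiv.Perm V :=
    (β.symm.permCongrHom).toMonoidHom.comp (MulAction.toPermHom Q (Q ⧸ C))
  have hπ : ∀ (q : Q) (y : V), β (π q y) = (((q * (y : Q) : Q)) : Q ⧸ C) := by
    intro q y
    have : π q y = β.symm (q • β y) := rfl
    rw [this, Equiv.apply_symm_apply, hβ]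
    rfl
  have hform : ∀ (v : V) (c : Q), c ∈ C → ∀ y : V,
      ((π ((v : Q) * c) y : V) : Q) = v * (c * y * c⁻¹) := by
    intro v c hc y
    have hz : (v : Q) * (c * y * c⁻¹) ∈ V := V.mul_mem v.2 (h.normal.conj_mem _ y.2 c)
    have : π ((v : Q) * c) y = ⟨(v : Q) * (c * y * c⁻¹), hz⟩ := by
      apply β.injective
      rw [hπ, hβ]
      apply QuotientGroup.eq.mpr
      have : ((v : Q) * c * (y : Q))⁻¹ * ((v : Q) * (c * (y : Q) * c⁻¹)) = c⁻¹ := by group
      rw [this]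
      exact C.inv_mem hc
    rw [this]
  refine ⟨C, π, hfact, hdisj, ?_, hform⟩
  rw [injective_iff_map_eq_one]
  intro q hq
  obtain ⟨v, hv, c, hc, rfl⟩ := hfact q
  have h1 := hform ⟨v, hv⟩ c hc 1
  rw [hq] at h1
  have hv1 : v = 1 := by simpa using h1.symm
  subst hv1
  have hcent : c ∈ Subgroup.centralizer (V : Set Q) := by
    rw [Subgroup.mem_centralizer_iff]
    intro y hy
    have h2 := hform 1 c hc ⟨y, hy⟩
    simp only [Subgroup.coe_one] at h2
    rw [hq] at h2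
    simp only [Equiv.Perm.coe_one, id_eq, one_mul] at h2
    -- h2 : y = c * y * c⁻¹
    calc y * c = c * y * c⁻¹ * c := by rw [← h2]
      _ = c * y := by group
  have hcV : c ∈ V := h.cent hcent
  have : c ∈ C ⊓ V := ⟨hc, hcV⟩
  rw [hdisj, Subgroup.mem_bot] at this
  rw [this, mul_one]

end Cfsg.Agent.Lib.Helper97.Saf
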