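import Mathlib

/-!
# Project SAF (S4025, helper2), module SAF-[ARITH] (helper97)
-/

set_option autoImplicit false

namespace Cfsg.Agent.Lib.Helper97.Saf

theorem six_le_two_pow (m : ℕ) : m + 6 ≤ 2 ^ (m + 3) := by
  induction m with
  | zero => norm_num
  | succ k ih =>
    have : 2 ^ (k + 1 + 3) = 2 * 2 ^ (k + 3) := by ring
    omega

/-- MODULE SAF-[ARITH] -/
theorem arith {p n : ℕ} (hp : p.Prime) (hn : 3 ≤ n)
    (h : (p ^ n - 1) * (p ^ (n - 1) - 1) ∣ n * (p ^ n - 1) * (p ^ 2 - 1)) :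
    n = 3 ∨ (n = 5 ∧ p = 2) := by
  have hp2 : 2 ≤ p := hp.two_le
  have hpn : 0 < p ^ n - 1 := by
    have : 2 ^ n ≤ p ^ n := Nat.pow_le_pow_left hp2 n
    have : 2 ≤ 2 ^ n := by
      calc 2 = 2 ^ 1 := by norm_num
        _ ≤ 2 ^ n := Nat.pow_le_pow_right (by norm_num) (by omega)
    omega
  have key : p ^ (n - 1) - 1 ∣ n * (p ^ 2 - 1) := by
    have h' : (p ^ n - 1) * (p ^ (n - 1) - 1) ∣ (p ^ n - 1) * (n * (p ^ 2 - 1)) := by
      have : n * (p ^ n - 1) * (p ^ 2 - 1) = (p ^ n - 1) * (n * (p ^ 2 - 1)) := by ring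
      rwa [this] at h
    exact Nat.dvd_of_mul_dvd_mul_left hpn h'
  have hp2sq : 4 ≤ p ^ 2 := by nlinarith
  have hpos : 0 < n * (p ^ 2 - 1) := by
    apply Nat.mul_pos (by omega)
    omega
  have hle := Nat.le_of_dvd hpos key
  by_cases h6 : 6 ≤ n
  · exfalso
    obtain ⟨m, rfl⟩ : ∃ m, n = m + 6 := ⟨n - 6, by omega⟩
    have e1 : m + 6 - 1 = (m + 3) + 2 := by omega
    rw [e1, pow_add] at hle
    have h1 : m + 6 ≤ p ^ (m + 3) :=
      (six_le_two_pow m).trans (Nat.pow_le_pow_left hp2 _)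
    have h2 : (m + 6) * p ^ 2 ≤ p ^ (m + 3) * p ^ 2 := Nat.mul_le_mul_right _ h1
    have h3 : (m + 6) * (p ^ 2 - 1) + (m + 6) = (m + 6) * p ^ 2 := by
      have : p ^ 2 - 1 + 1 = p ^ 2 := by omega
      calc (m + 6) * (p ^ 2 - 1) + (m + 6) = (m + 6) * (p ^ 2 - 1 + 1) := by ring
        _ = (m + 6) * p ^ 2 := by rw [this]
    omega
  · have hn' : n = 3 ∨ n = 4 ∨ n = 5 := by omega
    rcases hn' with rfl | rfl | rfl
    · left; rfl
    · exfalso
      norm_num at key hle
      have hp3 : p ≤ 3 := by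
        by_contra hcon
        push Not at hcon
        have h4 : 4 * p ^ 2 ≤ p ^ 3 := by
          have : p ^ 3 = p * p ^ 2 := by ring
          rw [this]
          exact Nat.mul_le_mul_right _ hcon
        have : 4 * (p ^ 2 - 1) + 4 = 4 * p ^ 2 := by omega
        omega
      interval_cases p
      · norm_num at key
      · norm_num at key
    · right
      refine ⟨rfl, ?_⟩
      norm_num at key
      have hfac : p ^ 4 - 1 = (p ^ 2 - 1) * (p ^ 2 + 1) := by
        have h1 : p ^ 4 = p ^ 2 * p ^ 2 := by ring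
        have h2 : 1 ≤ p ^ 2 := by omega
        zify [h2, show 1 ≤ p ^ 4 from by rw [h1]; nlinarith]
        ring
      rw [hfac, mul_comm 5] at key
      have hpos2 : 0 < p ^ 2 - 1 := by omega
      have h5 : p ^ 2 + 1 ∣ 5 := Nat.dvd_of_mul_dvd_mul_left hpos2 key
      have hle5 := Nat.le_of_dvd (by norm_num) h5
      have : p ≤ 2 := by
        by_contra hcon
        push Not at hcon
        have : 9 ≤ p ^ 2 := by nlinarith
        omega
      omega

end Cfsg.Agent.Lib.Helper97.Saf
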