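import Mathlib
import Cfsg.Prelude.Def_Transfer
import Cfsg.Prelude.Def_CaseTheorems
import Cfsg.Prelude.Def_Perm
import Cfsg.Agent.Lib.Helper2.SafDefs

/-!
# Project SAF (S4025, helper2), module SAF-[COUNT1] (helper97)

NOTE: the sheet statement is false for `W = 0` (`0 ∣ Nat.card H` fails); `card_vectors_dvd` below has the extra
instance hypothesis `[Nontrivial W]`, and `card_vectors_dvd_of_card` takes `Nat.card W = p ^ n`, `n ≠ 0` instead.
-/

set_option autoImplicit false

namespace Cfsg.Agent.Lib.Helper97.Saf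

open Cfsg Cfsg.Agent.Lib.Helper2.Saf

universe u

variable {p : ℕ} [Fact p.Prime] {W : Type u} [AddCommGroup W] [Module (ZMod p) W] [Finite W]

/-- MODULE SAF-[COUNT1] (with `[Nontrivial W]`) -/
theorem card_vectors_dvd [Nontrivial W] (H : Subgroup (W ≃ₗ[ZMod p] W)) [Finite H]
    (htr1 : ∀ v w : W, v ≠ 0 → w ≠ 0 → ∃ h ∈ H, h v = w) :
    Nat.card W - 1 ∣ Nat.card H := by
  classical
  obtain ⟨v₀, hv₀⟩ := exists_ne (0 : W)
  have horb : MulAction.orbit H v₀ = ({0}ᶜ : Set W) := by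
    ext w
    simp only [MulAction.mem_orbit_iff, Set.mem_compl_iff, Set.mem_singleton_iff]
    constructor
    · rintro ⟨h, rfl⟩ h0
      apply hv₀
      have : (h : W ≃ₗ[ZMod p] W) v₀ = 0 := h0
      exact (LinearEquiv.map_eq_zero_iff _).mp this
    · intro hw
      obtain ⟨h, hh, hhv⟩ := htr1 v₀ w hv₀ hw
      exact ⟨⟨h, hh⟩, hhv⟩
  have hidx : (MulAction.stabilizer H v₀).index = Nat.card W - 1 := by
    rw [MulAction.index_stabilizer, horb, Set.ncard_compl, Set.ncard_singleton]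
  rw [← hidx]
  exact Subgroup.index_dvd_card _

/-- variant with the cardinality of `W` as a hypothesis -/
theorem card_vectors_dvd_of_card (H : Subgroup (W ≃ₗ[ZMod p] W)) [Finite H]
    (n : ℕ) (hn : n ≠ 0) (hW : Nat.card W = p ^ n)
    (htr1 : ∀ v w : W, v ≠ 0 → w ≠ 0 → ∃ h ∈ H, h v = w) :
    Nat.card W - 1 ∣ Nat.card H := by
  have hp : p.Prime := Fact.out
  have h1 : 1 < Nat.card W := by
    rw [hW]
    exact Nat.one_lt_pow hn hp.one_lt
  haveI : Nontrivial W := Finite.one_lt_card_iff_nontrivial.mp h1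
  exact card_vectors_dvd H htr1

end Cfsg.Agent.Lib.Helper97.Saf
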