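import Mathlib
import Cfsg.Agent.Lib.Helper85.SqfDefs

/-!
# Project SQF (S4130, helper85), module SQF-[IDX-C] (helper97)
-/

set_option autoImplicit false

namespace Cfsg.Agent.Lib.Helper97.Sqf

open Cfsg Cfsg.Agent.Lib.Helper85.Sqf

section
variable {G : Type*} [Group G]

/-- [IDX-C] -/
theorem centralizes_of_inner_coprime [Finite G] {p : ℕ} [Fact p.Prime] (P M : Subgroup G)
    (hP : IsPGroup p P) (hMP : M ≤ P) (hMn : ∀ c ∈ P, ∀ m ∈ M, c * m * c⁻¹ ∈ M)
    (y c : G) (hc : c ∈ P) (hy : ∀ m ∈ M, y * m * y⁻¹ = c * m * c⁻¹)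
    (n : ℕ) (hn : n.Coprime p) (hyn : ∀ m ∈ M, y ^ n * m = m * y ^ n) :
    ∀ m ∈ M, y * m = m * y := by
  have hpow : ∀ j : ℕ, ∀ m ∈ M, y ^ j * m * (y ^ j)⁻¹ = c ^ j * m * (c ^ j)⁻¹ := by
    intro j
    induction j with
    | zero => intro m _; simp
    | succ j ih =>
      intro m hm
      have hmem : c ^ j * m * (c ^ j)⁻¹ ∈ M := hMn _ (P.pow_mem hc j) m hm
      calc y ^ (j + 1) * m * (y ^ (j + 1))⁻¹
          = y * (y ^ j * m * (y ^ j)⁻¹) * y⁻¹ := by rw [pow_succ']; group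
        _ = y * (c ^ j * m * (c ^ j)⁻¹) * y⁻¹ := by rw [ih m hm]
        _ = c * (c ^ j * m * (c ^ j)⁻¹) * c⁻¹ := hy _ hmem
        _ = c ^ (j + 1) * m * (c ^ (j + 1))⁻¹ := by rw [pow_succ']; group
  -- `c ^ n` centralises `M`
  have hcn : ∀ m ∈ M, c ^ n * m = m * c ^ n := by
    intro m hm
    have h1 := hpow n m hm
    have h2 : y ^ n * m * (y ^ n)⁻¹ = m := by rw [hyn m hm]; group
    rw [h2] at h1
    calc c ^ n * m = c ^ n * m * (c ^ n)⁻¹ * c ^ n := by group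
      _ = m * c ^ n := by rw [← h1]
  -- `c` is a power of `c ^ n`
  obtain ⟨k, hk⟩ := hP ⟨c, hc⟩
  have hk' : c ^ p ^ k = 1 := by
    have := congrArg Subtype.val hk
    simpa using this
  have hord : orderOf c ∣ p ^ k := orderOf_dvd_of_pow_eq_one hk'
  have hcop : Nat.Coprime n (orderOf c) :=
    Nat.Coprime.coprime_dvd_right hord (Nat.Coprime.pow_right k hn)
  obtain ⟨a, ha⟩ := exists_pow_eq_self_of_coprime hcop
  have hcc : ∀ m ∈ M, c * m = m * c := by
    intro m hm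
    have h1 : Commute (c ^ n) m := hcn m hm
    have h2 : Commute ((c ^ n) ^ a) m := h1.pow_left a
    rw [ha] at h2
    exact h2
  intro m hm
  have h1 := hy m hm
  have h2 : c * m * c⁻¹ = m := by rw [hcc m hm]; group
  rw [h2] at h1
  calc y * m = y * m * y⁻¹ * y := by group
    _ = m * y := by rw [h1]

end

end Cfsg.Agent.Lib.Helper97.Sqf
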