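import Mathlib
import Cfsg.Agent.Lib.Helper85.SqfDefs

/-!
# Project SQF (S4130, helper85), module SQF-[PIDX] (helper97)
-/

set_option autoImplicit false

namespace Cfsg.Agent.Lib.Helper97.Sqf

open Cfsg Cfsg.Agent.Lib.Helper85.Sqf

section
variable {G : Type*} [Group G]

theorem card_mul_relIndex_aux {A B : Subgroup G} (hAB : A ≤ B) :
    Nat.card A * A.relIndex B = Nat.card B := by
  rw [← Subgroup.relIndex_bot_left, ← Subgroup.relIndex_bot_left]
  exact Subgroup.relIndex_mul_relIndex ⊥ A B bot_le hAB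

/-- own copy of [REL] for finite groups -/
theorem relIndex_dvd_index_aux [Finite G] (H N : Subgroup G) [N.Normal] :
    H.relIndex N ∣ H.index := by
  have e1 := card_mul_relIndex_aux (le_sup_right : N ≤ H ⊔ N)
  have e2 := card_mul_relIndex_aux (le_sup_left : H ≤ H ⊔ N)
  have e3 := card_mul_relIndex_aux (inf_le_left : H ⊓ N ≤ H)
  have e4 := card_mul_relIndex_aux (inf_le_right : H ⊓ N ≤ N)
  rw [Subgroup.inf_relIndex_left] at e3
  rw [Subgroup.inf_relIndex_right] at e4
  rw [Subgroup.relIndex_sup_right] at e1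
  have hpos : 0 < Nat.card ↥(H ⊓ N) * N.relIndex H := by
    rw [e3]; exact Nat.card_pos
  have heq : H.relIndex N = H.relIndex (H ⊔ N) := by
    apply Nat.eq_of_mul_eq_mul_left hpos
    calc Nat.card ↥(H ⊓ N) * N.relIndex H * H.relIndex N
        = (Nat.card ↥(H ⊓ N) * H.relIndex N) * N.relIndex H := by ring
      _ = Nat.card ↥(H ⊔ N) := by rw [e4, e1]
      _ = Nat.card ↥(H ⊓ N) * N.relIndex H * H.relIndex (H ⊔ N) := by rw [e3, e2]
  rw [heq]
  exact Dvd.intro _ (Subgroup.relIndex_mul_index (le_sup_left : H ≤ H ⊔ N))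

/-- [PIDX] -/
theorem card_dvd_mul_card_inf [Finite G] (h : SqF G) {p : ℕ} [Fact p.Prime] (N : Subgroup G)
    [N.Normal] (hN : IsPGroup p N) (x : G) :
    Nat.card N ∣ p * Nat.card ↥(N ⊓ Subgroup.centralizer ({x} : Set G)) := by
  have hp : p.Prime := Fact.out
  set C := Subgroup.centralizer ({x} : Set G) with hC
  have e4 := card_mul_relIndex_aux (inf_le_left : N ⊓ C ≤ N)
  rw [Subgroup.inf_relIndex_left] at e4
  have hdvd : C.relIndex N ∣ C.index := relIndex_dvd_index_aux C N
  have hsq : Squarefree (C.relIndex N) := (h x).squarefree_of_dvd hdvd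
  obtain ⟨k, hk⟩ := (IsPGroup.iff_card).mp hN
  have hdN : C.relIndex N ∣ p ^ k := by
    rw [← hk]; exact Subgroup.relIndex_dvd_card C N
  obtain ⟨j, _, hj⟩ := (Nat.dvd_prime_pow hp).mp hdN
  have hj1 : C.relIndex N ∣ p := by
    rw [hj] at hsq ⊢
    rcases Nat.lt_or_ge j 2 with hlt | hge
    · interval_cases j
      · simp
      · simp
    · exfalso
      have h2 : p * p ∣ p ^ j := by
        rw [← sq]; exact pow_dvd_pow p hge
      exact hp.not_isUnit (hsq p h2)
  rw [← e4, mul_comm p]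
  exact Nat.mul_dvd_mul_left _ hj1

end

end Cfsg.Agent.Lib.Helper97.Sqf
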