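import Mathlib
import Cfsg.Agent.Lib.Helper85.SqfDefs
import Cfsg.Agent.Lib.Helper97.SqfPIdx
import Cfsg.Agent.Lib.Helper97.SqfIdxC

/-!
# Project SQF (S4130, helper85), module SQF-[IDX-H] (helper97): Lemma H
-/

set_option autoImplicit false

namespace Cfsg.Agent.Lib.Helper97.Sqf

open Cfsg Cfsg.Agent.Lib.Helper85.Sqf

section
variable {G : Type*} [Group G]

theorem mem_inf_centralizer_singleton {P : Subgroup G} {g v : G} :
    v ∈ P ⊓ Subgroup.centralizer ({g} : Set G) ↔ v ∈ P ∧ g * v = v * g := by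
  rw [Subgroup.mem_inf, Subgroup.mem_centralizer_iff]
  simp

/-- a non-centralising element has `|P : C_P(g)| = p` -/
theorem card_eq_mul_card_inf [Finite G] (h : SqF G) {p : ℕ} [Fact p.Prime] (P : Subgroup G)
    [P.Normal] (hP : IsPGroup p P) (g : G) (hg : ¬ ∀ v ∈ P, g * v = v * g) :
    Nat.card P = p * Nat.card ↥(P ⊓ Subgroup.centralizer ({g} : Set G)) := by
  have hp : p.Prime := Fact.out
  set K := P ⊓ Subgroup.centralizer ({g} : Set G) with hK
  have hKP : K ≤ P := inf_le_left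
  have h1 : Nat.card P ∣ p * Nat.card K := card_dvd_mul_card_inf h P hP g
  obtain ⟨d, hd⟩ := Subgroup.card_dvd_of_le hKP
  have hKpos : 0 < Nat.card K := Nat.card_pos
  have hdp : d ∣ p := by
    rw [hd, mul_comm p] at h1
    exact (Nat.mul_dvd_mul_iff_left hKpos).mp h1
  rcases (Nat.dvd_prime hp).mp hdp with rfl | rfl
  · exfalso
    apply hg
    intro v hv
    have hKeq : K = P := Subgroup.eq_of_le_of_card_ge hKP (by rw [hd, mul_one])
    have hv' : v ∈ K := by rw [hKeq]; exact hv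
    exact (mem_inf_centralizer_singleton.mp hv').2
  · rw [hd, mul_comm]

/-- a subgroup of index `p` of a `p`-group is normal -/
theorem conj_mem_of_card_eq_mul [Finite G] {p : ℕ} [Fact p.Prime] (P M : Subgroup G)
    (hP : IsPGroup p P) (hMP : M ≤ P) (hcard : Nat.card P = p * Nat.card M) :
    ∀ c ∈ P, ∀ m ∈ M, c * m * c⁻¹ ∈ M := by
  have hp : p.Prime := Fact.out
  have hMpos : 0 < Nat.card M := Nat.card_pos
  have hrel : M.relIndex P = p := by
    have e := card_mul_relIndex_aux hMP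
    rw [hcard, mul_comm p] at e
    exact Nat.eq_of_mul_eq_mul_left hMpos e
  obtain ⟨k, hk⟩ := (IsPGroup.iff_card).mp hP
  have hk0 : k ≠ 0 := by
    rintro rfl
    rw [pow_zero, hcard] at hk
    have : p ∣ 1 := Dvd.intro _ hk
    exact hp.one_lt.ne' (Nat.dvd_one.mp this)
  have hnorm : (M.subgroupOf P).Normal := by
    apply Subgroup.normal_of_index_eq_minFac_card
    show M.relIndex P = (Nat.card ↥P).minFac
    rw [hrel, hk, Nat.Prime.pow_minFac hp hk0]
  intro c hc m hm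
  have h1 : (⟨m, hMP hm⟩ : ↥P) ∈ M.subgroupOf P := by
    rw [Subgroup.mem_subgroupOf]; exact hm
  have h2 := hnorm.conj_mem _ h1 ⟨c, hc⟩
  rw [Subgroup.mem_subgroupOf] at h2
  exact h2

/-- a subgroup strictly between `M` and `P` with `|P : M| = p` does not exist -/
theorem eq_of_card_eq_mul [Finite G] {p : ℕ} [Fact p.Prime] (P M T : Subgroup G)
    (hMT : M ≤ T) (hTP : T ≤ P) (hcard : Nat.card P = p * Nat.card M)
    (hne : ∃ t ∈ T, t ∉ M) : T = P := by
  have hp : p.Prime := Fact.out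
  have hMpos : 0 < Nat.card M := Nat.card_pos
  obtain ⟨d, hd⟩ := Subgroup.card_dvd_of_le hMT
  obtain ⟨e, he⟩ := Subgroup.card_dvd_of_le hTP
  have hde : d * e = p := by
    apply Nat.eq_of_mul_eq_mul_left hMpos
    rw [← mul_assoc, ← hd, ← he, hcard, mul_comm]
  have hdp : d ∣ p := Dvd.intro _ hde
  rcases (Nat.dvd_prime hp).mp hdp with rfl | rfl
  · exfalso
    obtain ⟨t, htT, htM⟩ := hne
    have hMeq : M = T := Subgroup.eq_of_le_of_card_ge hMT (by rw [hd, mul_one])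
    exact htM (hMeq ▸ htT)
  · apply Subgroup.eq_of_le_of_card_ge hTP
    rw [hcard, hd, mul_comm]

/-- a `p`-element killed by a number prime to `p` is trivial -/
theorem eq_one_of_pow_coprime [Finite G] {p : ℕ} [Fact p.Prime] (P : Subgroup G)
    (hP : IsPGroup p P) (a : G) (ha : a ∈ P) (n : ℕ) (hn : n.Coprime p) (han : a ^ n = 1) :
    a = 1 := by
  obtain ⟨k, hk⟩ := hP ⟨a, ha⟩
  have hk' : a ^ p ^ k = 1 := by
    have := congrArg Subtype.val hk
    simpa using this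
  have h1 : orderOf a ∣ p ^ k := orderOf_dvd_of_pow_eq_one hk'
  have h2 : orderOf a ∣ n := orderOf_dvd_of_pow_eq_one han
  have h3 : orderOf a ∣ Nat.gcd n (p ^ k) := Nat.dvd_gcd h2 h1
  have h4 : Nat.gcd n (p ^ k) = 1 := Nat.Coprime.pow_right k hn
  rw [h4, Nat.dvd_one] at h3
  exact orderOf_eq_one_iff.mp h3

/-- [IDX-H] -/
theorem inf_centralizer_eq_of_inner_comm [Finite G] (h : SqF G) {p : ℕ} [Fact p.Prime]
    (P : Subgroup G) [P.Normal] (hP : IsPGroup p P) (x x' : G)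
    (hx : ¬ ∀ v ∈ P, x * v = v * x) (hx' : ¬ ∀ v ∈ P, x' * v = v * x')
    (n n' : ℕ) (hn : n.Coprime p) (hn' : n'.Coprime p)
    (hxn : ∀ v ∈ P, x ^ n * v = v * x ^ n) (hxn' : ∀ v ∈ P, x' ^ n' * v = v * x' ^ n')
    (c : G) (hc : c ∈ P)
    (hcomm : ∀ v ∈ P, (x' * x * x'⁻¹ * x⁻¹) * v * (x' * x * x'⁻¹ * x⁻¹)⁻¹ = c * v * c⁻¹) :
    P ⊓ Subgroup.centralizer ({x} : Set G) = P ⊓ Subgroup.centralizer ({x'} : Set G) := by
  classical
  have hp : p.Prime := Fact.out
  set M := P ⊓ Subgroup.centralizer ({x} : Set G) with hM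
  set M' := P ⊓ Subgroup.centralizer ({x'} : Set G) with hM'
  have hMP : M ≤ P := inf_le_left
  have hM'P : M' ≤ P := inf_le_left
  have hcardM : Nat.card P = p * Nat.card M := card_eq_mul_card_inf h P hP x hx
  have hcardM' : Nat.card P = p * Nat.card M' := card_eq_mul_card_inf h P hP x' hx'
  have hMM' : Nat.card M = Nat.card M' :=
    Nat.eq_of_mul_eq_mul_left hp.pos (hcardM.symm.trans hcardM')
  have hMn : ∀ c ∈ P, ∀ m ∈ M, c * m * c⁻¹ ∈ M := conj_mem_of_card_eq_mul P M hP hMP hcardM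
  have memM : ∀ v, v ∈ M ↔ v ∈ P ∧ x * v = v * x := fun v => mem_inf_centralizer_singleton
  have memM' : ∀ v, v ∈ M' ↔ v ∈ P ∧ x' * v = v * x' := fun v => mem_inf_centralizer_singleton
  -- (a') `x'⁻¹ M x' ≤ M`
  have ha' : ∀ m ∈ M, x'⁻¹ * m * x' ∈ M := by
    intro m hm
    have hmP : m ∈ P := hMP hm
    have hconjP : x'⁻¹ * m * x' ∈ P := by
      have := ‹P.Normal›.conj_mem m hmP x'⁻¹
      simpa using this
    have hy : ∀ m ∈ M, (x' * x * x'⁻¹) * m * (x' * x * x'⁻¹)⁻¹ = c * m * c⁻¹ := by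
      intro m hm
      have hxm : x * m = m * x := ((memM m).mp hm).2
      have h1 : (x' * x * x'⁻¹) * m * (x' * x * x'⁻¹)⁻¹
          = (x' * x * x'⁻¹ * x⁻¹) * (x * m * x⁻¹) * (x' * x * x'⁻¹ * x⁻¹)⁻¹ := by group
      have h2 : x * m * x⁻¹ = m := by rw [hxm]; group
      rw [h1, h2]
      exact hcomm m (hMP hm)
    have hyn : ∀ m ∈ M, (x' * x * x'⁻¹) ^ n * m = m * (x' * x * x'⁻¹) ^ n := by
      intro m hm
      have hcP : x'⁻¹ * m * x' ∈ P := by
        have := ‹P.Normal›.conj_mem m (hMP hm) x'⁻¹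
        simpa using this
      have h1 := hxn _ hcP
      rw [conj_pow]
      calc x' * x ^ n * x'⁻¹ * m = x' * (x ^ n * (x'⁻¹ * m * x')) * x'⁻¹ := by group
        _ = x' * ((x'⁻¹ * m * x') * x ^ n) * x'⁻¹ := by rw [h1]
        _ = m * (x' * x ^ n * x'⁻¹) := by group
    have hcen := centralizes_of_inner_coprime P M hP hMP hMn (x' * x * x'⁻¹) c hc hy n hn hyn m hm
    rw [memM]
    refine ⟨hconjP, ?_⟩
    calc x * (x'⁻¹ * m * x') = x'⁻¹ * ((x' * x * x'⁻¹) * m) * x' := by group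
      _ = x'⁻¹ * (m * (x' * x * x'⁻¹)) * x' := by rw [hcen]
      _ = (x'⁻¹ * m * x') * x := by group
  -- (a'') `x' M x'⁻¹ ≤ M`
  have ha'' : ∀ m ∈ M, x' * m * x'⁻¹ ∈ M := by
    let f : ↥M → ↥M := fun m => ⟨x'⁻¹ * m * x', ha' m m.2⟩
    have hfinj : Function.Injective f := by
      intro a b hab
      have h1 : x'⁻¹ * (a : G) * x' = x'⁻¹ * (b : G) * x' := congrArg Subtype.val hab
      apply Subtype.ext
      have h2 : (a : G) = x' * (x'⁻¹ * (a : G) * x') * x'⁻¹ := by group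
      rw [h2, h1]
      group
    have hfsurj : Function.Surjective f := Finite.injective_iff_surjective.mp hfinj
    intro m hm
    obtain ⟨m₀, hm₀⟩ := hfsurj ⟨m, hm⟩
    have h1 : x'⁻¹ * (m₀ : G) * x' = m := congrArg Subtype.val hm₀
    have h2 : x' * m * x'⁻¹ = (m₀ : G) := by rw [← h1]; group
    rw [h2]
    exact m₀.2
  -- main case distinction
  by_cases hM'M : M' ≤ M
  · exact (Subgroup.eq_of_le_of_card_ge hM'M (le_of_eq hMM')).symm
  -- `u ∈ M' ∖ M`
  obtain ⟨u, huM', huM⟩ := SetLike.not_le_iff_exists.mp hM'M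
  -- the subgroup `T`
  let T : Subgroup G :=
    { carrier := {v | v ∈ P ∧ x' * v * x'⁻¹ * v⁻¹ ∈ M}
      one_mem' := by
        refine ⟨P.one_mem, ?_⟩
        have : x' * 1 * x'⁻¹ * (1 : G)⁻¹ = 1 := by group
        rw [this]
        exact M.one_mem
      mul_mem' := by
        rintro v w ⟨hvP, hv⟩ ⟨hwP, hw⟩
        refine ⟨P.mul_mem hvP hwP, ?_⟩
        have h1 : x' * (v * w) * x'⁻¹ * (v * w)⁻¹
            = (x' * v * x'⁻¹ * v⁻¹) * (v * (x' * w * x'⁻¹ * w⁻¹) * v⁻¹) := by group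
        rw [h1]
        exact M.mul_mem hv (hMn v hvP _ hw)
      inv_mem' := by
        rintro v ⟨hvP, hv⟩
        refine ⟨P.inv_mem hvP, ?_⟩
        have h1 : x' * v⁻¹ * x'⁻¹ * v⁻¹⁻¹ = v⁻¹ * (x' * v * x'⁻¹ * v⁻¹)⁻¹ * v⁻¹⁻¹ := by group
        rw [h1]
        exact hMn v⁻¹ (P.inv_mem hvP) _ (M.inv_mem hv) }
  have memT : ∀ v, v ∈ T ↔ v ∈ P ∧ x' * v * x'⁻¹ * v⁻¹ ∈ M := fun v => Iff.rfl
  have hMT : M ≤ T := by
    intro m hm
    rw [memT]
    exact ⟨hMP hm, M.mul_mem (ha'' m hm) (M.inv_mem hm)⟩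
  have hTP : T ≤ P := fun v hv => ((memT v).mp hv).1
  have huT : u ∈ T := by
    rw [memT]
    refine ⟨hM'P huM', ?_⟩
    have hxu : x' * u = u * x' := ((memM' u).mp huM').2
    have : x' * u * x'⁻¹ * u⁻¹ = 1 := by rw [hxu]; group
    rw [this]
    exact M.one_mem
  have hTeq : T = P := eq_of_card_eq_mul P M T hMT hTP hcardM ⟨u, huT, huM⟩
  -- the centraliser of `x x'`
  set K := P ⊓ Subgroup.centralizer ({x * x'} : Set G) with hK
  have memK : ∀ v, v ∈ K ↔ v ∈ P ∧ (x * x') * v = v * (x * x') :=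
    fun v => mem_inf_centralizer_singleton
  have hKcard : Nat.card M ≤ Nat.card K := by
    have h1 : Nat.card P ∣ p * Nat.card K := card_dvd_mul_card_inf h P hP (x * x')
    rw [hcardM] at h1
    have h2 : Nat.card M ∣ Nat.card K := (Nat.mul_dvd_mul_iff_left hp.pos).mp h1
    exact Nat.le_of_dvd Nat.card_pos h2
  by_cases hKM : K ≤ M
  · -- then `K = M` and `M ≤ M'`
    have hKeq : K = M := Subgroup.eq_of_le_of_card_ge hKM hKcard
    have hle : M ≤ M' := by
      intro m hm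
      have hmK : m ∈ K := by rw [hKeq]; exact hm
      have h1 : (x * x') * m = m * (x * x') := ((memK m).mp hmK).2
      have h2 : x * m = m * x := ((memM m).mp hm).2
      rw [memM']
      refine ⟨hMP hm, ?_⟩
      calc x' * m = x⁻¹ * ((x * x') * m) := by group
        _ = x⁻¹ * (m * (x * x')) := by rw [h1]
        _ = x⁻¹ * (m * x) * x' := by group
        _ = x⁻¹ * (x * m) * x' := by rw [h2]
        _ = m * x' := by group
    exact Subgroup.eq_of_le_of_card_ge hle (le_of_eq hMM'.symm)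
  · exfalso
    obtain ⟨v, hvK, hvM⟩ := SetLike.not_le_iff_exists.mp hKM
    have hvP : v ∈ P := ((memK v).mp hvK).1
    have hvc : (x * x') * v = v * (x * x') := ((memK v).mp hvK).2
    have hvT : v ∈ T := by rw [hTeq]; exact hvP
    set a := x' * v * x'⁻¹ * v⁻¹ with ha
    have haM : a ∈ M := ((memT v).mp hvT).2
    have haP : a ∈ P := hMP haM
    have hxa : x * a = a * x := ((memM a).mp haM).2
    -- `x⁻¹ v x = a v`
    have h1 : x⁻¹ * v * x = a * v := by
      have e1 : x' * v * x'⁻¹ = x⁻¹ * ((x * x') * v) * x'⁻¹ := by group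
      rw [ha]
      calc x⁻¹ * v * x = x⁻¹ * (v * (x * x')) * x'⁻¹ := by group
        _ = x⁻¹ * ((x * x') * v) * x'⁻¹ := by rw [hvc]
        _ = x' * v * x'⁻¹ * v⁻¹ * v := by group
    have hxa' : x⁻¹ * a = a * x⁻¹ := by
      calc x⁻¹ * a = x⁻¹ * (a * x) * x⁻¹ := by group
        _ = x⁻¹ * (x * a) * x⁻¹ := by rw [hxa]
        _ = a * x⁻¹ := by group
    have hpow : ∀ j : ℕ, (x⁻¹) ^ j * v * x ^ j = a ^ j * v := by
      intro j
      induction j with
      | zero => simp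
      | succ j ih =>
        have hc1 : Commute x⁻¹ (a ^ j) := (show Commute x⁻¹ a from hxa').pow_right j
        calc (x⁻¹) ^ (j + 1) * v * x ^ (j + 1)
            = x⁻¹ * ((x⁻¹) ^ j * v * x ^ j) * x := by rw [pow_succ', pow_succ]; group
          _ = x⁻¹ * (a ^ j * v) * x := by rw [ih]
          _ = (x⁻¹ * a ^ j) * v * x := by group
          _ = (a ^ j * x⁻¹) * v * x := by rw [hc1.eq]
          _ = a ^ j * (x⁻¹ * v * x) := by group
          _ = a ^ j * (a * v) := by rw [h1]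
          _ = a ^ (j + 1) * v := by rw [pow_succ]; group
    have h2 := hpow n
    have h3 : (x⁻¹) ^ n * v * x ^ n = v := by
      have := hxn v hvP
      calc (x⁻¹) ^ n * v * x ^ n = (x⁻¹) ^ n * (v * x ^ n) := by group
        _ = (x⁻¹) ^ n * (x ^ n * v) := by rw [this]
        _ = v := by rw [inv_pow]; group
    rw [h3] at h2
    have han : a ^ n = 1 := by
      have : a ^ n * v = 1 * v := by rw [one_mul]; exact h2.symm
      exact mul_right_cancel this
    have ha1 : a = 1 := eq_one_of_pow_coprime P hP a haP n hn han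
    rw [ha1, one_mul] at h1
    apply hvM
    rw [memM]
    refine ⟨hvP, ?_⟩
    calc x * v = x * (x⁻¹ * v * x) := by rw [h1]
      _ = v * x := by group

end

end Cfsg.Agent.Lib.Helper97.Sqf
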