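import Mathlib
import Cfsg.Agent.Lib.Helper85.SqfDefs

/-!
# Project SQF (S4130, helper85), module SQF-[MIN-P] (helper97)
-/

set_option autoImplicit false

namespace Cfsg.Agent.Lib.Helper97.Sqf

open Cfsg Cfsg.Agent.Lib.Helper85.Sqf

section
variable {G : Type*} [Group G]

/-- [MIN-P] -/
theorem centralizes_of_pPower_action [Finite G] {p : ℕ} [Fact p.Prime] (N : Subgroup G) [N.Normal]
    (hNp : IsPGroup p N) (hN : N ≠ ⊥)
    (hmin : ∀ M : Subgroup G, M.Normal → M ≤ N → M = ⊥ ∨ M = N)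
    (A : Subgroup G) [A.Normal]
    (hA : ∀ a ∈ A, ∃ k : ℕ, ∀ v ∈ N, a ^ p ^ k * v = v * a ^ p ^ k) :
    ∀ a ∈ A, ∀ v ∈ N, a * v = v * a := by
  classical
  have hp : p.Prime := Fact.out
  let φ : G →* MulAut ↥N := MulAut.conjNormal
  let Abar : Subgroup (MulAut ↥N) := A.map φ
  have hAbar : IsPGroup p Abar := by
    rintro ⟨f, a, ha, rfl⟩
    obtain ⟨k, hk⟩ := hA a ha
    refine ⟨k, ?_⟩
    apply Subtype.ext
    show φ a ^ p ^ k = 1
    rw [← map_pow]
    apply MulEquiv.ext
    intro v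
    apply Subtype.ext
    show ((MulAut.conjNormal (a ^ p ^ k) v : ↥N) : G) = v
    rw [MulAut.conjNormal_apply, hk v v.2]
    group
  -- `p ∣ |N|`
  have hpN : p ∣ Nat.card ↥N := by
    obtain ⟨k, hk⟩ := (IsPGroup.iff_card).mp hNp
    rw [hk]
    have hk0 : k ≠ 0 := by
      rintro rfl
      rw [pow_zero] at hk
      exact hN ((Subgroup.card_eq_one).mp hk)
    exact dvd_pow_self p hk0
  have h1fix : (1 : ↥N) ∈ MulAction.fixedPoints Abar ↥N := by
    intro f
    show (f : MulAut ↥N) • (1 : ↥N) = 1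
    rw [MulAut.smul_def, map_one]
  obtain ⟨b, hbfix, hb1⟩ :=
    hAbar.exists_fixed_point_of_prime_dvd_card_of_fixed_point (α := ↥N) hpN h1fix
  have hbA : ∀ a ∈ A, a * (b : G) = (b : G) * a := by
    intro a ha
    have h1 : (⟨φ a, a, ha, rfl⟩ : Abar) • b = b := hbfix ⟨φ a, a, ha, rfl⟩
    have h2 : φ a b = b := h1
    have h3 : a * (b : G) * a⁻¹ = (b : G) := by
      rw [← MulAut.conjNormal_apply]
      exact congrArg Subtype.val h2
    calc a * (b : G) = a * (b : G) * a⁻¹ * a := by group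
      _ = (b : G) * a := by rw [h3]
  -- the normal subgroup `D`
  have hDn : (N ⊓ Subgroup.centralizer (A : Set G)).Normal := inferInstance
  have hbD : (b : G) ∈ N ⊓ Subgroup.centralizer (A : Set G) := by
    rw [Subgroup.mem_inf]
    refine ⟨b.2, ?_⟩
    rw [Subgroup.mem_centralizer_iff]
    intro a ha
    exact hbA a ha
  have hD : N ⊓ Subgroup.centralizer (A : Set G) = N := by
    rcases hmin _ hDn inf_le_left with h0 | h0
    · exfalso
      rw [h0, Subgroup.mem_bot] at hbD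
      apply hb1
      apply Subtype.ext
      rw [hbD]
      rfl
    · exact h0
  intro a ha v hv
  have hv' : v ∈ N ⊓ Subgroup.centralizer (A : Set G) := by rw [hD]; exact hv
  rw [Subgroup.mem_inf] at hv'
  exact (Subgroup.mem_centralizer_iff.mp hv'.2) a ha

end

end Cfsg.Agent.Lib.Helper97.Sqf
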