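import Mathlib
import Cfsg.Agent.Lib.Helper60.St3Defs

/-!
# Project STEINBERG phase 3 (helper60), module ST3-[FIELD] (helper97)

Units of a field with more than four elements avoiding small roots of unity.
-/

set_option autoImplicit false

namespace Cfsg.Agent.Lib.Helper97.St3

open Cfsg.Lie Cfsg.Agent.Lib.Helper35.St Cfsg.Agent.Lib.Helper60.St3

universe u v w

variable {D : ChevalleyDatum} {K : Type u} [Field K] {Γ : Type v} [Group Γ] {E : Type w} [Group E]

/-- MODULE ST3-[FIELD] (1) -/
theorem exists_unit3 (hK5 : ∃ s : Finset K, 4 < s.card) :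
    ∃ v : K, v ≠ 0 ∧ v ≠ 1 ∧ v ^ 2 ≠ 1 ∧ v ^ 3 ≠ 1 := by
  classical
  obtain ⟨s, hs⟩ := hK5
  -- an element outside `{0, 1, -1}`
  have hcard3 : ({0, 1, -1} : Finset K).card < s.card := by
    have : ({0, 1, -1} : Finset K).card ≤ 3 := Finset.card_le_three
    omega
  obtain ⟨a, _, haT⟩ := Finset.exists_mem_notMem_of_card_lt_card hcard3
  simp only [Finset.mem_insert, Finset.mem_singleton, not_or] at haT
  obtain ⟨ha0, ha1, ham1⟩ := haT
  have hsq : ∀ x : K, x ≠ 1 → x ≠ -1 → x ^ 2 ≠ 1 := by
    intro x hx1 hxm1 h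
    have : (x - 1) * (x + 1) = 0 := by ring_nf; rw [h]; ring
    rcases mul_eq_zero.mp this with h' | h'
    · exact hx1 (sub_eq_zero.mp h')
    · exact hxm1 (eq_neg_of_add_eq_zero_left h')
  by_cases h3 : a ^ 3 = 1
  swap
  · exact ⟨a, ha0, ha1, hsq a ha1 ham1, h3⟩
  have hquad : a ^ 2 + a + 1 = 0 := by
    have : (a - 1) * (a ^ 2 + a + 1) = 0 := by ring_nf; rw [h3]; ring
    rcases mul_eq_zero.mp this with h' | h'
    · exact absurd (sub_eq_zero.mp h') ha1
    · exact h'
  by_cases h2 : (1 : K) = -1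
  · -- characteristic 2
    have hcard4 : ({0, 1, a, a ^ 2} : Finset K).card < s.card := by
      have : ({0, 1, a, a ^ 2} : Finset K).card ≤ 4 := Finset.card_le_four
      omega
    obtain ⟨b, _, hbT⟩ := Finset.exists_mem_notMem_of_card_lt_card hcard4
    simp only [Finset.mem_insert, Finset.mem_singleton, not_or] at hbT
    obtain ⟨hb0, hb1, hba, hba2⟩ := hbT
    have hbm1 : b ≠ -1 := by rw [← h2]; exact hb1
    refine ⟨b, hb0, hb1, hsq b hb1 hbm1, ?_⟩
    intro hb3
    have hbquad : b ^ 2 + b + 1 = 0 := by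
      have : (b - 1) * (b ^ 2 + b + 1) = 0 := by ring_nf; rw [hb3]; ring
      rcases mul_eq_zero.mp this with h' | h'
      · exact absurd (sub_eq_zero.mp h') hb1
      · exact h'
    have hprod : (b - a) * (b + a + 1) = 0 := by
      have : (b - a) * (b + a + 1) = (b ^ 2 + b + 1) - (a ^ 2 + a + 1) := by ring
      rw [this, hbquad, hquad, sub_zero]
    rcases mul_eq_zero.mp hprod with h' | h'
    · exact hba (sub_eq_zero.mp h')
    · apply hba2
      have : b = -a - 1 := by linear_combination h'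
      rw [this]
      linear_combination -hquad
  · -- characteristic not 2
    refine ⟨-a, neg_ne_zero.mpr ha0, ?_, ?_, ?_⟩
    · intro h
      apply ham1
      rw [← h, neg_neg]
    · rw [neg_sq]
      exact hsq a ha1 ham1
    · intro h
      apply h2
      have : (-a) ^ 3 = -1 := by
        have : (-a) ^ 3 = -(a ^ 3) := by ring
        rw [this, h3]
      rw [← this, h]

/-- MODULE ST3-[FIELD] (2) -/
theorem exists_unit_sc (hK5 : ∃ s : Finset K, 4 < s.card) :
    ∃ v : K, v ≠ 0 ∧ v ≠ 1 ∧ v ^ 2 - v + 1 ≠ 0 := by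
  classical
  obtain ⟨s, hs⟩ := hK5
  set B : Finset K := s.filter (fun x => x ^ 2 - x + 1 = 0) with hB
  have hBcard : B.card ≤ 2 := by
    by_contra hcon
    push Not at hcon
    obtain ⟨x, hx, y, hy, z, hz, hxy, hxz, hyz⟩ := Finset.two_lt_card.mp hcon
    have hx' : x ^ 2 - x + 1 = 0 := (Finset.mem_filter.mp hx).2
    have hy' : y ^ 2 - y + 1 = 0 := (Finset.mem_filter.mp hy).2
    have hz' : z ^ 2 - z + 1 = 0 := (Finset.mem_filter.mp hz).2
    have h1 : x + y = 1 := by
      have : (x - y) * (x + y - 1) = 0 := by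
        have : (x - y) * (x + y - 1) = (x ^ 2 - x + 1) - (y ^ 2 - y + 1) := by ring
        rw [this, hx', hy', sub_zero]
      rcases mul_eq_zero.mp this with h' | h'
      · exact absurd (sub_eq_zero.mp h') hxy
      · linear_combination h'
    have h2 : x + z = 1 := by
      have : (x - z) * (x + z - 1) = 0 := by
        have : (x - z) * (x + z - 1) = (x ^ 2 - x + 1) - (z ^ 2 - z + 1) := by ring
        rw [this, hx', hz', sub_zero]
      rcases mul_eq_zero.mp this with h' | h'
      · exact absurd (sub_eq_zero.mp h') hxz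
      · linear_combination h'
    apply hyz
    linear_combination h1 - h2
  have hcard : (({0, 1} : Finset K) ∪ B).card < s.card := by
    have h1 : (({0, 1} : Finset K) ∪ B).card ≤ ({0, 1} : Finset K).card + B.card :=
      Finset.card_union_le _ _
    have h2 : ({0, 1} : Finset K).card ≤ 2 := Finset.card_le_two
    omega
  obtain ⟨v, hvs, hvT⟩ := Finset.exists_mem_notMem_of_card_lt_card hcard
  simp only [Finset.mem_union, Finset.mem_insert, Finset.mem_singleton, not_or] at hvT
  obtain ⟨⟨hv0, hv1⟩, hvB⟩ := hvT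
  refine ⟨v, hv0, hv1, ?_⟩
  intro h
  exact hvB (Finset.mem_filter.mpr ⟨hvs, h⟩)

end Cfsg.Agent.Lib.Helper97.St3
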