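import Mathlib
import Cfsg.Agent.Lib.Helper60.St3Defs
import Cfsg.Agent.Lib.Helper53.CentralLift

/-!
# Project STEINBERG phase 3 (helper60), module ST3-[SCTOR] (helper97)

`selfComm_of_full`: if the diagonal elements realize every nonzero scalar on the root `s`, and the
field contains `v ≠ 0, 1` with `v² - v + 1 ≠ 0`, then in a central extension all lifts of the root
elements of `s` commute.
-/

set_option autoImplicit false

namespace Cfsg.Agent.Lib.Helper97.St3

open Cfsg.Lie Cfsg.Agent.Lib.Helper35.St Cfsg.Agent.Lib.Helper60.St3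
open Cfsg.Agent.Lib.Helper53.CLift

universe u v w

variable {D : ChevalleyDatum} {K : Type u} [Field K] {Γ : Type v} [Group Γ] {E : Type w} [Group E]

/-- MODULE ST3-[SCTOR] -/
theorem selfComm_of_full (M : Model D K Γ) (ψ : E →* Γ) (hψ : Function.Surjective ψ)
    (hc : ψ.ker ≤ Subgroup.center E) (s : ℕ) (hs : s < D.nroots)
    (hfull : ∀ v : K, v ≠ 0 → ∃ (g : Γ) (χ : ℕ → K), IsDiag M g χ ∧ χ s = v)
    (v : K) (hv0 : v ≠ 0) (hv1 : v ≠ 1) (hv : v ^ 2 - v + 1 ≠ 0) (a b : K) :
    LiftsComm ψ (M.X s a) (M.X s b) := by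
  classical
  -- lifts of the root elements
  choose x hx using fun t : K => hψ (M.X s t)
  -- the root elements of `s` commute
  have hXcomm : ∀ t u : K, M.X s t * M.X s u = M.X s u * M.X s t := by
    intro t u
    rw [M.add s hs, M.add s hs, add_comm]
  -- the pairing
  have hker : ∀ t u, ψ (cm (x t) (x u)) = 1 := by
    intro t u
    rw [map_cm, hx, hx]
    exact cm_eq_one_iff.mpr (hXcomm t u)
  have hcen : ∀ t u (g : E), cm (x t) (x u) * g = g * cm (x t) (x u) :=
    fun t u g => comm_of_map_eq_one ψ hc (hker t u) g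
  have hA1 : ∀ t t' u, cm (x (t + t')) (x u) = cm (x t) (x u) * cm (x t') (x u) := by
    intro t t' u
    have e : cm (x (t + t')) (x u) = cm (x t * x t') (x u) := by
      apply cm_eq_of_map_eq ψ hc _ rfl
      rw [map_mul, hx, hx, hx, M.add s hs]
    have e2 : x t * cm (x t') (x u) * (x t)⁻¹ = cm (x t') (x u) := by
      rw [← hcen t' u (x t), mul_inv_cancel_right]
    rw [e, cm_mul_left, e2, hcen t' u]
  have hA2 : ∀ t u u', cm (x t) (x (u + u')) = cm (x t) (x u) * cm (x t) (x u') := by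
    intro t u u'
    have e : cm (x t) (x (u + u')) = cm (x t) (x u * x u') := by
      apply cm_eq_of_map_eq ψ hc rfl
      rw [map_mul, hx, hx, hx, M.add s hs]
    have e2 : x u * cm (x t) (x u') * (x u)⁻¹ = cm (x t) (x u') := by
      rw [← hcen t u' (x u), mul_inv_cancel_right]
    rw [e, cm_mul_right, e2]
  have hW : ∀ w : K, w ≠ 0 → ∀ t u, cm (x (w * t)) (x (w * u)) = cm (x t) (x u) := by
    intro w hw t u
    obtain ⟨g, χ, hg, hχ⟩ := hfull w hw
    obtain ⟨η, hη⟩ := hψ g
    have e1 : ψ (η * x t * η⁻¹) = ψ (x (w * t)) := by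
      rw [map_mul, map_mul, map_inv, hη, hx, hx, (hg s hs).2, hχ]
    have e2 : ψ (η * x u * η⁻¹) = ψ (x (w * u)) := by
      rw [map_mul, map_mul, map_inv, hη, hx, hx, (hg s hs).2, hχ]
    rw [← cm_eq_of_map_eq ψ hc e1 e2, ← conj_cm, ← hcen t u η, mul_inv_cancel_right]
  have hz1 : ∀ u, cm (x 0) (x u) = 1 := by
    intro u
    have := hA1 0 0 u
    rw [add_zero] at this
    exact mul_left_cancel (a := cm (x 0) (x u)) (by rw [← this, mul_one])
  have hz2 : ∀ t, cm (x t) (x 0) = 1 := by
    intro t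
    have := hA2 t 0 0
    rw [add_zero] at this
    exact mul_left_cancel (a := cm (x t) (x 0)) (by rw [← this, mul_one])
  have hn1 : ∀ t u, cm (x (-t)) (x u) = (cm (x t) (x u))⁻¹ := by
    intro t u
    have := hA1 t (-t) u
    rw [add_neg_cancel, hz1] at this
    exact (inv_eq_of_mul_eq_one_right this.symm).symm
  have hn2 : ∀ t u, cm (x t) (x (-u)) = (cm (x t) (x u))⁻¹ := by
    intro t u
    have := hA2 t u (-u)
    rw [add_neg_cancel, hz2] at this
    exact (inv_eq_of_mul_eq_one_right this.symm).symm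
  -- the key identity
  have h1v : (1 : K) - v ≠ 0 := sub_ne_zero.mpr (Ne.symm hv1)
  have hkey : ∀ t u, cm (x t) (x u) = cm (x (v * t)) (x u) * cm (x t) (x (v * u)) := by
    intro t u
    have h1 := hW (1 - v) h1v t u
    have et : (1 - v) * t = t + -(v * t) := by ring
    have eu : (1 - v) * u = u + -(v * u) := by ring
    rw [et, eu, hA1, hA2, hA2, hn2, hn1, hn1, hn2, inv_inv, hW v hv0] at h1
    -- h1 : X * P⁻¹ * (Q⁻¹ * X) = X
    set X := cm (x t) (x u) with hX
    set P := cm (x t) (x (v * u)) with hP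
    set Q := cm (x (v * t)) (x u) with hQ
    have h2 : P⁻¹ * (Q⁻¹ * X) = 1 := by
      have : X * (P⁻¹ * (Q⁻¹ * X)) = X * 1 := by
        rw [mul_one, ← mul_assoc]
        exact h1
      exact mul_left_cancel this
    have h3 : Q⁻¹ * X = P := by
      have := congrArg (fun z => P * z) h2
      simpa using this
    have h4 : X = Q * P := by
      rw [← h3, mul_inv_cancel_left]
    exact h4
  have hinv : ∀ t u, cm (x (v * t)) (x u) = cm (x t) (x (v⁻¹ * u)) := by
    intro t u
    have := hW v⁻¹ (inv_ne_zero hv0) (v * t) u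
    rw [inv_mul_cancel_left₀ hv0] at this
    exact this.symm
  have hkill : ∀ t u, cm (x t) (x ((v⁻¹ + v - 1) * u)) = 1 := by
    intro t u
    have e : (v⁻¹ + v - 1) * u = (v⁻¹ * u + v * u) + -u := by ring
    rw [e, hA2, hA2, hn2, ← hinv, ← hkey, mul_inv_cancel]
  have hcne : v⁻¹ + v - 1 ≠ 0 := by
    intro h
    apply hv
    have : v ^ 2 - v + 1 = v * (v⁻¹ + v - 1) := by
      field_simp
      ring
    rw [this, h, mul_zero]
  have hall : ∀ t u, cm (x t) (x u) = 1 := by
    intro t u
    have := hkill t ((v⁻¹ + v - 1)⁻¹ * u)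
    rwa [mul_inv_cancel_left₀ hcne] at this
  -- conclusion
  intro y y' hy hy'
  have : cm y y' = cm (x a) (x b) := by
    apply cm_eq_of_map_eq ψ hc
    · rw [hy, hx]
    · rw [hy', hx]
  exact cm_eq_one_iff.mp (by rw [this, hall])

end Cfsg.Agent.Lib.Helper97.St3
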