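import Mathlib
import Cfsg.Agent.Lib.Helper43.SUMD.Basic

/-!
# Project SUMD (helper43, S2334 + S2335), module SUMD-[T-ARITH] (helper97)
-/

set_option autoImplicit false

namespace Cfsg.Agent.Lib.Helper43.SUMD

open Matrix Module Cfsg.Agent.S0837 Cfsg.Agent.S0781 Cfsg.Agent.S2644 Cfsg.Agent.Lib.Helper37

namespace TArith

theorem bnd_even_add (k m : ℕ) : (k + 2) * bnd (k + 1) (2 * m) + 1 = (k + 1) ^ (2 * m) := by
  induction m with
  | zero => simp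
  | succ m ih =>
    have e : 2 * (m + 1) = 2 * m + 2 := by ring
    rw [e, bnd_add_two, Nat.add_sub_cancel, pow_add, ← ih]
    ring

theorem bnd_odd_add (k m : ℕ) :
    (k + 2) * bnd (k + 1) (2 * m + 1) + (k + 1) = (k + 1) ^ (2 * m + 1) := by
  induction m with
  | zero => simp
  | succ m ih =>
    have e : 2 * (m + 1) + 1 = (2 * m + 1) + 2 := by ring
    rw [e, bnd_add_two, Nat.add_sub_cancel, pow_add (k + 1) (2 * m + 1) 2, ← ih]
    ring

end TArith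

section T

/-- **[T-ARITH]** -/
theorem bnd_mul_even (q : ℕ) (hq : 1 ≤ q) (n : ℕ) (hn : Even n) : (q + 1) * bnd q n = q ^ n - 1 := by
  obtain ⟨k, rfl⟩ : ∃ k, q = k + 1 := ⟨q - 1, by omega⟩
  obtain ⟨m, rfl⟩ := hn
  have h := TArith.bnd_even_add k m
  rw [two_mul] at h
  have e : k + 1 + 1 = k + 2 := rfl
  rw [e]
  omega

theorem bnd_mul_odd (q : ℕ) (hq : 1 ≤ q) (n : ℕ) (hn : Odd n) : (q + 1) * bnd q n = q ^ n - q := by
  obtain ⟨k, rfl⟩ : ∃ k, q = k + 1 := ⟨q - 1, by omega⟩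
  obtain ⟨m, rfl⟩ := hn
  have h := TArith.bnd_odd_add k m
  have e : k + 1 + 1 = k + 2 := rfl
  rw [e]
  omega

theorem bnd_eq_even (q : ℕ) (hq : 1 ≤ q) (n : ℕ) (hn : Even n) : (q ^ n - 1) / (q + 1) = bnd q n := by
  rw [← bnd_mul_even q hq n hn]
  exact Nat.mul_div_cancel_left _ (Nat.succ_pos q)

theorem bnd_eq_odd (q : ℕ) (hq : 1 ≤ q) (n : ℕ) (hn : Odd n) : (q ^ n - q) / (q + 1) = bnd q n := by
  rw [← bnd_mul_odd q hq n hn]
  exact Nat.mul_div_cancel_left _ (Nat.succ_pos q)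

end T

end Cfsg.Agent.Lib.Helper43.SUMD
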