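import Mathlib
import Cfsg.Agent.Lib.Helper43.SUMD.Basic

/-!
# Project SUMD (helper43, S2334 + S2335), module SUMD-[U-Z] (helper97)

The transvection groups `Z_v`.  `card_Zsub` is in `SumdUZCard.lean` (needs `[F-CARD]`); here: `card_Zsub_eq`
(bijection with the trace-zero elements) and the five other `[U-Z]` statements.
-/

set_option autoImplicit false

namespace Cfsg.Agent.Lib.Helper43.SUMD

open Matrix Module Cfsg.Agent.S0837 Cfsg.Agent.S0781 Cfsg.Agent.S2644 Cfsg.Agent.Lib.Helper37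

namespace UZ

variable {F : Type*} [Field F] (σ : F →+* F) {n : ℕ}

theorem tv_zero_coeff (v : Fin n → F) : tv σ v 0 = 1 := by
  unfold tv
  exact sieg_zero σ v

theorem tv_injective (hσ2 : ∀ a, σ (σ a) = a) (v : Fin n → F) (hv0 : v ≠ 0) {c c' : F}
    (h : tv σ v c = tv σ v c') : c = c' := by
  obtain ⟨y, hy⟩ := exists_hf_ne_zero σ hσ2 v hv0
  have h1 := congrArg (fun M => M *ᵥ y) h
  simp only [tv_mulVec] at h1
  have h2 : (c * hf σ y v) • v = (c' * hf σ y v) • v := add_left_cancel h1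
  obtain ⟨i, hi⟩ : ∃ i, v i ≠ 0 := by
    by_contra hcon
    push Not at hcon
    exact hv0 (funext hcon)
  have h3 := congrFun h2 i
  simp only [Pi.smul_apply, smul_eq_mul] at h3
  have h4 : c * hf σ y v = c' * hf σ y v := mul_right_cancel₀ hi h3
  exact mul_right_cancel₀ hy h4

/-- `Z_v` is in bijection with the trace-zero elements -/
theorem card_Zsub_eq (hσ2 : ∀ a, σ (σ a) = a) (v : Fin n → F) (hv0 : v ≠ 0)
    (hv : hf σ v v = 0) :
    Nat.card (Zsub σ v hv) = Nat.card {c : F // c + σ c = 0} := by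
  symm
  apply Nat.card_congr
  refine Equiv.ofBijective
    (fun c : {c : F // c + σ c = 0} =>
      (⟨tvS σ hσ2 v c.1 hv c.2, tvS_mem_Zsub σ hσ2 v c.1 hv c.2⟩ : ↥(Zsub σ v hv))) ⟨?_, ?_⟩
  · intro c c' h
    have h1 : tvS σ hσ2 v c.1 hv c.2 = tvS σ hσ2 v c'.1 hv c'.2 := congrArg Subtype.val h
    have h2 : tv σ v c.1 = tv σ v c'.1 := by
      rw [← smat_tvS σ hσ2 v c.1 hv c.2, ← smat_tvS σ hσ2 v c'.1 hv c'.2, h1]
    exact Subtype.ext (tv_injective σ hσ2 v hv0 h2)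
  · rintro ⟨g, c, hc, hg⟩
    refine ⟨⟨c, hc⟩, ?_⟩
    apply Subtype.ext
    apply smat_injective
    rw [smat_tvS]
    exact hg.symm

end UZ

section U
variable {F : Type*} [Field F] [Fintype F] (σ : F →+* F) {n : ℕ}

/-- **[U-Z]** all non-identity elements of `Z_v` are conjugate in `SU_n`, `n ≥ 3` -/
theorem Zsub_conj_elts (hσ : σ ≠ RingHom.id F) (hσ2 : ∀ a, σ (σ a) = a) (hn : 3 ≤ n)
    (v : Fin n → F) (hv0 : v ≠ 0) (hv : hf σ v v = 0) :
    ∀ z ∈ Zsub σ v hv, ∀ z' ∈ Zsub σ v hv, z ≠ 1 → z' ≠ 1 →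
      ∃ g : ↥(SUg σ n), g * z * g⁻¹ = z' := by
  rintro z ⟨c, hc, hz⟩ z' ⟨c', hc', hz'⟩ hz1 hz'1
  have hc0 : c ≠ 0 := by
    rintro rfl
    apply hz1
    apply smat_injective
    rw [hz, UZ.tv_zero_coeff, smat_one]
  have hc'0 : c' ≠ 0 := by
    rintro rfl
    apply hz'1
    apply smat_injective
    rw [hz', UZ.tv_zero_coeff, smat_one]
  obtain ⟨M, hdet, hpres, hM⟩ := exists_conj σ hσ hσ2 hn v v c c' hv0 hv0 hc0 hc'0 hv hv hc hc'
  refine ⟨mkS M hdet hpres, ?_⟩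
  rw [mul_inv_eq_iff_eq_mul]
  apply smat_injective
  rw [smat_mul, smat_mul, smat_mkS, hz, hz', hM]

/-- **[U-Z]** `Z_v` is abelian -/
theorem Zsub_comm (v : Fin n → F) (hv : hf σ v v = 0) :
    ∀ a ∈ Zsub σ v hv, ∀ b ∈ Zsub σ v hv, a * b = b * a := by
  rintro a ⟨c, _, ha⟩ b ⟨c', _, hb⟩
  apply smat_injective
  rw [smat_mul, smat_mul, ha, hb, tv_mul_tv σ v hv, tv_mul_tv σ v hv, add_comm]

/-- **[U-Z]** `g Z_v g⁻¹ = Z_{g v}` -/
theorem Zsub_map_conj (hσ2 : ∀ a, σ (σ a) = a) (v : Fin n → F) (hv : hf σ v v = 0)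
    (g : ↥(SUg σ n)) :
    (Zsub σ v hv).map (MulAut.conj g).toMonoidHom =
      Zsub σ (smat g *ᵥ v) (by rw [smat_preserves, hv]) := by
  ext x
  simp only [Subgroup.mem_map, MulEquiv.coe_toMonoidHom, MulAut.conj_apply]
  constructor
  · rintro ⟨z, ⟨c, hc, hz⟩, rfl⟩
    refine ⟨c, hc, ?_⟩
    rw [smat_mul, smat_mul, hz, tv_conj σ (smat g) (smat_preserves g), Matrix.mul_assoc,
      smat_mul_inv, Matrix.mul_one]
  · rintro ⟨c, hc, hx⟩
    refine ⟨tvS σ hσ2 v c hv hc, tvS_mem_Zsub σ hσ2 v c hv hc, ?_⟩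
    apply smat_injective
    rw [smat_mul, smat_mul, smat_tvS, tv_conj σ (smat g) (smat_preserves g), Matrix.mul_assoc,
      smat_mul_inv, Matrix.mul_one, hx]

/-- **[U-Z]** `Z_{a v} = Z_v` -/
theorem Zsub_smul (hσ2 : ∀ a, σ (σ a) = a) (v : Fin n → F) (hv : hf σ v v = 0) (a : F)
    (ha : a ≠ 0) :
    Zsub σ (a • v) (by rw [hf_smul_left, hf_smul_right, hv, mul_zero, mul_zero]) = Zsub σ v hv := by
  have hσa : σ a ≠ 0 := map_ne_zero_of_invol σ hσ2 ha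
  ext x
  constructor
  · rintro ⟨c, hc, hx⟩
    refine ⟨c * (a * σ a), ?_, ?_⟩
    · rw [map_mul, map_mul, hσ2]
      linear_combination (a * σ a) * hc
    · rw [hx, tv_smul_center σ hσ2]
  · rintro ⟨c, hc, hx⟩
    refine ⟨c / (a * σ a), ?_, ?_⟩
    · rw [map_div₀, map_mul, hσ2]
      field_simp
      linear_combination hc
    · rw [hx, tv_smul_center σ hσ2]
      congr 1
      field_simp

/-- **[U-Z]** `SU_n` is transitive on non-zero isotropic vectors, `n ≥ 3` -/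
theorem exists_smat_mulVec_eq (hσ : σ ≠ RingHom.id F) (hσ2 : ∀ a, σ (σ a) = a) (hn : 3 ≤ n)
    (z z' : Fin n → F) (hz0 : z ≠ 0) (hz'0 : z' ≠ 0) (hz : hf σ z z = 0) (hz' : hf σ z' z' = 0) :
    ∃ g : ↥(SUg σ n), smat g *ᵥ z = z' := by
  obtain ⟨t, ht, htz⟩ := rel_isotropic σ hσ hσ2 hn z z' hz0 hz'0 hz hz'
  exact ⟨⟨t, TG_le_SUg hσ2 ht⟩, htz⟩

end U

end Cfsg.Agent.Lib.Helper43.SUMD
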