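import Mathlib
import Cfsg.Agent.Lib.Helper43.SUMD.Basic
import Cfsg.Agent.Lib.Helper97.SumdUZ

/-!
# Project SUMD (helper43, S2334 + S2335), module SUMD-[U-Z] (helper97): `card_Zsub`

Self-contained (own copy `UZ.card_trace_zero'` of `[F-CARD]`).
-/

set_option autoImplicit false

namespace Cfsg.Agent.Lib.Helper43.SUMD

open Matrix Module Cfsg.Agent.S0837 Cfsg.Agent.S0781 Cfsg.Agent.S2644 Cfsg.Agent.Lib.Helper37

namespace UZ

open Polynomial in
theorem card_subtype_le_natDegree {F : Type*} [Field F] [Fintype F] (p : F[X]) (hp : p ≠ 0)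
    (P : F → Prop) (hP : ∀ x, P x → p.IsRoot x) : Nat.card {x // P x} ≤ p.natDegree := by
  classical
  rw [Nat.card_eq_fintype_card, Fintype.card_subtype]
  calc (Finset.univ.filter P).card ≤ p.roots.toFinset.card := by
        apply Finset.card_le_card
        intro x hx
        rw [Finset.mem_filter] at hx
        rw [Multiset.mem_toFinset, Polynomial.mem_roots hp]
        exact hP x hx.2
    _ ≤ Multiset.card p.roots := Multiset.toFinset_card_le _
    _ ≤ p.natDegree := Polynomial.card_roots' p

open Polynomial in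
/-- own copy of **[F-CARD]** -/
theorem card_trace_zero' {F : Type*} [Field F] [Fintype F] (σ : F →+* F) {q : ℕ}
    (hF : Fintype.card F = q ^ 2) (hσq : ∀ x, σ x = x ^ q) :
    Nat.card {c : F // c + σ c = 0} = q := by
  classical
  have hq2 : 2 ≤ q := by
    have h1 : 1 < Fintype.card F := Fintype.one_lt_card
    rw [hF] at h1
    by_contra hcon
    have : q ≤ 1 := by omega
    have : q ^ 2 ≤ 1 ^ 2 := Nat.pow_le_pow_left this 2
    omega
  have hσ2 : ∀ a, σ (σ a) = a := by
    intro a
    rw [hσq, hσq, ← pow_mul, ← sq, ← hF, FiniteField.pow_card]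
  -- upper bound for `T₀`
  have hle1 : Nat.card {c : F // c + σ c = 0} ≤ q := by
    have hdeg : (X ^ q + X : F[X]).natDegree = q := by
      rw [natDegree_add_eq_left_of_natDegree_lt, natDegree_X_pow]
      rw [natDegree_X_pow, natDegree_X]
      omega
    have hne : (X ^ q + X : F[X]) ≠ 0 := by
      intro h0
      rw [h0, natDegree_zero] at hdeg
      omega
    have := card_subtype_le_natDegree (X ^ q + X : F[X]) hne (fun c => c + σ c = 0) (by
      intro x hx
      rw [IsRoot.def, eval_add, eval_pow, eval_X, ← hσq, add_comm]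
      exact hx)
    rwa [hdeg] at this
  -- upper bound for the fixed field
  have hle2 : Nat.card {c : F // σ c = c} ≤ q := by
    have hdeg : (X ^ q - X : F[X]).natDegree = q := FiniteField.X_pow_card_sub_X_natDegree_eq F hq2
    have hne : (X ^ q - X : F[X]) ≠ 0 := FiniteField.X_pow_card_sub_X_ne_zero F hq2
    have := card_subtype_le_natDegree (X ^ q - X : F[X]) hne (fun c => σ c = c) (by
      intro x hx
      rw [IsRoot.def, eval_sub, eval_pow, eval_X, ← hσq, sub_eq_zero]
      exact hx)
    rwa [hdeg] at this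
  -- the trace map
  let T : F →+ F := AddMonoidHom.id F + σ.toAddMonoidHom
  have hT : ∀ c, T c = c + σ c := fun c => rfl
  have hker : Nat.card T.ker = Nat.card {c : F // c + σ c = 0} := by
    apply Nat.card_congr
    exact Equiv.subtypeEquivRight (fun c => by rw [AddMonoidHom.mem_ker, hT])
  have hrange : Nat.card T.range ≤ Nat.card {c : F // σ c = c} := by
    apply Nat.card_le_card_of_injective
      (fun x : T.range => (⟨x.1, by
        obtain ⟨c, hc⟩ := x.2
        rw [← hc, hT, map_add, hσ2, add_comm]⟩ : {c : F // σ c = c}))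
    intro x y hxy
    have h1 : (x : F) = (y : F) := congrArg (fun z : {c : F // σ c = c} => (z : F)) hxy
    exact Subtype.ext h1
  have hprod : Nat.card F = Nat.card T.ker * Nat.card T.range := by
    have h1 := AddSubgroup.card_eq_card_quotient_mul_card_addSubgroup T.ker
    rw [h1, mul_comm]
    congr 1
    exact Nat.card_congr (QuotientAddGroup.quotientKerEquivRange T).toEquiv
  have hFq : Nat.card F = q ^ 2 := by rw [Nat.card_eq_fintype_card, hF]
  rw [hFq, hker] at hprod
  -- arithmetic
  set a := Nat.card {c : F // c + σ c = 0}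
  have hb : Nat.card T.range ≤ q := hrange.trans hle2
  by_contra hne
  have hlt : a < q := lt_of_le_of_ne hle1 hne
  have : a * Nat.card T.range < q * q := by
    calc a * Nat.card T.range ≤ a * q := Nat.mul_le_mul_left _ hb
      _ < q * q := Nat.mul_lt_mul_of_pos_right hlt (by omega)
  rw [← hprod, sq] at this
  exact lt_irrefl _ this

end UZ

section U
variable {F : Type*} [Field F] [Fintype F] (σ : F →+* F) {n : ℕ}

/-- **[U-Z]** `|Z_v| = q` -/
theorem card_Zsub {q : ℕ} (hF : Fintype.card F = q ^ 2) (hσq : ∀ x, σ x = x ^ q)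
    (hσ2 : ∀ a, σ (σ a) = a) (v : Fin n → F) (hv0 : v ≠ 0) (hv : hf σ v v = 0) :
    Nat.card (Zsub σ v hv) = q := by
  rw [UZ.card_Zsub_eq σ hσ2 v hv0 hv]
  exact UZ.card_trace_zero' σ hF hσq

end U

end Cfsg.Agent.Lib.Helper43.SUMD
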